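import Mathlib
import Cfsg.Prelude.Def_PLocal
import Cfsg.Agent.Lib.Helper70.Regular

set_option autoImplicit false

namespace Cfsg.Agent.Lib.Helper38.RegularPow

open scoped commutatorElement
open Subgroup

variable {G : Type*} [Group G]

/-- Regularity at level `n`: `(ab)^(p^n) = a^(p^n) b^(p^n) c` with `c` a product of `p^n`-th
powers of elements of the derived subgroup of `⟨a, b⟩`. -/
def Reg (p n : ℕ) (G : Type*) [Group G] : Prop :=
  ∀ a b : G, ∃ c ∈ Cfsg.powerClosure p n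
    ⁅closure ({a, b} : Set G), closure ({a, b} : Set G)⁆,
    (a * b) ^ (p ^ n) = a ^ (p ^ n) * b ^ (p ^ n) * c

theorem powerClosure_mono (p n : ℕ) {H K : Subgroup G} (h : H ≤ K) :
    Cfsg.powerClosure p n H ≤ Cfsg.powerClosure p n K := by
  unfold Cfsg.powerClosure
  apply Subgroup.closure_mono
  rintro _ ⟨x, hx, rfl⟩
  exact ⟨x, h hx, rfl⟩

theorem powerClosure_le (p n : ℕ) (H : Subgroup G) : Cfsg.powerClosure p n H ≤ H := by
  unfold Cfsg.powerClosure
  rw [closure_le]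
  rintro _ ⟨x, hx, rfl⟩
  exact H.pow_mem hx _

theorem pow_mem_powerClosure (p n : ℕ) {H : Subgroup G} {x : G} (hx : x ∈ H) :
    x ^ (p ^ n) ∈ Cfsg.powerClosure p n H :=
  subset_closure ⟨x, hx, rfl⟩

theorem commutator_self_le (K : Subgroup G) : ⁅K, K⁆ ≤ K :=
  commutator_le.mpr fun _ h₁ _ h₂ =>
    K.mul_mem (K.mul_mem (K.mul_mem h₁ h₂) (K.inv_mem h₁)) (K.inv_mem h₂)

/-- L1: in a finite `p`-group regular at level `n`, the `p^n`-th powers of the elements of a
subgroup are closed under multiplication. -/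
theorem pow_mul_closed [Finite G] {p : ℕ} [Fact p.Prime] (hG : IsPGroup p G) (n : ℕ)
    (hR : Reg p n G) (H : Subgroup G) :
    ∀ x ∈ H, ∀ y ∈ H, ∃ z ∈ H, x ^ (p ^ n) * y ^ (p ^ n) = z ^ (p ^ n) := by
  obtain ⟨m, hm⟩ : ∃ m, Nat.card H = m := ⟨_, rfl⟩
  induction m using Nat.strong_induction_on generalizing H with
  | _ m ih =>
    intro x hx y hy
    by_cases hc : Commute x y
    · exact ⟨x * y, H.mul_mem hx hy, (hc.mul_pow _).symm⟩
    · have hc' : ¬ Commute (x * y) y := by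
        intro h
        apply hc
        have h1 : x * y * y = y * (x * y) := h
        have h2 : x * y = y * x := by
          have := congrArg (fun t => t * y⁻¹) h1
          simpa [mul_assoc] using this
        exact h2
      obtain ⟨M, hxyM, hMle, hMnorm, hMcard⟩ :=
        Cfsg.Agent.Lib.Helper70.Regular.exists_proper_normal_of_not_commute hG (x * y) y hc'
      have hK2H : closure ({x * y, y} : Set G) ≤ H := by
        rw [closure_le]
        rintro w (rfl | rfl)
        · exact H.mul_mem hx hy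
        · exact hy
      have hyK2 : y ∈ closure ({x * y, y} : Set G) := subset_closure (by simp)
      have hxK2 : x ∈ closure ({x * y, y} : Set G) := by
        have h1 : x * y ∈ closure ({x * y, y} : Set G) := subset_closure (by simp)
        have := (closure ({x * y, y} : Set G)).mul_mem h1 (inv_mem hyK2)
        simpa using this
      have hKK2 : closure ({x, y} : Set G) ≤ closure ({x * y, y} : Set G) := by
        rw [closure_le]
        rintro w (rfl | rfl)
        · exact hxK2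
        · exact hyK2
      have hcomm : ⁅x * y, y⁆ ∈ M := by
        have h1 : y * (x * y)⁻¹ * y⁻¹ ∈ M :=
          (mem_normalizer_iff.mp (hMnorm hyK2) _).mp (M.inv_mem hxyM)
        have h2 : ⁅x * y, y⁆ = (x * y) * (y * (x * y)⁻¹ * y⁻¹) := by
          simp only [commutatorElement_def]
          group
        rw [h2]
        exact M.mul_mem hxyM h1
      have hK2' : ⁅closure ({x * y, y} : Set G), closure ({x * y, y} : Set G)⁆ ≤ M :=
        Cfsg.Agent.Lib.Helper70.Regular.commutator_closure_pair_le (x * y) y M hMnorm hcomm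
      have hK' : ⁅closure ({x, y} : Set G), closure ({x, y} : Set G)⁆ ≤ M :=
        (commutator_mono hKK2 hKK2).trans hK2'
      have hMH : M ≤ H := hMle.trans hK2H
      have hcard : Nat.card M < m := by
        have h1 : Nat.card (closure ({x * y, y} : Set G)) ≤ Nat.card H :=
          Subgroup.card_le_of_le hK2H
        omega
      have ihM := ih (Nat.card M) hcard M rfl
      -- the set of p^n-th powers of M is a subgroup
      obtain ⟨T, hT⟩ : ∃ T : Subgroup G, ∀ w, w ∈ T ↔ ∃ z ∈ M, w = z ^ (p ^ n) := by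
        refine ⟨{ carrier := {w | ∃ z ∈ M, w = z ^ (p ^ n)}
                  mul_mem' := ?_
                  one_mem' := ⟨1, M.one_mem, by simp⟩
                  inv_mem' := ?_ }, fun w => Iff.rfl⟩
        · rintro _ _ ⟨u, hu, rfl⟩ ⟨v, hv, rfl⟩
          obtain ⟨z, hz, hzeq⟩ := ihM u hu v hv
          exact ⟨z, hz, hzeq⟩
        · rintro _ ⟨u, hu, rfl⟩
          exact ⟨u⁻¹, M.inv_mem hu, by simp⟩
      obtain ⟨c, hcmem, hceq⟩ := hR x y
      have hcT : c ∈ T := by
        have hle : Cfsg.powerClosure p n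
            ⁅closure ({x, y} : Set G), closure ({x, y} : Set G)⁆ ≤ T := by
          unfold Cfsg.powerClosure
          rw [closure_le]
          rintro _ ⟨w, hw, rfl⟩
          exact (hT _).mpr ⟨w, hK' hw, rfl⟩
        exact hle hcmem
      have hxyT : (x * y) ^ (p ^ n) ∈ T := (hT _).mpr ⟨x * y, hxyM, rfl⟩
      have hprod : x ^ (p ^ n) * y ^ (p ^ n) = (x * y) ^ (p ^ n) * c⁻¹ := by
        rw [hceq]
        group
      have hmem : x ^ (p ^ n) * y ^ (p ^ n) ∈ T := by
        rw [hprod]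
        exact T.mul_mem hxyT (T.inv_mem hcT)
      obtain ⟨z, hz, hzeq⟩ := (hT _).mp hmem
      exact ⟨z, hMH hz, hzeq⟩

/-- The `p^n`-th powers of the elements of `H` form the subgroup `powerClosure p n H`. -/
theorem setOf_pow_eq [Finite G] {p : ℕ} [Fact p.Prime] (hG : IsPGroup p G) (n : ℕ)
    (hR : Reg p n G) (H : Subgroup G) :
    {y : G | ∃ x ∈ H, y = x ^ (p ^ n)} = (Cfsg.powerClosure p n H : Set G) := by
  apply Set.Subset.antisymm
  · intro y hy
    exact subset_closure hy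
  · have hle : Cfsg.powerClosure p n H ≤
        ({ carrier := {w | ∃ z ∈ H, w = z ^ (p ^ n)}
           mul_mem' := by
             rintro _ _ ⟨u, hu, rfl⟩ ⟨v, hv, rfl⟩
             obtain ⟨z, hz, hzeq⟩ := pow_mul_closed hG n hR H u hu v hv
             exact ⟨z, hz, hzeq⟩
           one_mem' := ⟨1, H.one_mem, by simp⟩
           inv_mem' := by
             rintro _ ⟨u, hu, rfl⟩
             exact ⟨u⁻¹, H.inv_mem hu, by simp⟩ } : Subgroup G) := by
      unfold Cfsg.powerClosure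
      rw [closure_le]
      intro y hy
      exact hy
    intro y hy
    exact hle hy

theorem exists_pow_of_mem [Finite G] {p : ℕ} [Fact p.Prime] (hG : IsPGroup p G) (n : ℕ)
    (hR : Reg p n G) (H : Subgroup G) {y : G} (hy : y ∈ Cfsg.powerClosure p n H) :
    ∃ x ∈ H, y = x ^ (p ^ n) := by
  have h : y ∈ (Cfsg.powerClosure p n H : Set G) := hy
  rw [← setOf_pow_eq hG n hR H] at h
  exact h

/-- L2: `⁅x^(p^n), y⁆` lies in `powerClosure p n ⁅H, H⁆` for `x, y ∈ H`. -/
theorem commutator_pow_mem {p : ℕ} (n : ℕ) (hR : Reg p n G) (H : Subgroup G) {x y : G}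
    (hx : x ∈ H) (hy : y ∈ H) : ⁅x ^ (p ^ n), y⁆ ∈ Cfsg.powerClosure p n ⁅H, H⁆ := by
  have hd : ⁅x, y⁆ ∈ ⁅H, H⁆ := commutator_mem_commutator hx hy
  obtain ⟨c, hc, hceq⟩ := hR x⁻¹ ⁅x, y⁆
  have h1 : x⁻¹ * ⁅x, y⁆ = y * x⁻¹ * y⁻¹ := by
    simp only [commutatorElement_def]
    group
  have h2 : (y * x⁻¹ * y⁻¹) ^ (p ^ n) = y * (x⁻¹) ^ (p ^ n) * y⁻¹ := conj_pow
  have key : ⁅x ^ (p ^ n), y⁆ = ⁅x, y⁆ ^ (p ^ n) * c := by
    have h3 : ⁅x ^ (p ^ n), y⁆ = x ^ (p ^ n) * (y * (x⁻¹) ^ (p ^ n) * y⁻¹) := by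
      rw [commutatorElement_def, inv_pow]
      group
    rw [h3, ← h2, ← h1, hceq, inv_pow]
    group
  rw [key]
  have hcl : closure ({x⁻¹, ⁅x, y⁆} : Set G) ≤ H := by
    rw [closure_le]
    rintro w (rfl | rfl)
    · exact H.inv_mem hx
    · exact commutator_self_le H hd
  exact (Cfsg.powerClosure p n ⁅H, H⁆).mul_mem (pow_mem_powerClosure p n hd)
    (powerClosure_mono p n (commutator_mono hcl hcl) hc)

theorem commutator_powerClosure_le [Finite G] {p : ℕ} [Fact p.Prime] (hG : IsPGroup p G) (n : ℕ)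
    (hR : Reg p n G) (H : Subgroup G) :
    ⁅Cfsg.powerClosure p n H, Cfsg.powerClosure p n H⁆ ≤ Cfsg.powerClosure p n ⁅H, H⁆ := by
  rw [commutator_le]
  intro g₁ h₁ g₂ h₂
  obtain ⟨x, hx, rfl⟩ := exists_pow_of_mem hG n hR H h₁
  exact commutator_pow_mem n hR H hx (powerClosure_le p n H h₂)

theorem pow_pow_succ (t : G) (p n : ℕ) : (t ^ (p ^ 1)) ^ (p ^ n) = t ^ (p ^ (n + 1)) := by
  rw [← pow_mul]
  congr 1
  ring

/-- Level 1 and level `n` regularity give level `n + 1`. -/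
theorem reg_succ [Finite G] {p : ℕ} [Fact p.Prime] (hG : IsPGroup p G) (n : ℕ)
    (h1 : Reg p 1 G) (hn : Reg p n G) : Reg p (n + 1) G := by
  intro a b
  obtain ⟨K, hK⟩ : ∃ K : Subgroup G, K = closure ({a, b} : Set G) := ⟨_, rfl⟩
  rw [← hK]
  have haK : a ∈ K := by rw [hK]; exact subset_closure (by simp)
  have hbK : b ∈ K := by rw [hK]; exact subset_closure (by simp)
  obtain ⟨c₁, hc₁, hab⟩ := h1 a b
  rw [← hK] at hc₁
  obtain ⟨z, hz, hzc⟩ := exists_pow_of_mem hG 1 h1 ⁅K, K⁆ hc₁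
  obtain ⟨d, hd, hABC⟩ := hn (a ^ (p ^ 1) * b ^ (p ^ 1)) c₁
  obtain ⟨e, he, hAB⟩ := hn (a ^ (p ^ 1)) (b ^ (p ^ 1))
  -- subgroups inside powerClosure p 1 K
  have hA : a ^ (p ^ 1) ∈ Cfsg.powerClosure p 1 K := pow_mem_powerClosure p 1 haK
  have hB : b ^ (p ^ 1) ∈ Cfsg.powerClosure p 1 K := pow_mem_powerClosure p 1 hbK
  have hC : c₁ ∈ Cfsg.powerClosure p 1 K := powerClosure_mono p 1 (commutator_self_le K) hc₁
  have hcl1 : closure ({a ^ (p ^ 1), b ^ (p ^ 1)} : Set G) ≤ Cfsg.powerClosure p 1 K := by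
    rw [closure_le]
    rintro w (rfl | rfl)
    · exact hA
    · exact hB
  have hcl2 : closure ({a ^ (p ^ 1) * b ^ (p ^ 1), c₁} : Set G) ≤ Cfsg.powerClosure p 1 K := by
    rw [closure_le]
    rintro w (rfl | rfl)
    · exact (Cfsg.powerClosure p 1 K).mul_mem hA hB
    · exact hC
  have hL2 := commutator_powerClosure_le hG 1 h1 K
  -- powerClosure p n of a subgroup of powerClosure p 1 K' lies in powerClosure p (n+1) K'
  have hstep : ∀ X : Subgroup G, X ≤ Cfsg.powerClosure p 1 ⁅K, K⁆ →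
      Cfsg.powerClosure p n X ≤ Cfsg.powerClosure p (n + 1) ⁅K, K⁆ := by
    intro X hX
    unfold Cfsg.powerClosure
    rw [closure_le]
    rintro _ ⟨w, hw, rfl⟩
    obtain ⟨v, hv, rfl⟩ := exists_pow_of_mem hG 1 h1 ⁅K, K⁆ (hX hw)
    apply Subgroup.subset_closure
    exact ⟨v, hv, pow_pow_succ v p n⟩
  have he' : e ∈ Cfsg.powerClosure p (n + 1) ⁅K, K⁆ :=
    hstep _ ((commutator_mono hcl1 hcl1).trans hL2) he
  have hd' : d ∈ Cfsg.powerClosure p (n + 1) ⁅K, K⁆ :=
    hstep _ ((commutator_mono hcl2 hcl2).trans hL2) hd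
  have hc' : c₁ ^ (p ^ n) ∈ Cfsg.powerClosure p (n + 1) ⁅K, K⁆ := by
    rw [hzc]
    apply Subgroup.subset_closure
    exact ⟨z, hz, pow_pow_succ z p n⟩
  refine ⟨e * c₁ ^ (p ^ n) * d, (Cfsg.powerClosure p (n + 1) ⁅K, K⁆).mul_mem
    ((Cfsg.powerClosure p (n + 1) ⁅K, K⁆).mul_mem he' hc') hd', ?_⟩
  have e1 : ∀ t : G, t ^ (p ^ (n + 1)) = (t ^ (p ^ 1)) ^ (p ^ n) :=
    fun t => (pow_pow_succ t p n).symm
  rw [e1 (a * b), hab, hABC, hAB, e1 a, e1 b]
  group

/-- Level 1 regularity of a finite `p`-group gives regularity at all levels. -/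
theorem reg_all [Finite G] {p : ℕ} [Fact p.Prime] (hG : IsPGroup p G) (h1 : Reg p 1 G) :
    ∀ n, Reg p n G := by
  intro n
  induction n with
  | zero =>
    intro a b
    refine ⟨(a * b)⁻¹ * (a * b), ?_, ?_⟩
    · simp
    · simp
  | succ n ih => exact reg_succ hG n h1 ih

end Cfsg.Agent.Lib.Helper38.RegularPow
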