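import Mathlib

/-!
Conjugacy classes of `GL₂(F)`: every non-scalar element is conjugate to the companion matrix of
its characteristic polynomial; the classes are parametrised by `Fˣ ⊕ (F × Fˣ)`, so there are
`q² - 1` of them over a field with `q` elements.
-/

set_option autoImplicit false

namespace Cfsg.Agent.Lib.Helper38.GL2Classes

variable {F : Type*} [Field F]

/-- The scalar matrix `a • 1` in `GL₂`. -/
noncomputable def sc (a : Fˣ) : Matrix.GeneralLinearGroup (Fin 2) F :=
  Matrix.GeneralLinearGroup.mkOfDetNeZero !![(a : F), 0; 0, (a : F)]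
    (by simp [Matrix.det_fin_two])

theorem sc_val (a : Fˣ) : (sc a).1 = !![(a : F), 0; 0, (a : F)] := rfl

/-- The companion matrix with trace `t` and determinant `d`. -/
noncomputable def comp (t : F) (d : Fˣ) : Matrix.GeneralLinearGroup (Fin 2) F :=
  Matrix.GeneralLinearGroup.mkOfDetNeZero !![0, -(d : F); 1, t]
    (by simp [Matrix.det_fin_two])

theorem comp_val (t : F) (d : Fˣ) : (comp t d).1 = !![0, -(d : F); 1, t] := rfl

theorem sc_comm (a : Fˣ) (g : Matrix.GeneralLinearGroup (Fin 2) F) : g * sc a = sc a * g := by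
  apply Units.ext
  rw [Units.val_mul, Units.val_mul, sc_val]
  ext i j
  fin_cases i <;> fin_cases j <;> simp [Matrix.mul_apply, Fin.sum_univ_two, mul_comm]

theorem isConj_sc_iff (a : Fˣ) (g : Matrix.GeneralLinearGroup (Fin 2) F) :
    IsConj (sc a) g ↔ g = sc a := by
  constructor
  · intro h
    obtain ⟨c, hc⟩ := isConj_iff.mp h
    rw [← hc, sc_comm, mul_inv_cancel_right]
  · rintro rfl
    exact IsConj.refl _

/-- A matrix in `GL₂` is scalar. -/
def IsSc (g : Matrix.GeneralLinearGroup (Fin 2) F) : Prop :=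
  g.1 0 1 = 0 ∧ g.1 1 0 = 0 ∧ g.1 0 0 = g.1 1 1

theorem det_ne (g : Matrix.GeneralLinearGroup (Fin 2) F) : g.1.det ≠ 0 :=
  ((Matrix.isUnit_iff_isUnit_det _).mp g.isUnit).ne_zero

theorem exists_sc_of_isSc (g : Matrix.GeneralLinearGroup (Fin 2) F) (h : IsSc g) :
    ∃ a : Fˣ, g = sc a := by
  obtain ⟨h1, h2, h3⟩ := h
  have hd := det_ne g
  rw [Matrix.det_fin_two, h1, h2, h3] at hd
  have h0 : g.1 1 1 ≠ 0 := by
    intro h0
    apply hd
    rw [h0]
    ring
  refine ⟨Units.mk0 _ h0, ?_⟩
  apply Units.ext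
  rw [sc_val]
  ext i j
  fin_cases i <;> fin_cases j <;> simp [h1, h2, h3]

theorem not_isSc_comp (t : F) (d : Fˣ) : ¬ IsSc (comp t d) := by
  rintro ⟨_, h2, _⟩
  rw [comp_val] at h2
  simp at h2

theorem trace_comp (t : F) (d : Fˣ) : (comp t d).1.trace = t := by
  rw [comp_val, Matrix.trace_fin_two]
  simp

theorem det_comp (t : F) (d : Fˣ) : (comp t d).1.det = d := by
  rw [comp_val, Matrix.det_fin_two]
  simp

theorem trace_eq_of_isConj {g h : Matrix.GeneralLinearGroup (Fin 2) F} (hc : IsConj g h) :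
    g.1.trace = h.1.trace := by
  obtain ⟨c, rfl⟩ := isConj_iff.mp hc
  rw [Units.val_mul, Units.val_mul]
  exact (Matrix.trace_units_conj c g.1).symm

theorem det_eq_of_isConj {g h : Matrix.GeneralLinearGroup (Fin 2) F} (hc : IsConj g h) :
    g.1.det = h.1.det := by
  obtain ⟨c, rfl⟩ := isConj_iff.mp hc
  rw [Units.val_mul, Units.val_mul]
  exact (Matrix.det_units_conj c g.1).symm

/-- A non-scalar element of `GL₂` is conjugate to the companion matrix of its characteristic
polynomial. -/
theorem isConj_comp (g : Matrix.GeneralLinearGroup (Fin 2) F) (hg : ¬ IsSc g) :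
    IsConj (comp g.1.trace (Matrix.GeneralLinearGroup.det g)) g := by
  rw [isConj_iff]
  suffices h : ∃ P : Matrix.GeneralLinearGroup (Fin 2) F,
      g * P = P * comp g.1.trace (Matrix.GeneralLinearGroup.det g) by
    obtain ⟨P, hP⟩ := h
    exact ⟨P, by rw [← hP, mul_inv_cancel_right]⟩
  by_cases hc : g.1 1 0 = 0
  · by_cases hb : g.1 0 1 = 0
    · have had : g.1 0 0 ≠ g.1 1 1 := fun h => hg ⟨hb, hc, h⟩
      refine ⟨Matrix.GeneralLinearGroup.mkOfDetNeZero !![1, g.1 0 0; 1, g.1 1 1] ?_, ?_⟩
      · rw [Matrix.det_fin_two]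
        simp only [Matrix.of_apply, Matrix.cons_val', Matrix.cons_val_zero, Matrix.cons_val_one,
          Matrix.cons_val_fin_one]
        intro h
        apply had
        linear_combination -h
      · apply Units.ext
        rw [Units.val_mul, Units.val_mul, comp_val]
        ext i j
        fin_cases i <;> fin_cases j <;>
          simp [Matrix.mul_apply, Fin.sum_univ_two, Matrix.trace_fin_two, Matrix.det_fin_two,
            hc, hb] <;> ring
    · refine ⟨Matrix.GeneralLinearGroup.mkOfDetNeZero !![0, g.1 0 1; 1, g.1 1 1] ?_, ?_⟩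
      · rw [Matrix.det_fin_two]
        simpa using hb
      · apply Units.ext
        rw [Units.val_mul, Units.val_mul, comp_val]
        ext i j
        fin_cases i <;> fin_cases j <;>
          simp [Matrix.mul_apply, Fin.sum_univ_two, Matrix.trace_fin_two, Matrix.det_fin_two,
            hc] <;> ring
  · refine ⟨Matrix.GeneralLinearGroup.mkOfDetNeZero !![1, g.1 0 0; 0, g.1 1 0] ?_, ?_⟩
    · rw [Matrix.det_fin_two]
      simpa using hc
    · apply Units.ext
      rw [Units.val_mul, Units.val_mul, comp_val]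
      ext i j
      fin_cases i <;> fin_cases j <;>
        simp [Matrix.mul_apply, Fin.sum_univ_two, Matrix.trace_fin_two, Matrix.det_fin_two] <;>
        ring

/-- The parametrisation of the conjugacy classes of `GL₂`. -/
noncomputable def rep : Fˣ ⊕ (F × Fˣ) → ConjClasses (Matrix.GeneralLinearGroup (Fin 2) F)
  | Sum.inl a => ConjClasses.mk (sc a)
  | Sum.inr p => ConjClasses.mk (comp p.1 p.2)

theorem rep_bijective : Function.Bijective (rep (F := F)) := by
  constructor
  · rintro (a | ⟨t, d⟩) (a' | ⟨t', d'⟩) h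
    · have h1 : IsConj (sc a) (sc a') := ConjClasses.mk_eq_mk_iff_isConj.mp h
      have h2 := (isConj_sc_iff a (sc a')).mp h1
      have h3 : (sc a').1 0 0 = (sc a).1 0 0 := by rw [h2]
      rw [sc_val, sc_val] at h3
      simp only [Matrix.of_apply, Matrix.cons_val', Matrix.cons_val_zero,
        Matrix.cons_val_fin_one] at h3
      rw [Units.ext h3]
    · exfalso
      have h1 : IsConj (sc a) (comp t' d') := ConjClasses.mk_eq_mk_iff_isConj.mp h
      have h2 := (isConj_sc_iff a _).mp h1
      have h3 : (comp t' d').1 1 0 = (sc a).1 1 0 := by rw [h2]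
      rw [sc_val, comp_val] at h3
      simp at h3
    · exfalso
      have h1 : IsConj (sc a') (comp t d) := (ConjClasses.mk_eq_mk_iff_isConj.mp h).symm
      have h2 := (isConj_sc_iff a' _).mp h1
      have h3 : (comp t d).1 1 0 = (sc a').1 1 0 := by rw [h2]
      rw [sc_val, comp_val] at h3
      simp at h3
    · have h1 : IsConj (comp t d) (comp t' d') := ConjClasses.mk_eq_mk_iff_isConj.mp h
      have ht := trace_eq_of_isConj h1
      have hd := det_eq_of_isConj h1
      rw [trace_comp, trace_comp] at ht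
      rw [det_comp, det_comp] at hd
      rw [ht, Units.ext hd]
  · intro c
    obtain ⟨g, rfl⟩ := ConjClasses.exists_rep c
    by_cases hg : IsSc g
    · obtain ⟨a, rfl⟩ := exists_sc_of_isSc g hg
      exact ⟨Sum.inl a, rfl⟩
    · exact ⟨Sum.inr (g.1.trace, Matrix.GeneralLinearGroup.det g),
        ConjClasses.mk_eq_mk_iff_isConj.mpr (isConj_comp g hg)⟩

/-- `GL₂(F)` has `(q - 1) + q (q - 1) = q² - 1` conjugacy classes. -/
theorem card_conjClasses [Finite F] :
    Nat.card (ConjClasses (Matrix.GeneralLinearGroup (Fin 2) F)) =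
      (Nat.card F - 1) + Nat.card F * (Nat.card F - 1) := by
  rw [← Nat.card_eq_of_bijective _ (rep_bijective (F := F)), Nat.card_sum, Nat.card_prod,
    Nat.card_units]

end Cfsg.Agent.Lib.Helper38.GL2Classes
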