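import Cfsg.Agent.Lib.Helper38.GL2Borel
import Cfsg.Agent.Lib.Helper38.GL2Classes
import Cfsg.Agent.Lib.Helper3.Card
import Cfsg.Agent.Lib.Helper80.Integrality

/-!
The irreducible characters of `GL₂(F)` over a finite field with `q` elements: the linear
characters `α ∘ det`, the Steinberg twists (degree `q`), the principal series (degree `q + 1`)
and the remaining (cuspidal) ones, of degree `q - 1`; with the number of each.
-/

set_option autoImplicit false

namespace Cfsg.Agent.Lib.Helper38.GL2Irr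

open Cfsg Cfsg.Agent.S2304 Cfsg.Agent.Lib.CT Cfsg.Agent.Lib.Helper38.GL2Borel
open scoped ComplexConjugate

universe u

section General

variable {G : Type u} [Group G]

/-- A character of norm two containing an irreducible character with multiplicity one is the
sum of that character and another irreducible one. -/
theorem exists_irr_add_of_norm_two [Fintype G] {χ : G → ℂ} (h : IsCharacter G χ)
    (h2 : classInner χ χ = 2) (ψ₁ : IrrCharacter G) (h1 : classInner χ (ψ₁ : G → ℂ) = 1) :
    ∃ ψ₂ : IrrCharacter G, ψ₂ ≠ ψ₁ ∧ χ = (ψ₁ : G → ℂ) + (ψ₂ : G → ℂ) := by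
  classical
  have := Wedderburn.finite_irrCharacter G
  let _ : Fintype (IrrCharacter G) := Fintype.ofFinite (IrrCharacter G)
  obtain ⟨m, hm, hexp⟩ := NormOne.exists_mult_sum h
  have hsq := NormOne.classInner_self_eq_sum m hm hexp
  rw [h2] at hsq
  have hsq' : ∑ ψ : IrrCharacter G, m ψ * m ψ = 2 := by exact_mod_cast hsq.symm
  have hm1 : m ψ₁ = 1 := by
    have := hm ψ₁
    rw [h1] at this
    exact_mod_cast this.symm
  have hsplit : ∑ ψ ∈ Finset.univ.erase ψ₁, m ψ * m ψ = 1 := by
    have := Finset.add_sum_erase Finset.univ (fun ψ => m ψ * m ψ) (Finset.mem_univ ψ₁)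
    rw [hsq', hm1] at this
    omega
  obtain ⟨ψ₂, hψ₂mem, hψ₂⟩ : ∃ ψ₂ ∈ Finset.univ.erase ψ₁, m ψ₂ * m ψ₂ ≠ 0 := by
    by_contra hcon
    push Not at hcon
    rw [Finset.sum_eq_zero hcon] at hsplit
    omega
  have hne : ψ₂ ≠ ψ₁ := Finset.ne_of_mem_erase hψ₂mem
  have hsplit2 := Finset.add_sum_erase (Finset.univ.erase ψ₁) (fun ψ => m ψ * m ψ) hψ₂mem
  rw [hsplit] at hsplit2
  have hm2 : m ψ₂ = 1 := by
    have h3 : m ψ₂ * m ψ₂ ≤ 1 := by omega
    have h4 : m ψ₂ ≠ 0 := by
      rintro h0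
      apply hψ₂
      rw [h0]
    have h5 : 1 ≤ m ψ₂ := Nat.one_le_iff_ne_zero.mpr h4
    nlinarith
  have hz : ∑ ψ ∈ (Finset.univ.erase ψ₁).erase ψ₂, m ψ * m ψ = 0 := by
    rw [hm2] at hsplit2
    omega
  have hrest : ∀ ψ ∈ (Finset.univ.erase ψ₁).erase ψ₂, (m ψ : ℂ) • (ψ : G → ℂ) = 0 := by
    intro ψ hψ
    have := (Finset.sum_eq_zero_iff.mp hz) ψ hψ
    have h0 : m ψ = 0 := by
      rcases Nat.mul_eq_zero.mp this with h | h <;> exact h
    rw [h0]
    simp
  refine ⟨ψ₂, hne, ?_⟩
  rw [hexp, ← Finset.add_sum_erase Finset.univ _ (Finset.mem_univ ψ₁),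
    ← Finset.add_sum_erase (Finset.univ.erase ψ₁) _ hψ₂mem, Finset.sum_eq_zero hrest, hm1, hm2]
  simp

end General

variable {F : Type*} [Field F]

/-- Duality for multiplicative characters: the sum of all characters at a unit. -/
theorem sum_char [Fintype F] [DecidableEq F] [Fintype (MulChar F ℂ)] (s : Fˣ) :
    ∑ α : MulChar F ℂ, α (s : F) = if s = 1 then ((Fintype.card F : ℂ) - 1) else 0 := by
  classical
  split_ifs with h
  · subst h
    simp only [Units.val_one, map_one, Finset.sum_const, Finset.card_univ, nsmul_eq_mul, mul_one]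
    have h1 := MulChar.card_eq_card_units_of_hasEnoughRootsOfUnity F ℂ
    rw [Nat.card_eq_fintype_card, Nat.card_units, Nat.card_eq_fintype_card] at h1
    rw [h1, Nat.cast_sub Fintype.card_pos]
    simp
  · have hs : (s : F) ≠ 1 := by
      intro h1
      exact h (Units.ext h1)
    obtain ⟨χ, hχ⟩ := MulChar.exists_apply_ne_one_of_hasEnoughRootsOfUnity F ℂ hs
    refine eq_zero_of_mul_eq_self_left hχ ?_
    simp only [Finset.mul_sum, ← MulChar.mul_apply]
    exact Fintype.sum_bijective _ (Group.mulLeft_bijective χ) _ _ fun χ' ↦ rfl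

/-- The linear character `α ∘ det` of `GL₂`, as a homomorphism. -/
noncomputable def linHom (α : MulChar F ℂ) : Matrix.GeneralLinearGroup (Fin 2) F →* ℂˣ :=
  α.toUnitHom.comp Matrix.GeneralLinearGroup.det

/-- The linear character `α ∘ det` of `GL₂`. -/
noncomputable def lin (α : MulChar F ℂ) : Matrix.GeneralLinearGroup (Fin 2) F → ℂ :=
  fun g => α (g.1.det)

theorem lin_apply (α : MulChar F ℂ) (g : Matrix.GeneralLinearGroup (Fin 2) F) :
    lin α g = α (g.1.det) := rfl

theorem lin_eq (α : MulChar F ℂ) : lin α = fun g => ((linHom α g : ℂˣ) : ℂ) := by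
  funext g
  rw [lin_apply]
  simp [linHom]

theorem lin_irr (α : MulChar F ℂ) :
    IsIrrCharacter (Matrix.GeneralLinearGroup (Fin 2) F) (lin α) := by
  rw [lin_eq]
  exact LinChar.isIrrCharacter_of_hom (linHom α)

theorem lin_one (α : MulChar F ℂ) : lin α 1 = 1 := by
  rw [lin_apply]
  simp

theorem lin_restrict (α : MulChar F ℂ) (b : upperTriangularGL 2 F) :
    lin α (b : Matrix.GeneralLinearGroup (Fin 2) F) = th α α b := by
  rw [lin_apply, th_apply, Matrix.det_fin_two, (mem_B_iff b.1).mp b.2, mul_zero, sub_zero,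
    map_mul]

theorem lin_bm (α : MulChar F ℂ) (a : Fˣ) :
    lin α ((bm a 1 0 : upperTriangularGL 2 F) : Matrix.GeneralLinearGroup (Fin 2) F) = α a := by
  rw [lin_restrict, th_bm]
  simp

theorem lin_injective : Function.Injective (lin (F := F)) := by
  intro α α' h
  apply MulChar.ext
  intro a
  rw [← lin_bm α a, ← lin_bm α' a, h]

/-- `lin α` as an irreducible character. -/
noncomputable def linIrr (α : MulChar F ℂ) : IrrCharacter (Matrix.GeneralLinearGroup (Fin 2) F) :=
  ⟨lin α, lin_irr α⟩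

theorem linIrr_val (α : MulChar F ℂ) :
    ((linIrr α : IrrCharacter (Matrix.GeneralLinearGroup (Fin 2) F)) :
      Matrix.GeneralLinearGroup (Fin 2) F → ℂ) = lin α := rfl

theorem linIrr_injective : Function.Injective (linIrr (F := F)) :=
  fun _ _ h => lin_injective (congrArg Subtype.val h)

variable [Fintype F] [DecidableEq F]

theorem ind_isCharacter (α β : MulChar F ℂ) :
    IsCharacter (Matrix.GeneralLinearGroup (Fin 2) F)
      (indFun (upperTriangularGL 2 F) (th α β)) :=
  IndChar.isCharacter_indFun (upperTriangularGL 2 F) (th α β)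
    (LinChar.isCharacter_of_hom (thHom α β))

theorem classInner_ind_lin (α : MulChar F ℂ) :
    classInner (indFun (upperTriangularGL 2 F) (th α α)) (lin α) = 1 := by
  classical
  let _ : Fintype (upperTriangularGL 2 F) := Fintype.ofFinite _
  rw [FrobRec.frobenius_reciprocity (upperTriangularGL 2 F) (th α α) (lin α)
    (Wedderburn.char_isClassFunction (Wedderburn.isCharacter_of_irr (lin_irr α)))]
  have h0 : (fun h : upperTriangularGL 2 F => lin α h) = th α α := funext (lin_restrict α)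
  rw [h0]
  unfold classInner
  have h1 : ∀ b : upperTriangularGL 2 F, th α α b * conj (th α α b) = 1 := by
    intro b
    rw [Complex.mul_conj, Complex.normSq_eq_norm_sq, norm_th]
    simp
  rw [Finset.sum_congr rfl (fun b _ => h1 b)]
  have hB : (Nat.card (upperTriangularGL 2 F) : ℂ) ≠ 0 := by
    exact_mod_cast (Nat.card_pos (α := upperTriangularGL 2 F)).ne'
  simp only [Finset.sum_const, Finset.card_univ, nsmul_eq_mul, mul_one,
    ← Nat.card_eq_fintype_card]
  exact inv_mul_cancel₀ hB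

theorem exists_st (α : MulChar F ℂ) :
    ∃ ψ : IrrCharacter (Matrix.GeneralLinearGroup (Fin 2) F), ψ ≠ linIrr α ∧
      indFun (upperTriangularGL 2 F) (th α α) =
        lin α + (ψ : Matrix.GeneralLinearGroup (Fin 2) F → ℂ) := by
  have h2 : classInner (indFun (upperTriangularGL 2 F) (th α α))
      (indFun (upperTriangularGL 2 F) (th α α)) = 2 := by
    rw [classInner_ind]
    simp
    norm_num
  exact exists_irr_add_of_norm_two (ind_isCharacter α α) h2 (linIrr α) (classInner_ind_lin α)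

/-- The Steinberg character twisted by `α ∘ det`. -/
noncomputable def st (α : MulChar F ℂ) : IrrCharacter (Matrix.GeneralLinearGroup (Fin 2) F) :=
  Classical.choose (exists_st α)

theorem st_ne (α : MulChar F ℂ) : st α ≠ linIrr α := (Classical.choose_spec (exists_st α)).1

theorem ind_diag (α : MulChar F ℂ) :
    indFun (upperTriangularGL 2 F) (th α α) =
      lin α + ((st α : IrrCharacter (Matrix.GeneralLinearGroup (Fin 2) F)) :
        Matrix.GeneralLinearGroup (Fin 2) F → ℂ) :=
  (Classical.choose_spec (exists_st α)).2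

/-- The principal series character of a pair of distinct characters (junk on the diagonal). -/
noncomputable def psIrr (p : MulChar F ℂ × MulChar F ℂ) :
    IrrCharacter (Matrix.GeneralLinearGroup (Fin 2) F) :=
  if h : p.1 = p.2 then linIrr p.1
  else ⟨indFun (upperTriangularGL 2 F) (th p.1 p.2), Cfsg.Agent.S2304.result p.1 p.2 h⟩

theorem psIrr_val (p : MulChar F ℂ × MulChar F ℂ) (h : p.1 ≠ p.2) :
    ((psIrr p : IrrCharacter (Matrix.GeneralLinearGroup (Fin 2) F)) :
      Matrix.GeneralLinearGroup (Fin 2) F → ℂ) =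
      indFun (upperTriangularGL 2 F) (th p.1 p.2) := by
  unfold psIrr
  rw [dif_neg h]

theorem psIrr_eq_iff (p p' : MulChar F ℂ × MulChar F ℂ) (h : p.1 ≠ p.2) (h' : p'.1 ≠ p'.2) :
    psIrr p = psIrr p' ↔ p = p' ∨ p = p'.swap := by
  classical
  have h1 := Wedderburn.irr_orthonormal (psIrr p) (psIrr p')
  rw [psIrr_val p h, psIrr_val p' h', classInner_ind] at h1
  constructor
  · intro he
    rw [if_pos he] at h1
    by_cases ha : p.1 = p'.1 ∧ p.2 = p'.2
    · left
      exact Prod.ext ha.1 ha.2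
    · by_cases hb : p.1 = p'.2 ∧ p.2 = p'.1
      · right
        exact Prod.ext hb.1 hb.2
      · rw [if_neg ha, if_neg hb] at h1
        norm_num at h1
  · rintro (rfl | rfl)
    · rfl
    · by_contra hne
      rw [if_neg hne] at h1
      have ha : ¬ (p'.swap.1 = p'.1 ∧ p'.swap.2 = p'.2) := by
        rintro ⟨h3, _⟩
        exact h' h3.symm
      have hb : p'.swap.1 = p'.2 ∧ p'.swap.2 = p'.1 := ⟨rfl, rfl⟩
      rw [if_neg ha, if_pos hb] at h1
      norm_num at h1

theorem st_injective : Function.Injective (st (F := F)) := by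
  classical
  intro α α' h
  by_contra hne
  have h1 := classInner_ind α α α' α'
  rw [if_neg (fun hh => hne hh.1), ind_diag, ind_diag,
    Orth.classInner_add_left, Helper3.Irr.classInner_add_right,
    Helper3.Irr.classInner_add_right, ← linIrr_val, ← linIrr_val,
    Wedderburn.irr_orthonormal, Wedderburn.irr_orthonormal, Wedderburn.irr_orthonormal,
    Wedderburn.irr_orthonormal, if_pos h] at h1
  split_ifs at h1 <;> norm_num at h1

theorem index_borel : (upperTriangularGL 2 F).index = Fintype.card F + 1 := by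
  have h := Subgroup.card_mul_index (upperTriangularGL 2 F)
  rw [card_borel, card_GL2] at h
  have hq : 2 ≤ Fintype.card F := Fintype.one_lt_card
  obtain ⟨k, hk⟩ : ∃ k, Fintype.card F = k + 1 := ⟨Fintype.card F - 1, by omega⟩
  rw [hk] at h ⊢
  have e1 : (k + 1) ^ 2 - 1 = k * (k + 2) := by
    have : (k + 1) ^ 2 = k * (k + 2) + 1 := by ring
    omega
  have e2 : (k + 1) ^ 2 - (k + 1) = k * (k + 1) := by
    have : (k + 1) ^ 2 = k * (k + 1) + (k + 1) := by ring
    omega
  rw [e1, e2, Nat.add_sub_cancel] at h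
  have hk1 : 1 ≤ k := by omega
  have h2 : (k + 1) * k ^ 2 * (upperTriangularGL 2 F).index = (k + 1) * k ^ 2 * (k + 1 + 1) := by
    rw [h]
    ring
  exact Nat.eq_of_mul_eq_mul_left (by positivity) h2

theorem ind_one (α β : MulChar F ℂ) :
    indFun (upperTriangularGL 2 F) (th α β) 1 = (Fintype.card F : ℂ) + 1 := by
  rw [FrobRec.indFun_one, th_one, index_borel]
  push_cast
  ring

theorem deg_lin (α : MulChar F ℂ) : charDegree (lin α) = 1 :=
  Wedderburn.charDegree_eq_of_apply_one (by rw [lin_one]; simp)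

theorem deg_ps (p : MulChar F ℂ × MulChar F ℂ) (h : p.1 ≠ p.2) :
    charDegree ((psIrr p : IrrCharacter (Matrix.GeneralLinearGroup (Fin 2) F)) :
      Matrix.GeneralLinearGroup (Fin 2) F → ℂ) = Fintype.card F + 1 :=
  Wedderburn.charDegree_eq_of_apply_one (by rw [psIrr_val p h, ind_one]; push_cast; rfl)

theorem deg_st (α : MulChar F ℂ) :
    charDegree ((st α : IrrCharacter (Matrix.GeneralLinearGroup (Fin 2) F)) :
      Matrix.GeneralLinearGroup (Fin 2) F → ℂ) = Fintype.card F := by
  apply Wedderburn.charDegree_eq_of_apply_one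
  have h := congrFun (ind_diag α) 1
  rw [ind_one, Pi.add_apply, lin_one] at h
  linear_combination -h

theorem bm_one_one_zero :
    ((bm 1 1 0 : upperTriangularGL 2 F) : Matrix.GeneralLinearGroup (Fin 2) F) = 1 := by
  apply Units.ext
  rw [bm_val]
  ext i j
  fin_cases i <;> fin_cases j <;> simp

theorem sum_unip (χ : Matrix.GeneralLinearGroup (Fin 2) F → ℂ)
    (hχ : IsClassFunction (Matrix.GeneralLinearGroup (Fin 2) F) χ) :
    ∑ r : F, χ (bm 1 1 r : upperTriangularGL 2 F) =
      χ 1 + ((Fintype.card F : ℂ) - 1) *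
        χ ((bm 1 1 1 : upperTriangularGL 2 F) : Matrix.GeneralLinearGroup (Fin 2) F) := by
  rw [← Finset.add_sum_erase Finset.univ _ (Finset.mem_univ (0 : F)), bm_one_one_zero]
  congr 1
  have h1 : ∀ r ∈ Finset.univ.erase (0 : F),
      χ ((bm 1 1 r : upperTriangularGL 2 F) : Matrix.GeneralLinearGroup (Fin 2) F) =
        χ ((bm 1 1 1 : upperTriangularGL 2 F) : Matrix.GeneralLinearGroup (Fin 2) F) := by
    intro r hr
    have hr0 : r ≠ 0 := Finset.ne_of_mem_erase hr
    have key : ((bm 1 1 r : upperTriangularGL 2 F) : Matrix.GeneralLinearGroup (Fin 2) F) *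
        ((bm (Units.mk0 r hr0) 1 0 : upperTriangularGL 2 F) :
          Matrix.GeneralLinearGroup (Fin 2) F) =
        ((bm (Units.mk0 r hr0) 1 0 : upperTriangularGL 2 F) :
          Matrix.GeneralLinearGroup (Fin 2) F) *
        ((bm 1 1 1 : upperTriangularGL 2 F) : Matrix.GeneralLinearGroup (Fin 2) F) := by
      apply Units.ext
      rw [Units.val_mul, Units.val_mul, bm_val, bm_val, bm_val]
      ext i j
      fin_cases i <;> fin_cases j <;> simp [Matrix.mul_apply, Fin.sum_univ_two]
    rw [eq_mul_inv_of_mul_eq key]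
    exact hχ _ _
  rw [Finset.sum_congr rfl h1, Finset.sum_const, Finset.card_erase_of_mem (Finset.mem_univ _),
    Finset.card_univ, nsmul_eq_mul, Nat.cast_sub Fintype.card_pos]
  simp

/-- A character orthogonal to all principal series sums to zero on the unipotent radical. -/
theorem cusp_sum (χ : Matrix.GeneralLinearGroup (Fin 2) F → ℂ)
    (hχ : IsClassFunction (Matrix.GeneralLinearGroup (Fin 2) F) χ)
    (h : ∀ α β : MulChar F ℂ, classInner (indFun (upperTriangularGL 2 F) (th α β)) χ = 0) :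
    ∑ r : F, conj (χ (bm 1 1 r : upperTriangularGL 2 F)) = 0 := by
  classical
  let _ : Fintype (upperTriangularGL 2 F) := Fintype.ofFinite _
  let _ : Fintype (MulChar F ℂ) := Fintype.ofFinite _
  have hq : 2 ≤ Fintype.card F := Fintype.one_lt_card
  have hq1 : (Fintype.card F : ℂ) - 1 ≠ 0 := by
    intro h0
    have h2 : ((Fintype.card F : ℕ) : ℂ) = ((1 : ℕ) : ℂ) := by
      push_cast
      linear_combination h0
    have h3 := Nat.cast_injective h2
    omega
  have hB : (Nat.card (upperTriangularGL 2 F) : ℂ) ≠ 0 := by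
    exact_mod_cast (Nat.card_pos (α := upperTriangularGL 2 F)).ne'
  obtain ⟨c, hc⟩ : ∃ c : Fˣ × Fˣ → ℂ, c = fun u =>
      ∑ r : F, conj (χ (bm u.1 u.2 r : upperTriangularGL 2 F)) := ⟨_, rfl⟩
  have h' : ∀ p : MulChar F ℂ × MulChar F ℂ,
      ∑ u : Fˣ × Fˣ, p.1 (u.1 : F) * p.2 (u.2 : F) * c u = 0 := by
    intro p
    have h1 := h p.1 p.2
    rw [FrobRec.frobenius_reciprocity (upperTriangularGL 2 F) (th p.1 p.2) χ hχ] at h1
    unfold classInner at h1
    have h2 : ∑ b : upperTriangularGL 2 F, th p.1 p.2 b *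
        conj (χ (b : Matrix.GeneralLinearGroup (Fin 2) F)) = 0 := by
      rcases mul_eq_zero.mp h1 with h3 | h3
      · exact absurd (inv_eq_zero.mp h3) hB
      · exact h3
    rw [sum_borel, ← Fintype.sum_prod_type'
      (f := fun s t => ∑ r : F, th p.1 p.2 (bm s t r) *
        conj (χ ((bm s t r : upperTriangularGL 2 F) : Matrix.GeneralLinearGroup (Fin 2) F)))] at h2
    rw [← h2]
    apply Finset.sum_congr rfl
    intro u _
    rw [hc, Finset.mul_sum]
    apply Finset.sum_congr rfl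
    intro r _
    rw [th_bm]
  have h3 : ∑ u : Fˣ × Fˣ, (∑ p : MulChar F ℂ × MulChar F ℂ, p.1 (u.1 : F) * p.2 (u.2 : F)) * c u
      = 0 := by
    simp_rw [Finset.sum_mul]
    rw [Finset.sum_comm]
    exact Finset.sum_eq_zero (fun p _ => h' p)
  have h4 : ∀ u : Fˣ × Fˣ, (∑ p : MulChar F ℂ × MulChar F ℂ, p.1 (u.1 : F) * p.2 (u.2 : F)) =
      if u = (1, 1) then ((Fintype.card F : ℂ) - 1) ^ 2 else 0 := by
    intro u
    rw [Fintype.sum_prod_type]
    simp only []
    rw [← Finset.sum_mul_sum, sum_char, sum_char]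
    rcases u with ⟨s, t⟩
    by_cases hs : s = 1 <;> by_cases ht : t = 1 <;> simp [hs, ht, sq]
  simp_rw [h4] at h3
  rw [Finset.sum_eq_single ((1 : Fˣ), (1 : Fˣ))] at h3
  · rw [if_pos rfl] at h3
    rcases mul_eq_zero.mp h3 with h5 | h5
    · exact absurd (pow_eq_zero_iff (n := 2) (by norm_num) |>.mp h5) hq1
    · rw [hc] at h5
      exact h5
  · intro u _ hu
    rw [if_neg hu, zero_mul]
  · intro hh
    exact absurd (Finset.mem_univ _) hh

/-- The degree of a cuspidal character is divisible by `q - 1`. -/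
theorem cusp_dvd (χ : IrrCharacter (Matrix.GeneralLinearGroup (Fin 2) F))
    (h : ∀ α β : MulChar F ℂ, classInner (indFun (upperTriangularGL 2 F) (th α β))
      (χ : Matrix.GeneralLinearGroup (Fin 2) F → ℂ) = 0) :
    (Fintype.card F - 1) ∣ charDegree (χ : Matrix.GeneralLinearGroup (Fin 2) F → ℂ) := by
  have hchar := Wedderburn.isCharacter_of_irr χ.2
  have hcf := Wedderburn.char_isClassFunction hchar
  have h1 := cusp_sum χ.1 hcf h
  rw [← map_sum, sum_unip χ.1 hcf, ← Wedderburn.char_natCast_charDegree hchar] at h1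
  have h2 := (map_eq_zero (starRingEnd ℂ)).mp h1
  have hq : 2 ≤ Fintype.card F := Fintype.one_lt_card
  have hq1 : ((Fintype.card F - 1 : ℕ) : ℂ) ≠ 0 := by
    have : Fintype.card F - 1 ≠ 0 := by omega
    exact_mod_cast this
  have hcast : ((Fintype.card F - 1 : ℕ) : ℂ) = (Fintype.card F : ℂ) - 1 := by
    rw [Nat.cast_sub (by omega)]
    simp
  apply Helper80.Integrality.dvd_of_isIntegral_div (by omega)
  have h3 : (charDegree (χ : Matrix.GeneralLinearGroup (Fin 2) F → ℂ) : ℂ) /
      ((Fintype.card F - 1 : ℕ) : ℂ) =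
      - χ.1 ((bm 1 1 1 : upperTriangularGL 2 F) : Matrix.GeneralLinearGroup (Fin 2) F) := by
    rw [div_eq_iff hq1, hcast]
    linear_combination h2
  rw [h3]
  exact (Helper80.Integrality.isIntegral_of_isCharacter hchar _).neg

/-- The irreducible characters of `GL₂(F)` by degree: four finite sets covering everything, of
degrees `1`, `q`, `q + 1`, `q - 1` and of sizes `q - 1`, `q - 1`, `(q - 1)(q - 2)/2`,
`q (q - 1)/2`. -/
theorem deg_classification :
    ∃ (K₁ K₂ K₃ R : Finset (IrrCharacter (Matrix.GeneralLinearGroup (Fin 2) F))),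
      (∀ χ, χ ∈ K₁ ∨ χ ∈ K₂ ∨ χ ∈ K₃ ∨ χ ∈ R) ∧
      (∀ χ ∈ K₁, charDegree (χ : Matrix.GeneralLinearGroup (Fin 2) F → ℂ) = 1) ∧
      (∀ χ ∈ K₂, charDegree (χ : Matrix.GeneralLinearGroup (Fin 2) F → ℂ) = Fintype.card F) ∧
      (∀ χ ∈ K₃, charDegree (χ : Matrix.GeneralLinearGroup (Fin 2) F → ℂ) = Fintype.card F + 1) ∧
      (∀ χ ∈ R, charDegree (χ : Matrix.GeneralLinearGroup (Fin 2) F → ℂ) = Fintype.card F - 1) ∧
      K₁.card = Fintype.card F - 1 ∧ K₂.card = Fintype.card F - 1 ∧
      2 * K₃.card = (Fintype.card F - 1) * (Fintype.card F - 2) ∧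
      2 * R.card = Fintype.card F * (Fintype.card F - 1) := by
  classical
  have := Wedderburn.finite_irrCharacter (Matrix.GeneralLinearGroup (Fin 2) F)
  let _ : Fintype (IrrCharacter (Matrix.GeneralLinearGroup (Fin 2) F)) := Fintype.ofFinite _
  let _ : Fintype (MulChar F ℂ) := Fintype.ofFinite _
  have hq : 2 ≤ Fintype.card F := Fintype.one_lt_card
  have hM : Fintype.card (MulChar F ℂ) = Fintype.card F - 1 := by
    have h1 := MulChar.card_eq_card_units_of_hasEnoughRootsOfUnity F ℂ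
    rwa [Nat.card_eq_fintype_card, Nat.card_units, Nat.card_eq_fintype_card] at h1
  obtain ⟨K₁, hK₁def⟩ : ∃ K₁ : Finset (IrrCharacter (Matrix.GeneralLinearGroup (Fin 2) F)),
      K₁ = Finset.univ.image (linIrr (F := F)) := ⟨_, rfl⟩
  obtain ⟨K₂, hK₂def⟩ : ∃ K₂ : Finset (IrrCharacter (Matrix.GeneralLinearGroup (Fin 2) F)),
      K₂ = Finset.univ.image (st (F := F)) := ⟨_, rfl⟩
  obtain ⟨P, hPdef⟩ : ∃ P : Finset (MulChar F ℂ × MulChar F ℂ),
      P = (Finset.univ : Finset (MulChar F ℂ)).offDiag := ⟨_, rfl⟩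
  obtain ⟨K₃, hK₃def⟩ : ∃ K₃ : Finset (IrrCharacter (Matrix.GeneralLinearGroup (Fin 2) F)),
      K₃ = P.image psIrr := ⟨_, rfl⟩
  have hPmem : ∀ p : MulChar F ℂ × MulChar F ℂ, p ∈ P ↔ p.1 ≠ p.2 := by
    intro p
    rw [hPdef, Finset.mem_offDiag]
    simp
  have hK₁ : K₁.card = Fintype.card F - 1 := by
    rw [hK₁def, Finset.card_image_of_injective _ linIrr_injective, Finset.card_univ, hM]
  have hK₂ : K₂.card = Fintype.card F - 1 := by
    rw [hK₂def, Finset.card_image_of_injective _ st_injective, Finset.card_univ, hM]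
  have hP : P.card = (Fintype.card F - 1) * (Fintype.card F - 1) - (Fintype.card F - 1) := by
    rw [hPdef, Finset.offDiag_card, Finset.card_univ, hM]
  have hK₃ : 2 * K₃.card = P.card := by
    rw [Finset.card_eq_sum_card_image psIrr P, ← hK₃def, Finset.sum_const_nat (m := 2)]
    · ring
    · intro χ hχ
      rw [hK₃def] at hχ
      obtain ⟨p, hp, rfl⟩ := Finset.mem_image.mp hχ
      have hp' : p.1 ≠ p.2 := (hPmem p).mp hp
      have hfib : P.filter (fun p' => psIrr p' = psIrr p) = {p, p.swap} := by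
        ext p'
        simp only [Finset.mem_filter, Finset.mem_insert, Finset.mem_singleton]
        constructor
        · rintro ⟨hp'mem, he⟩
          exact (psIrr_eq_iff p' p ((hPmem p').mp hp'mem) hp').mp he
        · rintro (rfl | rfl)
          · exact ⟨hp, rfl⟩
          · exact ⟨(hPmem _).mpr (fun h => hp' h.symm),
              (psIrr_eq_iff _ _ (fun h => hp' h.symm) hp').mpr (Or.inr rfl)⟩
      rw [hfib, Finset.card_pair]
      intro h
      exact hp' (congrArg Prod.fst h)
  have hd₁ : ∀ χ ∈ K₁, charDegree (χ : Matrix.GeneralLinearGroup (Fin 2) F → ℂ) = 1 := by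
    intro χ hχ
    rw [hK₁def] at hχ
    obtain ⟨α, -, rfl⟩ := Finset.mem_image.mp hχ
    exact deg_lin α
  have hd₂ : ∀ χ ∈ K₂,
      charDegree (χ : Matrix.GeneralLinearGroup (Fin 2) F → ℂ) = Fintype.card F := by
    intro χ hχ
    rw [hK₂def] at hχ
    obtain ⟨α, -, rfl⟩ := Finset.mem_image.mp hχ
    exact deg_st α
  have hd₃ : ∀ χ ∈ K₃,
      charDegree (χ : Matrix.GeneralLinearGroup (Fin 2) F → ℂ) = Fintype.card F + 1 := by
    intro χ hχ
    rw [hK₃def] at hχ
    obtain ⟨p, hp, rfl⟩ := Finset.mem_image.mp hχ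
    exact deg_ps p ((hPmem p).mp hp)
  obtain ⟨U, hUdef⟩ : ∃ U : Finset (IrrCharacter (Matrix.GeneralLinearGroup (Fin 2) F)),
      U = K₁ ∪ K₂ ∪ K₃ := ⟨_, rfl⟩
  have hdisj12 : Disjoint K₁ K₂ := Finset.disjoint_left.mpr (fun χ h1 h2 => by
    have e1 := hd₁ χ h1
    have e2 := hd₂ χ h2
    omega)
  have hdisj3 : Disjoint (K₁ ∪ K₂) K₃ := Finset.disjoint_left.mpr (fun χ h12 h3 => by
    have e3 := hd₃ χ h3
    rcases Finset.mem_union.mp h12 with h | h
    · have e1 := hd₁ χ h
      omega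
    · have e2 := hd₂ χ h
      omega)
  have hcardU : U.card = K₁.card + K₂.card + K₃.card := by
    rw [hUdef, Finset.card_union_of_disjoint hdisj3, Finset.card_union_of_disjoint hdisj12]
  have hdR : ∀ χ ∈ Uᶜ, (Fintype.card F - 1) ∣
      charDegree (χ : Matrix.GeneralLinearGroup (Fin 2) F → ℂ) := by
    intro χ hχ
    have hχU : χ ∉ U := Finset.mem_compl.mp hχ
    apply cusp_dvd
    intro α β
    by_cases hab : α = β
    · subst hab
      have h1 : linIrr α ≠ χ := by
        intro h
        apply hχU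
        rw [← h, hUdef, hK₁def]
        simp
      have h2 : st α ≠ χ := by
        intro h
        apply hχU
        rw [← h, hUdef, hK₂def]
        simp
      rw [ind_diag, Orth.classInner_add_left, ← linIrr_val, Wedderburn.irr_orthonormal,
        Wedderburn.irr_orthonormal, if_neg h1, if_neg h2, add_zero]
    · have h3 : psIrr (α, β) ≠ χ := by
        intro h
        apply hχU
        rw [← h, hUdef, hK₃def]
        apply Finset.mem_union_right
        exact Finset.mem_image.mpr ⟨(α, β), (hPmem _).mpr hab, rfl⟩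
      have h4 := psIrr_val (α, β) hab
      simp only at h4
      rw [← h4, Wedderburn.irr_orthonormal, if_neg h3]
  have hcard : Fintype.card (IrrCharacter (Matrix.GeneralLinearGroup (Fin 2) F)) =
      (Fintype.card F - 1) + Fintype.card F * (Fintype.card F - 1) := by
    have h1 := Helper3.Card.card_irrCharacter (G := Matrix.GeneralLinearGroup (Fin 2) F)
    rw [GL2Classes.card_conjClasses, Nat.card_eq_fintype_card, Nat.card_eq_fintype_card] at h1
    exact h1
  have hcompl : U.card + Uᶜ.card =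
      Fintype.card (IrrCharacter (Matrix.GeneralLinearGroup (Fin 2) F)) :=
    Finset.card_add_card_compl U
  have hsq : ∑ χ : IrrCharacter (Matrix.GeneralLinearGroup (Fin 2) F),
      charDegree (χ : Matrix.GeneralLinearGroup (Fin 2) F → ℂ) ^ 2 =
      (Fintype.card F ^ 2 - 1) * (Fintype.card F ^ 2 - Fintype.card F) := by
    have h1 := Helper3.Orth.sum_apply_one_sq (G := Matrix.GeneralLinearGroup (Fin 2) F)
    rw [finsum_eq_sum_of_fintype, card_GL2] at h1
    have h2 : ∀ χ : IrrCharacter (Matrix.GeneralLinearGroup (Fin 2) F),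
        (χ : Matrix.GeneralLinearGroup (Fin 2) F → ℂ) 1 ^ 2 =
          ((charDegree (χ : Matrix.GeneralLinearGroup (Fin 2) F → ℂ) ^ 2 : ℕ) : ℂ) := by
      intro χ
      rw [Nat.cast_pow, Wedderburn.char_natCast_charDegree (Wedderburn.isCharacter_of_irr χ.2)]
    rw [Finset.sum_congr rfl (fun χ _ => h2 χ), ← Nat.cast_sum] at h1
    exact_mod_cast h1
  have hsplit := Finset.sum_add_sum_compl U
    (fun χ : IrrCharacter (Matrix.GeneralLinearGroup (Fin 2) F) =>
      charDegree (χ : Matrix.GeneralLinearGroup (Fin 2) F → ℂ) ^ 2)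
  have hsumU : ∑ χ ∈ U, charDegree (χ : Matrix.GeneralLinearGroup (Fin 2) F → ℂ) ^ 2 =
      K₁.card * 1 + K₂.card * Fintype.card F ^ 2 + K₃.card * (Fintype.card F + 1) ^ 2 := by
    rw [hUdef, Finset.sum_union hdisj3, Finset.sum_union hdisj12,
      Finset.sum_const_nat (m := 1) (fun χ h => by rw [hd₁ χ h]; norm_num),
      Finset.sum_const_nat (m := Fintype.card F ^ 2) (fun χ h => by rw [hd₂ χ h]),
      Finset.sum_const_nat (m := (Fintype.card F + 1) ^ 2) (fun χ h => by rw [hd₃ χ h])]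
  obtain ⟨k, hk⟩ : ∃ k, Fintype.card F = k + 1 := ⟨Fintype.card F - 1, by omega⟩
  have hk1 : 1 ≤ k := by omega
  rw [hk] at hK₁ hK₂ hP hcard hsq hsumU hdR
  simp only [Nat.add_sub_cancel] at hK₁ hK₂ hP hcard hdR
  have e1' : (k + 1) ^ 2 - 1 = k * (k + 2) := by
    have : (k + 1) ^ 2 = k * (k + 2) + 1 := by ring
    omega
  have e2' : (k + 1) ^ 2 - (k + 1) = k * (k + 1) := by
    have : (k + 1) ^ 2 = k * (k + 1) + (k + 1) := by ring
    omega
  rw [e1', e2'] at hsq
  have hkk : k ≤ k * k := Nat.le_mul_self k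
  have e2 : 2 * K₃.card + k = k * k := by omega
  have e1 : K₃.card + Uᶜ.card = k * k := by
    rw [hcardU, hK₁, hK₂, hcard] at hcompl
    have : (k + 1) * k = k * k + k := by ring
    omega
  have e3 : k + k * (k + 1) ^ 2 + K₃.card * (k + 2) ^ 2 +
      ∑ χ ∈ Uᶜ, charDegree (χ : Matrix.GeneralLinearGroup (Fin 2) F → ℂ) ^ 2 =
      k * (k + 2) * (k * (k + 1)) := by
    rw [hsq, hsumU, hK₁, hK₂] at hsplit
    rw [← hsplit]
    ring
  have hS : ∑ χ ∈ Uᶜ, charDegree (χ : Matrix.GeneralLinearGroup (Fin 2) F → ℂ) ^ 2 =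
      Uᶜ.card * k ^ 2 := by
    zify at e1 e2 e3 ⊢
    linear_combination e3 - (k : ℤ) ^ 2 * e1 - 2 * ((k : ℤ) + 1) * e2
  have hge : ∀ χ ∈ Uᶜ, k ^ 2 ≤ charDegree (χ : Matrix.GeneralLinearGroup (Fin 2) F → ℂ) ^ 2 := by
    intro χ hχ
    have h1 := Nat.le_of_dvd (Wedderburn.irr_charDegree_pos χ.2) (hdR χ hχ)
    exact Nat.pow_le_pow_left h1 2
  have heq : ∀ χ ∈ Uᶜ, charDegree (χ : Matrix.GeneralLinearGroup (Fin 2) F → ℂ) = k := by
    have h1 : ∑ χ ∈ Uᶜ, k ^ 2 =
        ∑ χ ∈ Uᶜ, charDegree (χ : Matrix.GeneralLinearGroup (Fin 2) F → ℂ) ^ 2 := by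
      rw [hS, Finset.sum_const, smul_eq_mul]
    have h2 := (Finset.sum_eq_sum_iff_of_le hge).mp h1
    intro χ hχ
    have h3 := h2 χ hχ
    exact (Nat.pow_left_injective (by norm_num : (2 : ℕ) ≠ 0) h3).symm
  refine ⟨K₁, K₂, K₃, Uᶜ, ?_, hd₁, ?_, ?_, ?_, ?_, ?_, ?_, ?_⟩
  · intro χ
    by_cases h : χ ∈ U
    · rw [hUdef] at h
      rcases Finset.mem_union.mp h with h | h
      · rcases Finset.mem_union.mp h with h | h
        · exact Or.inl h
        · exact Or.inr (Or.inl h)
      · exact Or.inr (Or.inr (Or.inl h))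
    · exact Or.inr (Or.inr (Or.inr (Finset.mem_compl.mpr h)))
  · exact hd₂
  · exact hd₃
  · rw [hk, Nat.add_sub_cancel]
    exact heq
  · rw [hk, Nat.add_sub_cancel]
    exact hK₁
  · rw [hk, Nat.add_sub_cancel]
    exact hK₂
  · rw [hk, Nat.add_sub_cancel, hK₃, hP]
    obtain ⟨j, rfl⟩ : ∃ j, k = j + 1 := ⟨k - 1, by omega⟩
    have : (j + 1) * (j + 1) - (j + 1) = (j + 1) * j := by
      have : (j + 1) * (j + 1) = (j + 1) * j + (j + 1) := by ring
      omega
    rw [this]
    rfl
  · rw [hk, Nat.add_sub_cancel]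
    have : (k + 1) * k = k * k + k := by ring
    omega

end Cfsg.Agent.Lib.Helper38.GL2Irr
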