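import Cfsg.Agent.S2299
import Cfsg.Agent.S2300
import Cfsg.Agent.Lib.CT.Kernel
import Cfsg.Agent.Lib.CT.Orth
import Cfsg.Agent.Lib.Helper38.SLCard
import Cfsg.Prelude.Def_DegreeGraph

set_option autoImplicit false

namespace Cfsg.Agent.Lib.Helper38.PSL2Deg

open Cfsg Cfsg.Agent.Lib.CT

universe u v

section General

/-- Number of irreducible characters of degree `d`. -/
noncomputable def degCount (G : Type u) [Group G] (d : ℕ) : ℕ :=
  Nat.card {χ : IrrCharacter G // charDegree (χ : G → ℂ) = d}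

variable {G : Type u} [Group G] {H : Type v} [Group H]

theorem mem_charDegrees_of_degCount_pos {d : ℕ} (h : 0 < degCount G d) : d ∈ charDegrees G := by
  unfold degCount at h
  obtain ⟨⟨χ, hχ⟩⟩ := (Nat.card_pos_iff.mp h).1
  exact ⟨χ, hχ⟩

theorem charDegrees_subset_of_map (f : IrrCharacter H → IrrCharacter G)
    (hf : ∀ χ, charDegree (f χ : G → ℂ) = charDegree (χ : H → ℂ)) :
    charDegrees H ⊆ charDegrees G := by
  rintro d ⟨χ, rfl⟩
  exact ⟨f χ, hf χ⟩

theorem charDegrees_congr (e : H ≃* G) : charDegrees H = charDegrees G := by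
  apply Set.Subset.antisymm
  · apply charDegrees_subset_of_map
      (fun χ => ⟨fun x => χ.1 (e.symm x), Ops.isIrrCharacter_comp_mulEquiv e.symm χ.2⟩)
    intro χ
    show ⌊(χ.1 (e.symm 1)).re⌋₊ = ⌊(χ.1 1).re⌋₊
    rw [map_one]
  · apply charDegrees_subset_of_map
      (fun χ => ⟨fun x => χ.1 (e x), Ops.isIrrCharacter_comp_mulEquiv e χ.2⟩)
    intro χ
    show ⌊(χ.1 (e 1)).re⌋₊ = ⌊(χ.1 1).re⌋₊
    rw [map_one]

theorem degCount_le_of_injective [Finite G] (f : IrrCharacter H → IrrCharacter G)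
    (hinj : Function.Injective f)
    (hf : ∀ χ, charDegree (f χ : G → ℂ) = charDegree (χ : H → ℂ)) (d : ℕ) :
    degCount H d ≤ degCount G d := by
  unfold degCount
  have := Wedderburn.finite_irrCharacter G
  apply Nat.card_le_card_of_injective
    (fun χ : {χ : IrrCharacter H // charDegree (χ : H → ℂ) = d} =>
      (⟨f χ.1, (hf χ.1).trans χ.2⟩ : {χ : IrrCharacter G // charDegree (χ : G → ℂ) = d}))
  intro a b hab
  apply Subtype.ext
  exact hinj (congrArg Subtype.val hab)

theorem sum_degCount [Finite G] (D : Finset ℕ)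
    (hD : ∀ χ : IrrCharacter G, charDegree (χ : G → ℂ) ∈ D) :
    ∑ d ∈ D, degCount G d * d ^ 2 = Nat.card G := by
  classical
  have := Fintype.ofFinite G
  have := Wedderburn.finite_irrCharacter G
  have := Fintype.ofFinite (IrrCharacter G)
  rw [← Orth.sum_charDegree_sq_sum (G := G)]
  rw [← Finset.sum_fiberwise_of_maps_to (s := Finset.univ) (t := D)
    (g := fun χ : IrrCharacter G => charDegree (χ : G → ℂ)) (fun χ _ => hD χ)]
  refine Finset.sum_congr rfl fun d _ => ?_
  rw [Finset.sum_congr rfl (g := fun _ => d ^ 2) (fun χ hχ => by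
    rw [(Finset.mem_filter.mp hχ).2]), Finset.sum_const, smul_eq_mul]
  congr 1
  unfold degCount
  rw [Nat.card_eq_fintype_card, Fintype.card_subtype]

theorem degCount_one_pos : 0 < degCount G 1 ∨ ¬ Finite (IrrCharacter G) := by
  by_cases hfin : Finite (IrrCharacter G)
  · left
    unfold degCount
    rw [Nat.card_pos_iff]
    refine ⟨⟨⟨⟨fun _ => (1 : ℂ), Ops.isIrrCharacter_one⟩, ?_⟩⟩, inferInstance⟩
    show ⌊((1 : ℂ)).re⌋₊ = 1
    simp
  · right
    exact hfin

theorem degCount_eq_card_apply_one [Finite G] (d : ℕ) (z : ℂ) (hz : z = (d : ℂ)) :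
    degCount G d = Nat.card {χ : IrrCharacter G // (χ : G → ℂ) 1 = z} := by
  unfold degCount
  apply Nat.card_congr
  apply Equiv.subtypeEquivRight
  intro χ
  subst hz
  constructor
  · intro h
    rw [← h]
    exact (Wedderburn.char_natCast_charDegree (Wedderburn.isCharacter_of_irr χ.2)).symm
  · intro h
    exact Wedderburn.charDegree_eq_of_apply_one h

theorem degCount_congr [Finite G] [Finite H] (e : H ≃* G) (d : ℕ) :
    degCount H d = degCount G d := by
  apply le_antisymm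
  · apply degCount_le_of_injective
      (fun χ => ⟨fun x => χ.1 (e.symm x), Ops.isIrrCharacter_comp_mulEquiv e.symm χ.2⟩)
    · intro a b hab
      apply Subtype.ext
      funext x
      have := congrFun (congrArg Subtype.val hab) (e x)
      simpa using this
    · intro χ
      show ⌊(χ.1 (e.symm 1)).re⌋₊ = ⌊(χ.1 1).re⌋₊
      rw [map_one]
  · apply degCount_le_of_injective
      (fun χ => ⟨fun x => χ.1 (e x), Ops.isIrrCharacter_comp_mulEquiv e χ.2⟩)
    · intro a b hab
      apply Subtype.ext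
      funext x
      have := congrFun (congrArg Subtype.val hab) (e.symm x)
      simpa using this
    · intro χ
      show ⌊(χ.1 (e 1)).re⌋₊ = ⌊(χ.1 1).re⌋₊
      rw [map_one]

end General

section Arith

theorem arith_c (m v u b c a : ℕ) (hc : c ≤ 1) (hu : u ≤ 2) (hv : v ≤ 2)
    (h : 1 + v * m ^ 2 + u * (m + 1) ^ 2 + b * (2 * m) ^ 2 + c * (2 * m + 1) ^ 2
      + a * (2 * m + 2) ^ 2 = 2 * m * (m + 1) * (2 * m + 1)) : c = 1 := by
  rcases Nat.even_or_odd' m with ⟨k, rfl | rfl⟩
  · have h' : 1 + u + c + 4 * (v * k ^ 2 + u * (k ^ 2 + k) + 4 * b * k ^ 2 + c * (4 * k ^ 2 + 2 * k)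
        + a * (2 * k + 1) ^ 2) = 4 * (k * (2 * k + 1) * (4 * k + 1)) := by
      linarith
    generalize (v * k ^ 2 + u * (k ^ 2 + k) + 4 * b * k ^ 2 + c * (4 * k ^ 2 + 2 * k)
        + a * (2 * k + 1) ^ 2) = X at h'
    generalize k * (2 * k + 1) * (4 * k + 1) = Y at h'
    omega
  · have h' : 1 + v + c + 4 * (v * (k ^ 2 + k) + u * (k + 1) ^ 2 + b * (2 * k + 1) ^ 2
        + c * (4 * k ^ 2 + 6 * k + 2) + a * (2 * k + 2) ^ 2)
        = 4 * ((2 * k + 1) * (k + 1) * (4 * k + 3)) := by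
      linarith
    generalize (v * (k ^ 2 + k) + u * (k + 1) ^ 2 + b * (2 * k + 1) ^ 2
        + c * (4 * k ^ 2 + 6 * k + 2) + a * (2 * k + 2) ^ 2) = X at h'
    generalize (2 * k + 1) * (k + 1) * (4 * k + 3) = Y at h'
    omega

theorem arith_a (m v u b a : ℕ) (hm : 3 ≤ m) (hu : u ≤ 2) (hv : v ≤ 2)
    (h : 1 + v * m ^ 2 + u * (m + 1) ^ 2 + b * (2 * m) ^ 2 + 1 * (2 * m + 1) ^ 2
      + a * (2 * m + 2) ^ 2 = 2 * m * (m + 1) * (2 * m + 1)) : 0 < a := by
  by_contra ha
  have ha0 : a = 0 := by omega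
  subst ha0
  have h' : 2 + u + m * (v * m + u * m + 2 * u + 4 * b * m + 4 * m + 4)
      = m * (4 * m ^ 2 + 6 * m + 2) := by
    linarith
  have hdvd : m ∣ 2 + u := by
    have h1 : m ∣ 2 + u + m * (v * m + u * m + 2 * u + 4 * b * m + 4 * m + 4) := by
      rw [h']
      exact Dvd.intro _ rfl
    exact (Nat.dvd_add_left (Dvd.intro _ rfl)).mp h1
  have hle : m ≤ 4 := by
    have := Nat.le_of_dvd (by omega) hdvd
    omega
  interval_cases m <;> interval_cases u <;> interval_cases v <;> omega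

theorem arith_b (m v u b a : ℕ) (hm : 3 ≤ m) (hu : u ≤ 2) (hv : v ≤ 2)
    (h : 1 + v * m ^ 2 + u * (m + 1) ^ 2 + b * (2 * m) ^ 2 + 1 * (2 * m + 1) ^ 2
      + a * (2 * m + 2) ^ 2 = 2 * m * (m + 1) * (2 * m + 1)) : 0 < b := by
  by_contra hb
  have hb0 : b = 0 := by omega
  subst hb0
  obtain ⟨j, rfl⟩ := Nat.exists_eq_add_of_le' (show 1 ≤ m by omega)
  have h' : 2 + v + (j + 1 + 1) * (v * j + u * (j + 1 + 1) + 4 * (j + 1) + 4 * a * (j + 1 + 1))
      = (j + 1 + 1) * (2 * (j + 1) * (2 * (j + 1) + 1)) := by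
    linarith
  have hdvd : (j + 1 + 1) ∣ 2 + v := by
    have h1 : (j + 1 + 1) ∣ 2 + v + (j + 1 + 1) * (v * j + u * (j + 1 + 1) + 4 * (j + 1)
        + 4 * a * (j + 1 + 1)) := by
      rw [h']
      exact Dvd.intro _ rfl
    exact (Nat.dvd_add_left (Dvd.intro _ rfl)).mp h1
  have hle : j + 1 + 1 ≤ 4 := by
    have := Nat.le_of_dvd (by omega) hdvd
    omega
  have hj : j = 2 := by omega
  subst hj
  interval_cases u <;> interval_cases v <;> omega

theorem dvd_deg_iff (p q d : ℕ) (hp : p.Prime) (hpq : p ∣ q) (hq : 1 ≤ q)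
    (hd : d = q ∨ d ∣ q + 1 ∨ d ∣ q - 1) : p ∣ d ↔ d = q := by
  constructor
  · intro hpd
    rcases hd with h | h | h
    · exact h
    · exact absurd (Nat.dvd_one.mp ((Nat.dvd_add_right hpq).mp (hpd.trans h))) hp.ne_one
    · exfalso
      have h1 : p ∣ (q - 1) + 1 := by
        rw [Nat.sub_add_cancel hq]
        exact hpq
      exact absurd (Nat.dvd_one.mp ((Nat.dvd_add_right (hpd.trans h)).mp h1)) hp.ne_one
  · rintro rfl
    exact hpq

theorem sq_sub_one (q : ℕ) (hq : 1 ≤ q) : q ^ 2 - 1 = (q - 1) * (q + 1) := by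
  obtain ⟨j, rfl⟩ := Nat.exists_eq_add_of_le' hq
  rw [Nat.add_sub_cancel]
  apply Nat.sub_eq_of_eq_add
  ring

end Arith

section Graph

variable {S : Type u} [Group S]

theorem primes_eq (q : ℕ) (hq : 2 ≤ q)
    (hsub : ∀ d ∈ charDegrees S, d = q ∨ d ∣ q + 1 ∨ d ∣ q - 1)
    (h1 : q - 1 ∈ charDegrees S) (h2 : q ∈ charDegrees S) (h3 : q + 1 ∈ charDegrees S) :
    degreePrimes S = {r : ℕ | r.Prime ∧ r ∣ q * (q ^ 2 - 1)} := by
  have hfac := sq_sub_one q (by omega)
  ext r
  simp only [degreePrimes, Set.mem_ofPred_eq]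
  constructor
  · rintro ⟨hr, d, hd, hrd⟩
    refine ⟨hr, ?_⟩
    rw [hfac]
    rcases hsub d hd with h | h | h
    · rw [h] at hrd
      exact Dvd.dvd.mul_right hrd _
    · exact Dvd.dvd.mul_left (Dvd.dvd.mul_left (hrd.trans h) _) _
    · exact Dvd.dvd.mul_left (Dvd.dvd.mul_right (hrd.trans h) _) _
  · rintro ⟨hr, hrd⟩
    refine ⟨hr, ?_⟩
    rw [hfac] at hrd
    rcases (Nat.Prime.dvd_mul hr).mp hrd with h | h
    · exact ⟨q, h2, h⟩
    · rcases (Nat.Prime.dvd_mul hr).mp h with h | h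
      · exact ⟨q - 1, h1, h⟩
      · exact ⟨q + 1, h3, h⟩

theorem graph_even (q k : ℕ) (hq : q = 2 ^ k) (h4 : 4 ≤ q)
    (hsub : ∀ d ∈ charDegrees S, d = 1 ∨ d = q - 1 ∨ d = q ∨ d = q + 1)
    (h1 : q - 1 ∈ charDegrees S) (h2 : q ∈ charDegrees S) (h3 : q + 1 ∈ charDegrees S) :
    degreePrimes S = {r : ℕ | r.Prime ∧ r ∣ q * (q ^ 2 - 1)} ∧
    ∀ r s : ℕ, (degreeGraph S).Adj r s ↔ (r ≠ s ∧ r.Prime ∧ s.Prime ∧
      ((r ∣ q + 1 ∧ s ∣ q + 1) ∨ (r ∣ q - 1 ∧ s ∣ q - 1))) := by
  constructor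
  · apply primes_eq q (by omega) _ h1 h2 h3
    intro d hd
    rcases hsub d hd with h | h | h | h
    · right; left; rw [h]; exact one_dvd _
    · right; right; rw [h]
    · left; exact h
    · right; left; rw [h]
  · intro r s
    show (r ≠ s ∧ r.Prime ∧ s.Prime ∧ ∃ d ∈ charDegrees S, r * s ∣ d) ↔ _
    constructor
    · rintro ⟨hne, hr, hs, d, hd, hrs⟩
      refine ⟨hne, hr, hs, ?_⟩
      have hrd : r ∣ d := (Dvd.intro _ rfl).trans hrs
      have hsd : s ∣ d := (Dvd.intro_left _ rfl).trans hrs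
      rcases hsub d hd with h | h | h | h
      · rw [h] at hrd
        exact absurd (Nat.dvd_one.mp hrd) hr.ne_one
      · right
        rw [h] at hrd hsd
        exact ⟨hrd, hsd⟩
      · exfalso
        rw [h, hq] at hrd hsd
        have e1 := (Nat.prime_dvd_prime_iff_eq hr Nat.prime_two).mp (hr.dvd_of_dvd_pow hrd)
        have e2 := (Nat.prime_dvd_prime_iff_eq hs Nat.prime_two).mp (hs.dvd_of_dvd_pow hsd)
        exact hne (e1.trans e2.symm)
      · left
        rw [h] at hrd hsd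
        exact ⟨hrd, hsd⟩
    · rintro ⟨hne, hr, hs, h | h⟩
      · exact ⟨hne, hr, hs, q + 1, h3,
          Nat.Coprime.mul_dvd_of_dvd_of_dvd ((Nat.coprime_primes hr hs).mpr hne) h.1 h.2⟩
      · exact ⟨hne, hr, hs, q - 1, h1,
          Nat.Coprime.mul_dvd_of_dvd_of_dvd ((Nat.coprime_primes hr hs).mpr hne) h.1 h.2⟩

theorem graph_odd (q t k : ℕ) (ht : t.Prime) (hq : q = t ^ k) (hodd : q % 2 = 1) (h5 : 5 < q)
    (hsub : ∀ d ∈ charDegrees S, d = 1 ∨ d = q ∨ d = q + 1 ∨ d = q - 1 ∨ d = (q + 1) / 2 ∨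
      d = (q - 1) / 2)
    (h1 : q - 1 ∈ charDegrees S) (h2 : q ∈ charDegrees S) (h3 : q + 1 ∈ charDegrees S) :
    degreePrimes S = {r : ℕ | r.Prime ∧ r ∣ q * (q ^ 2 - 1)} ∧
    ∀ r s : ℕ, (degreeGraph S).Adj r s ↔ (r ≠ s ∧ r.Prime ∧ s.Prime ∧ r ∣ q ^ 2 - 1 ∧
      s ∣ q ^ 2 - 1 ∧ (r = 2 ∨ s = 2 ∨ (r ∣ q + 1 ∧ s ∣ q + 1) ∨ (r ∣ q - 1 ∧ s ∣ q - 1))) := by
  have hfac := sq_sub_one q (by omega)
  have hp2 : 2 ∣ q + 1 := Nat.dvd_of_mod_eq_zero (by omega)
  have hm2 : 2 ∣ q - 1 := Nat.dvd_of_mod_eq_zero (by omega)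
  have hsub' : ∀ d ∈ charDegrees S, d = 1 ∨ d = q ∨ d ∣ q + 1 ∨ d ∣ q - 1 := by
    intro d hd
    rcases hsub d hd with h | h | h | h | h | h
    · left; exact h
    · right; left; exact h
    · right; right; left; rw [h]
    · right; right; right; rw [h]
    · right; right; left; rw [h]; exact Nat.div_dvd_of_dvd hp2
    · right; right; right; rw [h]; exact Nat.div_dvd_of_dvd hm2
  constructor
  · apply primes_eq q (by omega) _ h1 h2 h3
    intro d hd
    rcases hsub' d hd with h | h | h | h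
    · right; left; rw [h]; exact one_dvd _
    · left; exact h
    · right; left; exact h
    · right; right; exact h
  · intro r s
    show (r ≠ s ∧ r.Prime ∧ s.Prime ∧ ∃ d ∈ charDegrees S, r * s ∣ d) ↔ _
    rw [hfac]
    constructor
    · rintro ⟨hne, hr, hs, d, hd, hrs⟩
      refine ⟨hne, hr, hs, ?_⟩
      have hrd : r ∣ d := (Dvd.intro _ rfl).trans hrs
      have hsd : s ∣ d := (Dvd.intro_left _ rfl).trans hrs
      rcases hsub' d hd with h | h | h | h
      · rw [h] at hrd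
        exact absurd (Nat.dvd_one.mp hrd) hr.ne_one
      · exfalso
        rw [h, hq] at hrd hsd
        have e1 := (Nat.prime_dvd_prime_iff_eq hr ht).mp (hr.dvd_of_dvd_pow hrd)
        have e2 := (Nat.prime_dvd_prime_iff_eq hs ht).mp (hs.dvd_of_dvd_pow hsd)
        exact hne (e1.trans e2.symm)
      · exact ⟨Dvd.dvd.mul_left (hrd.trans h) _, Dvd.dvd.mul_left (hsd.trans h) _,
          Or.inr (Or.inr (Or.inl ⟨hrd.trans h, hsd.trans h⟩))⟩
      · exact ⟨Dvd.dvd.mul_right (hrd.trans h) _, Dvd.dvd.mul_right (hsd.trans h) _,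
          Or.inr (Or.inr (Or.inr ⟨hrd.trans h, hsd.trans h⟩))⟩
    · rintro ⟨hne, hr, hs, hr2, hs2, h | h | h | h⟩
      · subst h
        have hcop : Nat.Coprime 2 s := (Nat.coprime_primes Nat.prime_two hs).mpr hne
        rcases (Nat.Prime.dvd_mul hs).mp hs2 with h' | h'
        · exact ⟨hne, hr, hs, q - 1, h1, Nat.Coprime.mul_dvd_of_dvd_of_dvd hcop hm2 h'⟩
        · exact ⟨hne, hr, hs, q + 1, h3, Nat.Coprime.mul_dvd_of_dvd_of_dvd hcop hp2 h'⟩
      · subst h
        have hcop : Nat.Coprime r 2 := (Nat.coprime_primes hr Nat.prime_two).mpr hne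
        rcases (Nat.Prime.dvd_mul hr).mp hr2 with h' | h'
        · exact ⟨hne, hr, hs, q - 1, h1, Nat.Coprime.mul_dvd_of_dvd_of_dvd hcop h' hm2⟩
        · exact ⟨hne, hr, hs, q + 1, h3, Nat.Coprime.mul_dvd_of_dvd_of_dvd hcop h' hp2⟩
      · exact ⟨hne, hr, hs, q + 1, h3,
          Nat.Coprime.mul_dvd_of_dvd_of_dvd ((Nat.coprime_primes hr hs).mpr hne) h.1 h.2⟩
      · exact ⟨hne, hr, hs, q - 1, h1,
          Nat.Coprime.mul_dvd_of_dvd_of_dvd ((Nat.coprime_primes hr hs).mpr hne) h.1 h.2⟩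

end Graph

section SL

variable (F : Type*) [Field F] [Fintype F]

theorem card_two_pow [CharP F 2] : ∃ k : ℕ, Fintype.card F = 2 ^ k := by
  obtain ⟨n, _, hn⟩ := FiniteField.card F 2
  exact ⟨n, hn⟩

theorem card_prime_pow (t : ℕ) [CharP F t] : t.Prime ∧ ∃ k : ℕ, Fintype.card F = t ^ k ∧ 0 < k := by
  obtain ⟨n, ht, hn⟩ := FiniteField.card F t
  exact ⟨ht, n, hn, n.pos⟩

theorem card_odd (t : ℕ) [CharP F t] (ht : t ≠ 2) : Odd (Fintype.card F) := by
  obtain ⟨htp, k, hk, _⟩ := card_prime_pow F t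
  rw [hk]
  exact Odd.pow (htp.eq_two_or_odd'.resolve_left ht)

/-- Character degrees of `SL₂(F)` in characteristic 2. -/
theorem cd_SL_even [CharP F 2] (h4 : 4 ≤ Fintype.card F) :
    (∀ d ∈ charDegrees (Matrix.SpecialLinearGroup (Fin 2) F),
      d = 1 ∨ d = Fintype.card F - 1 ∨ d = Fintype.card F ∨ d = Fintype.card F + 1) ∧
    Fintype.card F - 1 ∈ charDegrees (Matrix.SpecialLinearGroup (Fin 2) F) ∧
    Fintype.card F ∈ charDegrees (Matrix.SpecialLinearGroup (Fin 2) F) ∧
    Fintype.card F + 1 ∈ charDegrees (Matrix.SpecialLinearGroup (Fin 2) F) ∧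
    degCount (Matrix.SpecialLinearGroup (Fin 2) F) (Fintype.card F) = 1 := by
  obtain ⟨hdeg, hcount⟩ := Cfsg.Agent.S2300.result (F := F)
  obtain ⟨_, c2, c3, c4⟩ := hcount h4
  have e1 : ((Fintype.card F : ℂ) - 1) = ((Fintype.card F - 1 : ℕ) : ℂ) := by
    rw [Nat.cast_sub (by omega)]
    simp
  have e3 : ((Fintype.card F : ℂ) + 1) = ((Fintype.card F + 1 : ℕ) : ℂ) := by
    push_cast
    rfl
  refine ⟨?_, ?_, ?_, ?_, ?_⟩
  · rintro d ⟨χ, rfl⟩
    rcases hdeg χ.1 χ.2 with h | h | h | h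
    · left
      exact Wedderburn.charDegree_eq_of_apply_one (by rw [h]; simp)
    · right; left
      exact Wedderburn.charDegree_eq_of_apply_one (by rw [h, e1])
    · right; right; left
      exact Wedderburn.charDegree_eq_of_apply_one h
    · right; right; right
      exact Wedderburn.charDegree_eq_of_apply_one (by rw [h, e3])
  · apply mem_charDegrees_of_degCount_pos
    rw [degCount_eq_card_apply_one _ _ e1, c4]
    omega
  · apply mem_charDegrees_of_degCount_pos
    rw [degCount_eq_card_apply_one _ _ rfl, c2]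
    omega
  · apply mem_charDegrees_of_degCount_pos
    rw [degCount_eq_card_apply_one _ _ e3, c3]
    omega
  · rw [degCount_eq_card_apply_one _ _ rfl, c2]

/-- Character degrees of `SL₂(F)` in odd characteristic. -/
theorem cd_SL_odd (hodd : Odd (Fintype.card F)) :
    ∀ d ∈ charDegrees (Matrix.SpecialLinearGroup (Fin 2) F),
      d = 1 ∨ d = Fintype.card F ∨ d = Fintype.card F + 1 ∨ d = Fintype.card F - 1 ∨
      d = (Fintype.card F + 1) / 2 ∨ d = (Fintype.card F - 1) / 2 := by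
  obtain ⟨hdeg, -⟩ := Cfsg.Agent.S2299.result (F := F) hodd
  have hq : 2 ≤ Fintype.card F := Fintype.one_lt_card
  have e1 : ((Fintype.card F : ℂ) - 1) = ((Fintype.card F - 1 : ℕ) : ℂ) := by
    rw [Nat.cast_sub (by omega)]
    simp
  have e3 : ((Fintype.card F : ℂ) + 1) = ((Fintype.card F + 1 : ℕ) : ℂ) := by
    push_cast
    rfl
  rintro d ⟨χ, rfl⟩
  rcases hdeg χ.1 χ.2 with h | h | h | h | h | h
  · left
    exact Wedderburn.charDegree_eq_of_apply_one (by rw [h]; simp)
  · right; left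
    exact Wedderburn.charDegree_eq_of_apply_one h
  · right; right; left
    exact Wedderburn.charDegree_eq_of_apply_one (by rw [h, e3])
  · right; right; right; left
    exact Wedderburn.charDegree_eq_of_apply_one (by rw [h, e1])
  · right; right; right; right; left
    exact Wedderburn.charDegree_eq_of_apply_one h
  · right; right; right; right; right
    exact Wedderburn.charDegree_eq_of_apply_one h

theorem degCount_SL_odd (hodd : Odd (Fintype.card F)) (h5 : 5 ≤ Fintype.card F) :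
    degCount (Matrix.SpecialLinearGroup (Fin 2) F) 1 = 1 ∧
    degCount (Matrix.SpecialLinearGroup (Fin 2) F) (Fintype.card F) = 1 ∧
    degCount (Matrix.SpecialLinearGroup (Fin 2) F) (Fintype.card F + 1)
      = (Fintype.card F - 3) / 2 ∧
    degCount (Matrix.SpecialLinearGroup (Fin 2) F) (Fintype.card F - 1)
      = (Fintype.card F - 1) / 2 ∧
    degCount (Matrix.SpecialLinearGroup (Fin 2) F) ((Fintype.card F + 1) / 2) = 2 ∧
    degCount (Matrix.SpecialLinearGroup (Fin 2) F) ((Fintype.card F - 1) / 2) = 2 := by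
  obtain ⟨-, hcount⟩ := Cfsg.Agent.S2299.result (F := F) hodd
  obtain ⟨c1, c2, c3, c4, c5, c6⟩ := hcount h5
  have e1 : ((Fintype.card F : ℂ) - 1) = ((Fintype.card F - 1 : ℕ) : ℂ) := by
    rw [Nat.cast_sub (by omega)]
    simp
  have e3 : ((Fintype.card F : ℂ) + 1) = ((Fintype.card F + 1 : ℕ) : ℂ) := by
    push_cast
    rfl
  refine ⟨?_, ?_, ?_, ?_, ?_, ?_⟩
  · rw [degCount_eq_card_apply_one _ (1 : ℂ) (by simp), c1]
  · rw [degCount_eq_card_apply_one _ _ rfl, c2]
  · rw [degCount_eq_card_apply_one _ _ e3, c3]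
  · rw [degCount_eq_card_apply_one _ _ e1, c4]
  · rw [degCount_eq_card_apply_one _ _ rfl, c5]
  · rw [degCount_eq_card_apply_one _ _ rfl, c6]

theorem center_eq_bot [CharP F 2] :
    Subgroup.center (Matrix.SpecialLinearGroup (Fin 2) F) = ⊥ := by
  rw [eq_bot_iff]
  intro A hA
  rw [Matrix.SpecialLinearGroup.mem_center_iff] at hA
  obtain ⟨r, hr, hA⟩ := hA
  rw [Fintype.card_fin] at hr
  have h2 : (2 : F) = 0 := by exact_mod_cast (CharP.cast_eq_zero F 2)
  have h1 : (r - 1) ^ 2 = 0 := by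
    linear_combination hr - r * h2 + h2
  have h3 : r = 1 := by
    have := (pow_eq_zero_iff (n := 2) (by norm_num)).mp h1
    linear_combination this
  subst h3
  rw [Subgroup.mem_bot]
  apply Subtype.ext
  rw [← hA]
  simp

/-- In characteristic 2, `PSL₂(F) ≃* SL₂(F)`. -/
noncomputable def pslEquiv [CharP F 2] :
    Matrix.ProjectiveSpecialLinearGroup (Fin 2) F ≃* Matrix.SpecialLinearGroup (Fin 2) F :=
  (QuotientGroup.quotientMulEquivOfEq (center_eq_bot F)).trans QuotientGroup.quotientBot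

theorem card_center (t : ℕ) [CharP F t] (ht : t ≠ 2) :
    Nat.card (Subgroup.center (Matrix.SpecialLinearGroup (Fin 2) F)) = 2 := by
  rw [Nat.card_congr (Matrix.SpecialLinearGroup.center_equiv_rootsOfUnity' (0 : Fin 2)).toEquiv]
  have h := IsPrimitiveRoot.neg_one (R := F) t ht
  rw [Fintype.card_fin]
  exact h.card_rootsOfUnity

theorem card_PSL_mul_two (t : ℕ) [CharP F t] (ht : t ≠ 2) :
    Nat.card (Matrix.ProjectiveSpecialLinearGroup (Fin 2) F) * 2
      = Fintype.card F * (Fintype.card F ^ 2 - 1) := by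
  rw [← SLCard.card_SL2, Subgroup.card_eq_card_quotient_mul_card_subgroup
    (Subgroup.center (Matrix.SpecialLinearGroup (Fin 2) F)), card_center F t ht]

/-- Inflation from `PSL₂(F)` to `SL₂(F)`. -/
noncomputable def infl : IrrCharacter (Matrix.ProjectiveSpecialLinearGroup (Fin 2) F) →
    IrrCharacter (Matrix.SpecialLinearGroup (Fin 2) F) :=
  fun χ => (Kernel.irrQuotientEquiv (Subgroup.center (Matrix.SpecialLinearGroup (Fin 2) F)) χ).1

theorem infl_injective : Function.Injective (infl F) := fun _ _ h =>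
  (Kernel.irrQuotientEquiv (Subgroup.center (Matrix.SpecialLinearGroup (Fin 2) F))).injective
    (Subtype.ext h)

theorem infl_degree (χ : IrrCharacter (Matrix.ProjectiveSpecialLinearGroup (Fin 2) F)) :
    charDegree (infl F χ : Matrix.SpecialLinearGroup (Fin 2) F → ℂ)
      = charDegree (χ : Matrix.ProjectiveSpecialLinearGroup (Fin 2) F → ℂ) := rfl

end SL

section PSL

variable (F : Type*) [Field F] [Fintype F]

/-- Degrees of `PSL₂(F)` in odd characteristic: all degrees are among the six values, there is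
exactly one character of degree `q`, and for `q ≥ 7` the degrees `q + 1` and `q - 1` occur. -/
theorem PSL_odd (t : ℕ) [CharP F t] (ht : t ≠ 2) (h5 : 5 ≤ Fintype.card F) :
    (∀ d ∈ charDegrees (Matrix.ProjectiveSpecialLinearGroup (Fin 2) F),
      d = 1 ∨ d = Fintype.card F ∨ d = Fintype.card F + 1 ∨ d = Fintype.card F - 1 ∨
      d = (Fintype.card F + 1) / 2 ∨ d = (Fintype.card F - 1) / 2) ∧
    degCount (Matrix.ProjectiveSpecialLinearGroup (Fin 2) F) (Fintype.card F) = 1 ∧
    (7 ≤ Fintype.card F →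
      0 < degCount (Matrix.ProjectiveSpecialLinearGroup (Fin 2) F) (Fintype.card F + 1) ∧
      0 < degCount (Matrix.ProjectiveSpecialLinearGroup (Fin 2) F) (Fintype.card F - 1)) := by
  classical
  have hodd : Odd (Fintype.card F) := card_odd F t ht
  have hsubSL := cd_SL_odd F hodd
  obtain ⟨c1, c2, c3, c4, c5, c6⟩ := degCount_SL_odd F hodd h5
  have hsub : ∀ d ∈ charDegrees (Matrix.ProjectiveSpecialLinearGroup (Fin 2) F),
      d = 1 ∨ d = Fintype.card F ∨ d = Fintype.card F + 1 ∨ d = Fintype.card F - 1 ∨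
      d = (Fintype.card F + 1) / 2 ∨ d = (Fintype.card F - 1) / 2 :=
    fun d hd => hsubSL d (charDegrees_subset_of_map (infl F) (infl_degree F) hd)
  refine ⟨hsub, ?_⟩
  have hle : ∀ d, degCount (Matrix.ProjectiveSpecialLinearGroup (Fin 2) F) d ≤
      degCount (Matrix.SpecialLinearGroup (Fin 2) F) d :=
    degCount_le_of_injective (infl F) (infl_injective F) (infl_degree F)
  have hcard := card_PSL_mul_two F t ht
  obtain ⟨m, hm⟩ := hodd
  rw [hm] at hsub c2 c3 c4 c5 c6 hcard h5 ⊢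
  have hm2 : 2 ≤ m := by omega
  have e5 : (2 * m + 1 + 1) / 2 = m + 1 := by omega
  have e6 : (2 * m + 1 - 1) / 2 = m := by omega
  have e4 : 2 * m + 1 - 1 = 2 * m := by omega
  have e3 : 2 * m + 1 + 1 = 2 * m + 2 := by omega
  rw [e5] at c5 hsub
  rw [e6] at c6 hsub
  rw [e4] at c4 hsub ⊢
  rw [e3] at c3 hsub ⊢
  have hD : ∀ χ : IrrCharacter (Matrix.ProjectiveSpecialLinearGroup (Fin 2) F),
      charDegree (χ : Matrix.ProjectiveSpecialLinearGroup (Fin 2) F → ℂ) ∈
        ({1, m, m + 1, 2 * m, 2 * m + 1, 2 * m + 2} : Finset ℕ) := by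
    intro χ
    have h := hsub _ ⟨χ, rfl⟩
    simp only [Finset.mem_insert, Finset.mem_singleton]
    omega
  have hsum := sum_degCount (G := Matrix.ProjectiveSpecialLinearGroup (Fin 2) F) _ hD
  rw [Finset.sum_insert (by simp only [Finset.mem_insert, Finset.mem_singleton]; omega),
    Finset.sum_insert (by simp only [Finset.mem_insert, Finset.mem_singleton]; omega),
    Finset.sum_insert (by simp only [Finset.mem_insert, Finset.mem_singleton]; omega),
    Finset.sum_insert (by simp only [Finset.mem_insert, Finset.mem_singleton]; omega),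
    Finset.sum_insert (by simp only [Finset.mem_singleton]; omega),
    Finset.sum_singleton] at hsum
  have hcard' : Nat.card (Matrix.ProjectiveSpecialLinearGroup (Fin 2) F)
      = 2 * m * (m + 1) * (2 * m + 1) := by
    have e : (2 * m + 1) ^ 2 - 1 = 4 * m * (m + 1) := by
      apply Nat.sub_eq_of_eq_add
      ring
    rw [e] at hcard
    apply Nat.eq_of_mul_eq_mul_right (show 0 < 2 by norm_num)
    rw [hcard]
    ring
  rw [hcard'] at hsum
  have hn1 : degCount (Matrix.ProjectiveSpecialLinearGroup (Fin 2) F) 1 = 1 := by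
    have h1 := hle 1
    rw [c1] at h1
    rcases degCount_one_pos (G := Matrix.ProjectiveSpecialLinearGroup (Fin 2) F) with h | h
    · omega
    · exact absurd (Wedderburn.finite_irrCharacter _) h
  have hv := hle m
  rw [c6] at hv
  have hu := hle (m + 1)
  rw [c5] at hu
  have hc := hle (2 * m + 1)
  rw [c2] at hc
  rw [hn1] at hsum
  generalize degCount (Matrix.ProjectiveSpecialLinearGroup (Fin 2) F) m = v at hsum hv
  generalize degCount (Matrix.ProjectiveSpecialLinearGroup (Fin 2) F) (m + 1) = u at hsum hu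
  generalize degCount (Matrix.ProjectiveSpecialLinearGroup (Fin 2) F) (2 * m) = b at hsum ⊢
  generalize degCount (Matrix.ProjectiveSpecialLinearGroup (Fin 2) F) (2 * m + 1) = c
    at hsum hc ⊢
  generalize degCount (Matrix.ProjectiveSpecialLinearGroup (Fin 2) F) (2 * m + 2) = a at hsum ⊢
  have hc1 : c = 1 := arith_c m v u b c a hc hu hv (by linarith)
  subst hc1
  refine ⟨rfl, fun h7 => ?_⟩
  have hm3 : 3 ≤ m := by omega
  exact ⟨arith_a m v u b a hm3 hu hv (by linarith), arith_b m v u b a hm3 hu hv (by linarith)⟩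

/-- For `PSL₂(F)` with `|F| ≥ 4` in characteristic `p`: every degree is `q` or divides `q ± 1`,
and exactly one irreducible character has degree `q`. -/
theorem PSL_sing (p : ℕ) [CharP F p] (hF : 4 ≤ Fintype.card F) :
    (∀ d ∈ charDegrees (Matrix.ProjectiveSpecialLinearGroup (Fin 2) F),
      d = Fintype.card F ∨ d ∣ Fintype.card F + 1 ∨ d ∣ Fintype.card F - 1) ∧
    degCount (Matrix.ProjectiveSpecialLinearGroup (Fin 2) F) (Fintype.card F) = 1 := by
  by_cases hp : p = 2
  · subst hp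
    obtain ⟨hsub, -, -, -, hc⟩ := cd_SL_even F hF
    constructor
    · intro d hd
      rw [charDegrees_congr (pslEquiv F)] at hd
      rcases hsub d hd with h | h | h | h
      · right; left; rw [h]; exact one_dvd _
      · right; right; rw [h]
      · left; exact h
      · right; left; rw [h]
    · rw [degCount_congr (pslEquiv F), hc]
  · have hodd : Odd (Fintype.card F) := card_odd F p hp
    have h5 : 5 ≤ Fintype.card F := by
      obtain ⟨m, hm⟩ := hodd
      omega
    obtain ⟨hsub, hc, -⟩ := PSL_odd F p hp h5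
    refine ⟨?_, hc⟩
    have hp2 : 2 ∣ Fintype.card F + 1 := by
      obtain ⟨m, hm⟩ := hodd
      exact Nat.dvd_of_mod_eq_zero (by omega)
    have hm2 : 2 ∣ Fintype.card F - 1 := by
      obtain ⟨m, hm⟩ := hodd
      exact Nat.dvd_of_mod_eq_zero (by omega)
    intro d hd
    rcases hsub d hd with h | h | h | h | h | h
    · right; left; rw [h]; exact one_dvd _
    · left; exact h
    · right; left; rw [h]
    · right; right; rw [h]
    · right; left; rw [h]; exact Nat.div_dvd_of_dvd hp2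
    · right; right; rw [h]; exact Nat.div_dvd_of_dvd hm2

end PSL

end Cfsg.Agent.Lib.Helper38.PSL2Deg
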