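import Mathlib
import Cfsg.Agent.Lib.Helper42.ReeSpStmt

set_option autoImplicit false

namespace Cfsg.Agent.Lib.Helper38.ReeSpRC2

open Polynomial Cfsg.Agent.Lib.Helper42.ReeSpStmt

universe u v

/-- conjugation by a unit commutes with polynomial evaluation -/
theorem aeval_conj {K : Type v} [Field K] {A : Type v} [Ring A] [Algebra K A] (B : Aˣ) (M : A)
    (f : K[X]) : aeval ((B : A) * M * ((B⁻¹ : Aˣ) : A)) f = (B : A) * aeval M f * ((B⁻¹ : Aˣ) : A) := by
  induction f using Polynomial.induction_on' with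
  | add f g hf hg => rw [map_add, map_add, hf, hg, mul_add, add_mul]
  | monomial n a =>
    rw [Polynomial.aeval_monomial, Polynomial.aeval_monomial, Units.conj_pow]
    simp only [← mul_assoc]
    rw [Algebra.commutes a (B : A)]

/-- the order of `q` modulo a prime divisor `p ≠ 3` of `q² - q + 1` is six -/
theorem order_six (m p : ℕ) [Fact p.Prime] (hp3 : p ≠ 3) (hdvd : p ∣ qq m ^ 2 - qq m + 1) :
    orderOf ((qq m : ℕ) : ZMod p) = 6 := by
  have hp : p.Prime := Fact.out
  set t : ZMod p := ((qq m : ℕ) : ZMod p) with ht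
  have hle : qq m ≤ qq m ^ 2 := by
    have h1 : 1 ≤ qq m := Nat.one_le_pow _ _ (by norm_num)
    nlinarith
  have h : t ^ 2 - t + 1 = 0 := by
    have h1 := (ZMod.natCast_eq_zero_iff (qq m ^ 2 - qq m + 1) p).2 hdvd
    rw [Nat.cast_add, Nat.cast_sub hle, Nat.cast_pow, Nat.cast_one] at h1
    exact h1
  have h3 : t ^ 3 = -1 := by linear_combination (t + 1) * h
  have h6 : t ^ 6 = 1 := by
    have h4 : t ^ 6 = (t ^ 3) ^ 2 := by ring
    rw [h4, h3]; ring
  have hp2 : p ≠ 2 := by
    intro h2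
    subst h2
    have h5 : t ^ 2 = t := ZMod.pow_card t
    rw [h5, sub_self, zero_add] at h
    exact one_ne_zero h
  have hd : orderOf t ∣ 6 := orderOf_dvd_of_pow_eq_one h6
  have hpow := pow_orderOf_eq_one t
  have hle6 : orderOf t ≤ 6 := Nat.le_of_dvd (by norm_num) hd
  have hcases : orderOf t = 1 ∨ orderOf t = 2 ∨ orderOf t = 3 ∨ orderOf t = 6 := by
    generalize orderOf t = o at hd hle6
    interval_cases o <;> omega
  rcases hcases with h1 | h2 | h3' | h6'
  · exfalso
    rw [h1, pow_one] at hpow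
    rw [hpow] at h
    norm_num at h
  · exfalso
    rw [h2] at hpow
    have ht2 : t = 2 := by linear_combination -h + hpow
    rw [ht2] at hpow
    have h30 : ((3 : ℕ) : ZMod p) = 0 := by
      push_cast; linear_combination hpow
    have := (ZMod.natCast_eq_zero_iff 3 p).1 h30
    exact hp3 ((Nat.prime_dvd_prime_iff_eq hp Nat.prime_three).1 this)
  · exfalso
    rw [h3', h3] at hpow
    have h20 : ((2 : ℕ) : ZMod p) = 0 := by
      push_cast; linear_combination -hpow
    have := (ZMod.natCast_eq_zero_iff 2 p).1 h20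
    exact hp2 ((Nat.prime_dvd_prime_iff_eq hp Nat.prime_two).1 this)
  · exact h6'

/-- the key linear algebra fact -/
theorem key (K : Type v) [Field K] [Fintype K] (p q : ℕ) [Fact p.Prime]
    (hq : Fintype.card K = q) (hpK : (p : K) ≠ 0) (ht : orderOf ((q : ℕ) : ZMod p) = 6)
    (M : Matrix (Fin 7) (Fin 7) K) (hM : M ^ p = 1) (hM1 : M ≠ 1)
    (B : (Matrix (Fin 7) (Fin 7) K)ˣ) (k : ℕ)
    (hk : (B : Matrix (Fin 7) (Fin 7) K) * M *
      ((B⁻¹ : (Matrix (Fin 7) (Fin 7) K)ˣ) : Matrix (Fin 7) (Fin 7) K) = M ^ k) :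
    ((k : ℕ) : ZMod p) ^ 6 = 1 := by
  classical
  have hp : p.Prime := Fact.out
  let L := AlgebraicClosure K
  have hint : IsIntegral K M := Matrix.isIntegral M
  have hμdvd : minpoly K M ∣ X ^ p - 1 := minpoly.dvd K M (by simp [hM])
  have hμ0 : minpoly K M ≠ 0 := minpoly.ne_zero hint
  have hdeg : (minpoly K M).natDegree ≤ 7 := by
    have h1 := Polynomial.natDegree_le_of_dvd (Matrix.minpoly_dvd_charpoly M)
      (Matrix.charpoly_monic M).ne_zero
    rwa [Matrix.charpoly_natDegree_eq_dim, Fintype.card_fin] at h1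
  -- the roots in the algebraic closure
  let Rts : Finset L := ((minpoly K M).map (algebraMap K L)).roots.toFinset
  have hRts : ∀ ξ : L, ξ ∈ Rts ↔ aeval ξ (minpoly K M) = 0 := by
    intro ξ
    simp only [Rts, Multiset.mem_toFinset]
    rw [Polynomial.mem_roots (Polynomial.map_ne_zero hμ0), Polynomial.IsRoot,
      Polynomial.eval_map, Polynomial.aeval_def]
  have hcard : Rts.card ≤ 7 := by
    refine (Multiset.toFinset_card_le _).trans ((Polynomial.card_roots' _).trans ?_)
    rw [Polynomial.natDegree_map]; exact hdeg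
  -- Frobenius
  have hfrob : ∀ ξ : L, aeval ξ (minpoly K M) = 0 → aeval (ξ ^ q) (minpoly K M) = 0 := by
    intro ξ h
    have h1 := Polynomial.aeval_algHom_apply (FiniteField.frobeniusAlgHom K L) ξ (minpoly K M)
    rw [h, map_zero] at h1
    have h2 : FiniteField.frobeniusAlgHom K L ξ = ξ ^ q := by
      change ξ ^ Fintype.card K = ξ ^ q; rw [hq]
    rwa [h2] at h1
  -- `k`-th powers
  have hMk : aeval (M ^ k) (minpoly K M) = 0 := by
    rw [← hk, aeval_conj, minpoly.aeval, mul_zero, zero_mul]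
  have hdvdk : minpoly K M ∣ (minpoly K M).comp (X ^ k) := by
    apply minpoly.dvd K M
    rw [Polynomial.aeval_comp, map_pow, Polynomial.aeval_X]
    exact hMk
  have hpow : ∀ ξ : L, aeval ξ (minpoly K M) = 0 → aeval (ξ ^ k) (minpoly K M) = 0 := by
    intro ξ h
    obtain ⟨g, hg⟩ := hdvdk
    have h1 : aeval ξ ((minpoly K M).comp (X ^ k)) = 0 := by rw [hg, map_mul, h, zero_mul]
    rwa [Polynomial.aeval_comp, map_pow, Polynomial.aeval_X] at h1
  -- a nontrivial root
  have hpL : (p : L) ≠ 0 := by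
    have h1 : (p : L) = algebraMap K L (p : K) := (map_natCast (algebraMap K L) p).symm
    rw [h1]
    exact (map_ne_zero (algebraMap K L)).2 hpK
  have hex : ∃ ζ : L, aeval ζ (minpoly K M) = 0 ∧ ζ ≠ 1 := by
    by_contra hcon
    push Not at hcon
    have hΨ : (∑ i ∈ Finset.range p, (X : K[X]) ^ i) * (X - 1) = X ^ p - 1 := geom_sum_mul X p
    have hcop : IsCoprime (minpoly K M) (∑ i ∈ Finset.range p, (X : K[X]) ^ i) := by
      apply (Polynomial.isCoprime_iff_aeval_ne_zero_of_isAlgClosed K L _ _).2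
      intro a
      by_cases ha : aeval a (minpoly K M) = 0
      · right
        rw [hcon a ha]
        simpa using hpL
      · left; exact ha
    have h1 : minpoly K M ∣ X - 1 := by
      rw [← hΨ] at hμdvd
      exact hcop.dvd_of_dvd_mul_left hμdvd
    have h2 : aeval M (X - 1 : K[X]) = 0 := by
      obtain ⟨g, hg⟩ := h1
      rw [hg, map_mul, minpoly.aeval, zero_mul]
    rw [map_sub, Polynomial.aeval_X, map_one] at h2
    exact hM1 (sub_eq_zero.1 h2)
  obtain ⟨ζ, hζ, hζ1⟩ := hex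
  have hζp : ζ ^ p = 1 := by
    obtain ⟨g, hg⟩ := hμdvd
    have h1 : aeval ζ (X ^ p - 1 : K[X]) = 0 := by rw [hg, map_mul, hζ, zero_mul]
    rw [map_sub, map_pow, Polynomial.aeval_X, map_one] at h1
    exact sub_eq_zero.1 h1
  have hordζ : orderOf ζ = p := orderOf_eq_prime hζp hζ1
  have hcl : ∀ (j i : ℕ), aeval (ζ ^ (k ^ j * q ^ i)) (minpoly K M) = 0 := by
    intro j i
    have h1 : ∀ j : ℕ, aeval (ζ ^ (k ^ j)) (minpoly K M) = 0 := by
      intro j
      induction j with
      | zero => simpa using hζ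
      | succ j ih => rw [pow_succ, pow_mul]; exact hpow _ ih
    induction i with
    | zero => simpa using h1 j
    | succ i ih => rw [pow_succ, ← mul_assoc, pow_mul]; exact hfrob _ ih
  -- pigeonhole
  let f : Fin 2 × Fin 6 → L := fun a => ζ ^ (k ^ (a.1 : ℕ) * q ^ (a.2 : ℕ))
  have hmaps : Set.MapsTo f ((Finset.univ : Finset (Fin 2 × Fin 6)) : Set (Fin 2 × Fin 6))
      (Rts : Set L) := fun a _ => Finset.mem_coe.2 ((hRts _).2 (hcl _ _))
  have hlt : Rts.card < (Finset.univ : Finset (Fin 2 × Fin 6)).card := by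
    rw [Finset.card_univ, Fintype.card_prod, Fintype.card_fin, Fintype.card_fin]; omega
  obtain ⟨a, -, b, -, hab, hfab⟩ := Finset.exists_ne_map_eq_of_card_lt_of_maps_to hlt hmaps
  have hmod : ((k : ℕ) : ZMod p) ^ (a.1 : ℕ) * ((q : ℕ) : ZMod p) ^ (a.2 : ℕ) =
      ((k : ℕ) : ZMod p) ^ (b.1 : ℕ) * ((q : ℕ) : ZMod p) ^ (b.2 : ℕ) := by
    have h1 : k ^ (a.1 : ℕ) * q ^ (a.2 : ℕ) ≡ k ^ (b.1 : ℕ) * q ^ (b.2 : ℕ) [MOD p] := by
      rw [← hordζ]
      exact (isOfFinOrder_iff_pow_eq_one.2 ⟨p, hp.pos, hζp⟩).pow_eq_pow_iff_modEq.1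
        (show ζ ^ (k ^ (a.1 : ℕ) * q ^ (a.2 : ℕ)) = ζ ^ (k ^ (b.1 : ℕ) * q ^ (b.2 : ℕ)) from hfab)
    have h2 := (ZMod.natCast_eq_natCast_iff _ _ _).2 h1
    push_cast at h2; exact h2
  -- `k` is a unit mod `p`
  have hk0 : ((k : ℕ) : ZMod p) ≠ 0 := by
    intro h0
    obtain ⟨c, rfl⟩ := (ZMod.natCast_eq_zero_iff k p).1 h0
    rw [pow_mul, hM, one_pow] at hk
    apply hM1
    have h1 : M = ((B⁻¹ : (Matrix (Fin 7) (Fin 7) K)ˣ) : Matrix (Fin 7) (Fin 7) K) *
        ((B : Matrix (Fin 7) (Fin 7) K) * M *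
          ((B⁻¹ : (Matrix (Fin 7) (Fin 7) K)ˣ) : Matrix (Fin 7) (Fin 7) K)) *
        (B : Matrix (Fin 7) (Fin 7) K) := by
      simp [mul_assoc]
    rw [h1, hk]; simp
  have ht6 : ((q : ℕ) : ZMod p) ^ 6 = 1 := by rw [← ht]; exact pow_orderOf_eq_one _
  have ht0 : ((q : ℕ) : ZMod p) ≠ 0 := by
    intro h0
    rw [h0] at ht6
    norm_num at ht6
  have hinj : ∀ i i' : Fin 6, ((q : ℕ) : ZMod p) ^ (i : ℕ) = ((q : ℕ) : ZMod p) ^ (i' : ℕ) →
      i = i' := by
    intro i i' h
    have h1 : (i : ℕ) ∈ Set.Iio (orderOf ((q : ℕ) : ZMod p)) := by rw [ht]; exact i.2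
    have h2 : (i' : ℕ) ∈ Set.Iio (orderOf ((q : ℕ) : ZMod p)) := by rw [ht]; exact i'.2
    exact Fin.ext (pow_injOn_Iio_orderOf h1 h2 h)
  have hfin : ∀ (i i' : ℕ), ((k : ℕ) : ZMod p) * ((q : ℕ) : ZMod p) ^ i =
      ((q : ℕ) : ZMod p) ^ i' → ((k : ℕ) : ZMod p) ^ 6 = 1 := by
    intro i i' h
    have h1 : ((k : ℕ) : ZMod p) ^ 6 * (((q : ℕ) : ZMod p) ^ 6) ^ i =
        (((q : ℕ) : ZMod p) ^ 6) ^ i' := by
      have h2 := congrArg (fun z => z ^ 6) h
      simp only [mul_pow] at h2
      rw [← pow_mul, ← pow_mul, mul_comm 6 i, mul_comm 6 i']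
      rw [← pow_mul, ← pow_mul] at h2
      exact h2
    rw [ht6, one_pow, one_pow, mul_one] at h1
    exact h1
  obtain ⟨j, i⟩ := a
  obtain ⟨j', i'⟩ := b
  simp only at hmod
  have hj : (j : ℕ) = 0 ∨ (j : ℕ) = 1 := by omega
  have hj' : (j' : ℕ) = 0 ∨ (j' : ℕ) = 1 := by omega
  rcases hj with hj | hj <;> rcases hj' with hj' | hj'
  · exfalso
    rw [hj, hj', pow_zero, one_mul, one_mul] at hmod
    exact hab (Prod.ext (Fin.ext (hj.trans hj'.symm)) (hinj i i' hmod))
  · rw [hj, hj', pow_zero, one_mul, pow_one] at hmod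
    exact hfin _ _ hmod.symm
  · rw [hj, hj', pow_zero, one_mul, pow_one] at hmod
    exact hfin _ _ hmod
  · exfalso
    rw [hj, hj', pow_one] at hmod
    exact hab (Prod.ext (Fin.ext (hj.trans hj'.symm)) (hinj i i' (mul_left_cancel₀ hk0 hmod)))

theorem main : RC2.{u, v} := by
  intro G _ _ K _ _ m hcard ⟨ρ, hρ⟩ x p hp hp3 hord hdvd
  classical
  have : Fact p.Prime := ⟨hp⟩
  have h3K : (3 : K) = 0 := by
    have h1 : ((Fintype.card K : ℕ) : K) = 0 := Nat.cast_card_eq_zero K
    rw [hcard] at h1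
    have h2 : (3 : K) ^ (2 * m + 1) = 0 := by
      have h3 : ((qq m : ℕ) : K) = (3 : K) ^ (2 * m + 1) := by
        simp [qq]
      rw [← h3]; exact h1
    exact (pow_eq_zero_iff (by omega)).1 h2
  have hpK : (p : K) ≠ 0 := by
    intro hp0
    have h1 : ((p % 3 : ℕ) : K) = 0 := by
      have h := Nat.div_add_mod p 3
      have h' : ((3 * (p / 3) + p % 3 : ℕ) : K) = 0 := by rw [h]; exact hp0
      push_cast at h'
      rw [h3K, zero_mul, zero_add] at h'
      exact h'
    have h2 : p % 3 = 0 ∨ p % 3 = 1 ∨ p % 3 = 2 := by omega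
    rcases h2 with h | h | h
    · exact hp3
        ((Nat.prime_dvd_prime_iff_eq Nat.prime_three hp).1 (Nat.dvd_of_mod_eq_zero h)).symm
    · rw [h] at h1
      simp at h1
    · rw [h] at h1
      have h4 : (1 : K) = 0 := by
        have h5 : (1 : K) = 3 - 2 := by norm_num
        have h6 : (2 : K) = 0 := by exact_mod_cast h1
        rw [h5, h3K, h6, sub_zero]
      exact one_ne_zero h4
  have ht := order_six m p hp3 hdvd
  have hM : ((ρ x : GL (Fin 7) K) : Matrix (Fin 7) (Fin 7) K) ^ p = 1 := by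
    have h1 : (ρ x) ^ p = 1 := by rw [← map_pow, ← hord, pow_orderOf_eq_one, map_one]
    have h2 := congrArg (fun g : GL (Fin 7) K => (g : Matrix (Fin 7) (Fin 7) K)) h1
    simpa using h2
  have hx1 : x ≠ 1 := by
    rintro rfl
    rw [orderOf_one] at hord
    exact hp.one_lt.ne hord
  have hM1 : ((ρ x : GL (Fin 7) K) : Matrix (Fin 7) (Fin 7) K) ≠ 1 := by
    intro h
    apply hx1
    apply hρ
    rw [map_one]
    exact Units.ext h
  have hsix : ∀ n : G, n ∈ Subgroup.normalizer (Subgroup.zpowers x : Set G) →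
      n ^ 6 * x = x * n ^ 6 := by
    intro n hn
    have h1 : n * x * n⁻¹ ∈ Subgroup.zpowers x :=
      (Subgroup.mem_normalizer_iff.1 hn x).1 (Subgroup.mem_zpowers x)
    rw [← (isOfFinOrder_of_finite x).mem_powers_iff_mem_zpowers] at h1
    obtain ⟨k, hk⟩ := (Submonoid.mem_powers_iff _ _).1 h1
    have hkey := key K p (qq m) hcard hpK ht _ hM hM1 (ρ n) k (by
      have h2 := congrArg (fun g : GL (Fin 7) K => (g : Matrix (Fin 7) (Fin 7) K))
        (congrArg ρ hk)
      simp only [map_pow, map_mul, map_inv, Units.val_pow_eq_pow_val, Units.val_mul] at h2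
      exact h2.symm)
    have hiter : ∀ j : ℕ, n ^ j * x * (n ^ j)⁻¹ = x ^ (k ^ j) := by
      intro j
      induction j with
      | zero => simp
      | succ j ih =>
        have h2 : n ^ (j + 1) * x * (n ^ (j + 1))⁻¹ = n * (n ^ j * x * (n ^ j)⁻¹) * n⁻¹ := by
          rw [pow_succ']; group
        rw [h2, ih, ← conj_pow, ← hk, ← pow_mul, ← pow_succ']
    have h6 : x ^ (k ^ 6) = x := by
      have h7 : k ^ 6 ≡ 1 [MOD orderOf x] := by
        rw [hord, ← ZMod.natCast_eq_natCast_iff]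
        push_cast
        exact hkey
      have h8 := pow_eq_pow_iff_modEq.2 h7
      rwa [pow_one] at h8
    have h8 := hiter 6
    rw [h6] at h8
    calc n ^ 6 * x = n ^ 6 * x * (n ^ 6)⁻¹ * n ^ 6 := by group
      _ = x * n ^ 6 := by rw [h8]
  -- counting
  have hcent : Subgroup.centralizer ((Subgroup.zpowers x : Subgroup G) : Set G) =
      Subgroup.centralizer ({x} : Set G) := by
    ext g
    simp only [Subgroup.mem_centralizer_iff, Set.mem_singleton_iff, forall_eq]
    constructor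
    · intro h; exact h x (Subgroup.mem_zpowers x)
    · intro h y hy
      obtain ⟨i, rfl⟩ := Subgroup.mem_zpowers_iff.1 hy
      exact (Commute.zpow_left (show Commute x g from h) i).eq
  have hker := Subgroup.normalizerMonoidHom_ker (Subgroup.zpowers x)
  have hle : Subgroup.centralizer ({x} : Set G) ≤
      Subgroup.normalizer ((Subgroup.zpowers x : Subgroup G) : Set G) := by
    rw [← hcent]; exact Subgroup.centralizer_le_normalizer _
  have hcardker : Nat.card (Subgroup.zpowers x).normalizerMonoidHom.ker =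
      Nat.card (Subgroup.centralizer ({x} : Set G)) := by
    rw [hker, hcent]
    exact Nat.card_congr (Subgroup.subgroupOfEquivOfLe hle).toEquiv
  have hcardH : Nat.card (Subgroup.zpowers x) = p := by rw [Nat.card_zpowers, hord]
  have hcycAut : IsCyclic (MulAut (Subgroup.zpowers x)) := by
    have e := IsCyclic.mulAutMulEquiv (Subgroup.zpowers x)
    have hc : IsCyclic (ZMod (Nat.card (Subgroup.zpowers x)))ˣ := by
      rw [hcardH]; exact ZMod.isCyclic_units_prime hp
    exact isCyclic_of_surjective e.symm e.symm.surjective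
  have hexp : ∀ α : (Subgroup.zpowers x).normalizerMonoidHom.range, α ^ 6 = 1 := by
    rintro ⟨_, ⟨n, rfl⟩⟩
    apply Subtype.ext
    rw [Subgroup.coe_pow, Subgroup.coe_one, ← map_pow]
    have h1 : n ^ 6 ∈ (Subgroup.zpowers x).normalizerMonoidHom.ker := by
      rw [hker, Subgroup.mem_subgroupOf, hcent, Subgroup.mem_centralizer_iff]
      intro y hy
      rw [Set.mem_singleton_iff] at hy
      subst hy
      have h2 := hsix (n : G) n.2
      rw [Subgroup.coe_pow]
      exact h2.symm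
    exact MonoidHom.mem_ker.1 h1
  have hrange : Nat.card (Subgroup.zpowers x).normalizerMonoidHom.range ∣ 6 := by
    rw [← IsCyclic.exponent_eq_card]
    exact Monoid.exponent_dvd_of_forall_pow_eq_one hexp
  have hlag := Subgroup.card_eq_card_quotient_mul_card_subgroup
    (Subgroup.zpowers x).normalizerMonoidHom.ker
  have hquot : Nat.card (↥(Subgroup.normalizer ((Subgroup.zpowers x : Subgroup G) : Set G)) ⧸
      (Subgroup.zpowers x).normalizerMonoidHom.ker) =
      Nat.card (Subgroup.zpowers x).normalizerMonoidHom.range :=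
    Nat.card_congr (QuotientGroup.quotientKerEquivRange _).toEquiv
  rw [hlag, hquot, hcardker]
  exact Nat.mul_dvd_mul_right hrange _

end Cfsg.Agent.Lib.Helper38.ReeSpRC2
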