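import Mathlib
import Cfsg.Agent.Lib.Helper25.AICSpec
import Cfsg.Agent.S0262

set_option autoImplicit false

namespace Cfsg.Agent.Lib.Helper38.AICSplitA

open Subgroup

universe u

/-- in characteristic two the centre of `SL₂` is trivial -/
theorem sl2_center_eq_bot (F : Type) [Field F] [CharP F 2] :
    center (Matrix.SpecialLinearGroup (Fin 2) F) = ⊥ := by
  rw [eq_bot_iff]
  intro A hA
  rw [Matrix.SpecialLinearGroup.mem_center_iff] at hA
  obtain ⟨r, hr, hA⟩ := hA
  rw [Fintype.card_fin] at hr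
  have h2 : (2 : F) = 0 := CharTwo.two_eq_zero
  have hr1 : r = 1 := by
    have h3 : (r - 1) ^ 2 = 0 := by
      have h4 : (r - 1) ^ 2 = r ^ 2 - 2 * r + 1 := by ring
      rw [h4, hr, h2]; ring_nf
      rw [h2]
    exact sub_eq_zero.1 ((pow_eq_zero_iff (two_ne_zero)).1 h3)
  subst hr1
  rw [mem_bot]
  apply Subtype.ext
  rw [← hA]
  simp

/-- Sylow subgroups for odd primes are abelian in a central extension of `SL₂(2^n)` -/
theorem sylow_comm (G : Type u) [Group G] [Finite G] (F : Type) [Field F] [Fintype F]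
    [CharP F 2] (ψ : G →* Matrix.SpecialLinearGroup (Fin 2) F) (hψ : ψ.ker ≤ center G)
    (p : ℕ) [Fact p.Prime] (hp : p ≠ 2) (P : Sylow p G) :
    ∀ a b : (P : Subgroup G), a * b = b * a := by
  classical
  have hPp : IsPGroup p ((P : Subgroup G).map ψ) := P.2.map ψ
  obtain ⟨R, hR⟩ := hPp.exists_le_sylow
  have : Fact (Nat.Prime 2) := ⟨Nat.prime_two⟩
  have : IsCyclic (R : Subgroup (Matrix.SpecialLinearGroup (Fin 2) F)) :=
    Cfsg.Agent.S0262.result 2 p hp hp R
  let f : (P : Subgroup G) →* (R : Subgroup (Matrix.SpecialLinearGroup (Fin 2) F)) :=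
    (ψ.comp (P : Subgroup G).subtype).codRestrict (R : Subgroup _)
      (fun x => hR (Subgroup.mem_map_of_mem ψ x.2))
  have hf : f.ker ≤ center (P : Subgroup G) := by
    intro x hx
    rw [MonoidHom.mem_ker] at hx
    have hx' : ψ (x : G) = 1 := congrArg Subtype.val hx
    have hxc : (x : G) ∈ center G := hψ (MonoidHom.mem_ker.2 hx')
    rw [Subgroup.mem_center_iff]
    intro y
    exact Subtype.ext (Subgroup.mem_center_iff.1 hxc (y : G))
  have hc := MonoidHom.isMulCommutative_of_isCyclic_of_ker_le_center f hf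
  intro a b
  exact mul_comm' a b

open scoped IsMulCommutative in
theorem main : Cfsg.Agent.Lib.Helper25.AICSpec.SplitA.{u} := by
  intro G _ _ hodd F _ _ hchar ⟨e⟩
  have : CharP F 2 := hchar
  classical
  let e2 : Matrix.ProjectiveSpecialLinearGroup (Fin 2) F ≃*
      Matrix.SpecialLinearGroup (Fin 2) F :=
    (QuotientGroup.quotientMulEquivOfEq (sl2_center_eq_bot F)).trans QuotientGroup.quotientBot
  let ψ : G →* Matrix.SpecialLinearGroup (Fin 2) F :=
    e2.toMonoidHom.comp (e.toMonoidHom.comp (QuotientGroup.mk' (center G)))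
  have hψ : ψ.ker ≤ center G := by
    intro x hx
    rw [MonoidHom.mem_ker] at hx
    have h1 : e2 (e (QuotientGroup.mk' (center G) x)) = 1 := hx
    have h2 : QuotientGroup.mk' (center G) x = 1 := by
      have h3 := e2.injective (h1.trans (map_one e2).symm)
      exact e.injective (h3.trans (map_one e).symm)
    exact (QuotientGroup.eq_one_iff x).1 h2
  rw [eq_bot_iff]
  rintro z ⟨hzc, hzz⟩
  rw [Subgroup.mem_bot]
  by_contra hz1
  have hord : orderOf z ≠ 1 := fun h => hz1 (orderOf_eq_one_iff.1 h)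
  obtain ⟨p, hp, hpz⟩ := Nat.exists_prime_and_dvd hord
  have : Fact p.Prime := ⟨hp⟩
  have hp2 : p ≠ 2 := by
    rintro rfl
    have h1 : orderOf z ∣ Nat.card (center G) := by
      have h2 := orderOf_dvd_natCard (⟨z, hzz⟩ : center G)
      rwa [Subgroup.orderOf_mk] at h2
    exact (Nat.not_even_iff_odd.2 hodd) (even_iff_two_dvd.2 (hpz.trans h1))
  let P : Sylow p G := default
  have hcomm := sylow_comm G F ψ hψ p hp2 P
  have : IsMulCommutative (P : Subgroup G) := ⟨⟨hcomm⟩⟩
  have hT : (MonoidHom.transfer (MonoidHom.id (P : Subgroup G)) : G →* (P : Subgroup G)) z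
      = (1 : (P : Subgroup G)) := by
    have h1 := Abelianization.commutator_subset_ker
      (MonoidHom.transfer (MonoidHom.id (P : Subgroup G)) : G →* (P : Subgroup G))
    exact MonoidHom.mem_ker.1 (h1 hzc)
  have key : ∀ (k : ℕ) (g₀ : G), g₀⁻¹ * z ^ k * g₀ ∈ (P : Subgroup G) →
      g₀⁻¹ * z ^ k * g₀ = z ^ k := by
    intro k g₀ _
    have h1 : z ^ k ∈ center G := pow_mem hzz k
    rw [mul_assoc, ← Subgroup.mem_center_iff.1 h1 g₀, inv_mul_cancel_left]
  have h3 := MonoidHom.transfer_eq_pow (MonoidHom.id (P : Subgroup G)) z key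
  rw [hT] at h3
  have h4 : z ^ (P : Subgroup G).index = 1 := by
    have h5 := congrArg Subtype.val h3
    simpa using h5.symm
  have h5 : p ∣ (P : Subgroup G).index := hpz.trans (orderOf_dvd_of_pow_eq_one h4)
  exact P.not_dvd_index h5

end Cfsg.Agent.Lib.Helper38.AICSplitA
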