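import Mathlib
import Cfsg.Agent.Lib.Helper45.EOStmt

set_option autoImplicit false

/-! Piece [TOPMAT] of S2264 + S2265: the matrix form of the element order bound. -/

namespace Cfsg.Agent.Lib.Helper38.EOTOPMAT

open Polynomial
open Cfsg.Agent.Lib.Helper45.EOStmt

universe u

theorem main : TopPoly.{u} → RcMin.{u} → TopMat.{u} := by
  intro hTop hRc K _ _ p _ _ ι _ _ J g hJ hg hn
  obtain ⟨h0, hrc, hc0, hdeg⟩ := hRc K ι J g hJ hg
  obtain ⟨k, hk1, hbound, hdvd⟩ := hTop K p (minpoly K g) (Fintype.card ι) h0 hrc hc0 hdeg hn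
  refine ⟨k, hk1, hbound, ?_⟩
  rcases hdvd with hd | hd
  · left
    obtain ⟨c, hc⟩ := hd
    have h1 : aeval g (X ^ k - 1 : K[X]) = 0 := by
      rw [hc, map_mul, minpoly.aeval, zero_mul]
    simpa [sub_eq_zero] using h1
  · right
    obtain ⟨c, hc⟩ := hd
    have h1 : aeval g (X ^ k + 1 : K[X]) = 0 := by
      rw [hc, map_mul, minpoly.aeval, zero_mul]
    have h2 : g ^ k + 1 = 0 := by simpa using h1
    exact eq_neg_of_add_eq_zero_left h2

end Cfsg.Agent.Lib.Helper38.EOTOPMAT
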