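import Mathlib
import Cfsg.Agent.Lib.Helper94.EllStmt
import Cfsg.Agent.Lib.Helper14.OrthIndex
import Cfsg.Agent.Lib.Helper44.NegPairs

/-!
# S5993 / PELT (call by helper94)

An element of order `p` of `Omega_(2d+1)(q)`, `q` odd, with `(x - 1) V ∩ Fix x` of dimension at
least `d`: `x = 1 + N` where `N` kills the `e`'s, sends `f`'s and the anisotropic vector to `e`'s
(a skew pairing on `d / 2` pairs of indices, and a "long root" part on the left-over index for
`d` odd).
-/

set_option autoImplicit false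

namespace Cfsg.Agent.Lib.Helper38.EllPELT

open Matrix

universe u

open Cfsg.Agent.Lib.Helper37.HypStmt

section nil

variable {F : Type u} [Field F] {d : ℕ}

/-- the nilpotent map -/
def Nf (σ : Fin d → Fin d) (ε α : Fin d → F) (v : I d → F) : I d → F :=
  Sum.elim (fun _ => ∑ a, α a * v (Sum.inr (Sum.inr a)))
    (Sum.elim
      (fun b => -2 * α b * v (Sum.inl ()) + ε (σ b) * v (Sum.inr (Sum.inr (σ b)))
        - α b * ∑ a, α a * v (Sum.inr (Sum.inr a)))
      (fun _ => 0))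

theorem Nf_inl (σ : Fin d → Fin d) (ε α : Fin d → F) (v : I d → F) (u : Unit) :
    Nf σ ε α v (Sum.inl u) = ∑ a, α a * v (Sum.inr (Sum.inr a)) := rfl

theorem Nf_inr_inl (σ : Fin d → Fin d) (ε α : Fin d → F) (v : I d → F) (b : Fin d) :
    Nf σ ε α v (Sum.inr (Sum.inl b))
      = -2 * α b * v (Sum.inl ()) + ε (σ b) * v (Sum.inr (Sum.inr (σ b)))
        - α b * ∑ a, α a * v (Sum.inr (Sum.inr a)) := rfl

theorem Nf_inr_inr (σ : Fin d → Fin d) (ε α : Fin d → F) (v : I d → F) (b : Fin d) :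
    Nf σ ε α v (Sum.inr (Sum.inr b)) = 0 := rfl

/-- the nilpotent map, as a linear map -/
def Nl (σ : Fin d → Fin d) (ε α : Fin d → F) : (I d → F) →ₗ[F] (I d → F) where
  toFun := Nf σ ε α
  map_add' u v := by
    funext i
    rcases i with i | i | i
    · simp only [Nf_inl, Pi.add_apply, mul_add, Finset.sum_add_distrib]
    · simp only [Nf_inr_inl, Pi.add_apply, mul_add, Finset.sum_add_distrib]
      ring
    · simp only [Nf_inr_inr, Pi.add_apply, add_zero]
  map_smul' c v := by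
    funext i
    have hs : ∑ a, α a * (c * v (Sum.inr (Sum.inr a)))
        = c * ∑ a, α a * v (Sum.inr (Sum.inr a)) := by
      rw [Finset.mul_sum]
      apply Finset.sum_congr rfl
      intro a _
      ring
    rcases i with i | i | i
    · simp only [Nf_inl, Pi.smul_apply, smul_eq_mul, RingHom.id_apply, hs]
    · simp only [Nf_inr_inl, Pi.smul_apply, smul_eq_mul, RingHom.id_apply, hs]
      ring
    · simp only [Nf_inr_inr, Pi.smul_apply, smul_eq_mul, RingHom.id_apply, mul_zero]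

theorem sum_split (s v0 : F) (α ve vf g : Fin d → F) :
    ∑ i, (ve i + (-2 * α i * v0 + g i - α i * s)) * vf i
      = ∑ i, ve i * vf i - 2 * v0 * ∑ i, α i * vf i + ∑ i, g i * vf i
        - s * ∑ i, α i * vf i := by
  simp only [Finset.mul_sum, ← Finset.sum_sub_distrib, ← Finset.sum_add_distrib]
  apply Finset.sum_congr rfl
  intro i _
  ring

/-- `1 + N` is an isometry -/
theorem Nf_iso (h2 : (2 : F) ≠ 0) (σ : Fin d → Fin d) (ε α : Fin d → F)
    (hσ : ∀ a, σ (σ a) = a) (hε : ∀ a, ε (σ a) = -ε a) (v : I d → F) :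
    Cfsg.quadFormOdd d F (v + Nf σ ε α v) = Cfsg.quadFormOdd d F v := by
  have h1 : ∑ b, ε (σ b) * v (Sum.inr (Sum.inr (σ b))) * v (Sum.inr (Sum.inr b))
      = ∑ b, ε (σ (σ b)) * v (Sum.inr (Sum.inr (σ (σ b)))) * v (Sum.inr (Sum.inr (σ b))) :=
    (Equiv.sum_comp (Function.Involutive.toPerm σ hσ)
      (fun b => ε (σ b) * v (Sum.inr (Sum.inr (σ b))) * v (Sum.inr (Sum.inr b)))).symm
  have h3 : ∑ b, ε (σ (σ b)) * v (Sum.inr (Sum.inr (σ (σ b)))) * v (Sum.inr (Sum.inr (σ b)))
      = -∑ b, ε (σ b) * v (Sum.inr (Sum.inr (σ b))) * v (Sum.inr (Sum.inr b)) := by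
    rw [← Finset.sum_neg_distrib]
    apply Finset.sum_congr rfl
    intro b _
    rw [hσ b, hε b]
    ring
  have h4 : (2 : F) * ∑ b, ε (σ b) * v (Sum.inr (Sum.inr (σ b))) * v (Sum.inr (Sum.inr b))
      = 0 := by
    linear_combination h1 + h3
  have hS : ∑ b, ε (σ b) * v (Sum.inr (Sum.inr (σ b))) * v (Sum.inr (Sum.inr b)) = 0 :=
    (mul_eq_zero.mp h4).resolve_left h2
  unfold Cfsg.quadFormOdd
  simp only [Pi.add_apply, Nf_inl, Nf_inr_inl, Nf_inr_inr, add_zero]
  rw [sum_split (∑ a, α a * v (Sum.inr (Sum.inr a))) (v (Sum.inl ())) α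
    (fun i => v (Sum.inr (Sum.inl i))) (fun i => v (Sum.inr (Sum.inr i)))
    (fun i => ε (σ i) * v (Sum.inr (Sum.inr (σ i)))), hS]
  ring

/-- `N ^ 3 = 0` -/
theorem Nf3 (σ : Fin d → Fin d) (ε α : Fin d → F) (v : I d → F) :
    Nf σ ε α (Nf σ ε α (Nf σ ε α v)) = 0 := by
  funext i
  rcases i with i | i | i
  · simp [Nf_inl, Nf_inr_inr]
  · simp [Nf_inl, Nf_inr_inl, Nf_inr_inr]
  · rfl

theorem Nf_single_e (σ : Fin d → Fin d) (ε α : Fin d → F) (b : Fin d) :
    Nf σ ε α (Pi.single (Sum.inr (Sum.inl b)) (1 : F)) = 0 := by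
  funext i
  rcases i with i | i | i
  · simp [Nf_inl, Pi.single_apply]
  · simp [Nf_inr_inl, Pi.single_apply]
  · rfl

theorem Nf_pair [DecidableEq (Fin d)] (σ : Fin d → Fin d) (ε α : Fin d → F)
    (hσ : ∀ a, σ (σ a) = a) (b : Fin d) (h1 : α (σ b) = 0) (h2 : ε (σ b) * ε (σ b) = 1) :
    Nf σ ε α (ε (σ b) • Pi.single (Sum.inr (Sum.inr (σ b))) (1 : F))
      = Pi.single (Sum.inr (Sum.inl b)) 1 := by
  have hs : ∑ a, α a * (ε (σ b) • (Pi.single (Sum.inr (Sum.inr (σ b))) (1 : F) : I d → F))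
      (Sum.inr (Sum.inr a)) = 0 := by
    rw [Finset.sum_eq_single (σ b)]
    · rw [h1, zero_mul]
    · intro a _ ha
      simp [Pi.single_apply, ha]
    · intro h
      exact absurd (Finset.mem_univ _) h
  funext i
  rcases i with i | i | i
  · rw [Nf_inl, hs]
    simp [Pi.single_apply]
  · rw [Nf_inr_inl, hs]
    by_cases hb : i = b
    · subst hb
      simp [Pi.single_apply, h2]
    · have hne : σ i ≠ σ b := fun h => hb (by rw [← hσ i, h, hσ])
      simp [Pi.single_apply, hb, hne]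
  · rw [Nf_inr_inr]
    simp [Pi.single_apply]

theorem Nf_fix [DecidableEq (Fin d)] (h2 : (2 : F) ≠ 0) (σ : Fin d → Fin d) (ε α : Fin d → F)
    (b : Fin d) (h : ∀ a, α a = if a = b then 1 else 0) :
    Nf σ ε α ((-1 / 2 : F) • Pi.single (Sum.inl ()) (1 : F))
      = Pi.single (Sum.inr (Sum.inl b)) 1 := by
  funext i
  rcases i with i | i | i
  · simp [Nf_inl, Pi.single_apply]
  · rw [Nf_inr_inl]
    simp only [Pi.smul_apply, Pi.single_apply, smul_eq_mul, h]
    by_cases hb : i = b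
    · simp [hb]
      field_simp
    · simp [hb]
  · rw [Nf_inr_inr]
    simp [Pi.single_apply]

end nil

theorem exists_data (F : Type u) [Field F] (d : ℕ) :
    ∃ (σ : Fin d → Fin d) (ε α : Fin d → F), (∀ a, σ (σ a) = a) ∧ (∀ a, ε (σ a) = -ε a) ∧
      ∀ b, (α (σ b) = 0 ∧ ε (σ b) * ε (σ b) = 1) ∨ (∀ a, α a = if a = b then 1 else 0) := by
  classical
  have hcard : Fintype.card (Fin d)
      = Fintype.card ((Fin (d / 2) ⊕ Fin (d / 2)) ⊕ Fin (d % 2)) := by
    simp only [Fintype.card_fin, Fintype.card_sum]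
    omega
  have e : Fin d ≃ (Fin (d / 2) ⊕ Fin (d / 2)) ⊕ Fin (d % 2) := Fintype.equivOfCardEq hcard
  have hsub : Subsingleton (Fin (d % 2)) := by
    have : d % 2 ≤ 1 := by omega
    exact Fin.subsingleton_iff_le_one.mpr this
  obtain ⟨f, hf⟩ : ∃ f : (Fin (d / 2) ⊕ Fin (d / 2)) ⊕ Fin (d % 2)
      → (Fin (d / 2) ⊕ Fin (d / 2)) ⊕ Fin (d % 2), f = Sum.map Sum.swap id := ⟨_, rfl⟩
  obtain ⟨g, hg⟩ : ∃ g : (Fin (d / 2) ⊕ Fin (d / 2)) ⊕ Fin (d % 2) → F,
      g = Sum.elim (Sum.elim (fun _ => 1) (fun _ => -1)) (fun _ => 0) := ⟨_, rfl⟩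
  obtain ⟨h, hh⟩ : ∃ h : (Fin (d / 2) ⊕ Fin (d / 2)) ⊕ Fin (d % 2) → F,
      h = Sum.elim (fun _ => 0) (fun _ => 1) := ⟨_, rfl⟩
  have hff : ∀ x, f (f x) = x := by
    rw [hf]
    rintro ((x | x) | x) <;> rfl
  have hgf : ∀ x, g (f x) = -g x := by
    rw [hf, hg]
    rintro ((x | x) | x) <;> simp
  refine ⟨fun a => e.symm (f (e a)), fun a => g (e a), fun a => h (e a), ?_, ?_, ?_⟩
  · intro a
    simp only [Equiv.apply_symm_apply, hff, Equiv.symm_apply_apply]
  · intro a
    simp only [Equiv.apply_symm_apply, hgf]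
  · intro b
    simp only [Equiv.apply_symm_apply]
    rcases hb : e b with (x | x) | x
    · left
      rw [hf, hg, hh]
      simp
    · left
      rw [hf, hg, hh]
      simp
    · right
      intro a
      rcases ha : e a with (y | y) | y
      · have hne : a ≠ b := by
          intro hab
          rw [hab, hb] at ha
          cases ha
        rw [hh]
        simp [hne]
      · have hne : a ≠ b := by
          intro hab
          rw [hab, hb] at ha
          cases ha
        rw [hh]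
        simp [hne]
      · have hab : a = b := e.injective (by rw [ha, hb, Subsingleton.elim x y])
        rw [hh]
        simp [hab]

theorem main : Cfsg.Agent.Lib.Helper94.EllStmt.PElt.{u} := by
  intro F _ _ p hpF _ hodd d hd
  classical
  have hp : p.Prime := hpF.out
  have h2 : (2 : F) ≠ 0 := by
    intro h
    have hch : ringChar F = 2 :=
      CharP.ringChar_of_prime_eq_zero Nat.prime_two (by exact_mod_cast h)
    have := FiniteField.even_card_of_char_two hch
    rcases hodd with ⟨m, hm⟩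
    omega
  have hp2 : p ≠ 2 := by
    intro h
    apply h2
    have := CharP.cast_eq_zero F p
    rw [h] at this
    exact_mod_cast this
  have hp3 : 3 ≤ p := by
    have := hp.two_le
    omega
  have hpodd : p % 2 = 1 := hp.eq_two_or_odd.resolve_left hp2
  obtain ⟨σ, ε, α, hσ, hε, hα⟩ := exists_data F d
  obtain ⟨N, hN⟩ : ∃ N : (I d → F) →ₗ[F] (I d → F), N = Nl σ ε α := ⟨_, rfl⟩
  have hNapp : ∀ v, N v = Nf σ ε α v := by
    intro v
    rw [hN]
    rfl
  obtain ⟨NM, hNM⟩ : ∃ NM : Matrix (I d) (I d) F, NM = LinearMap.toMatrix' N := ⟨_, rfl⟩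
  obtain ⟨X, hX⟩ : ∃ X : Matrix (I d) (I d) F, X = 1 + NM := ⟨_, rfl⟩
  have hXlin : Matrix.toLin' X = LinearMap.id + N := by
    rw [hX, hNM, map_add, Matrix.toLin'_one, Matrix.toLin'_toMatrix']
  have hXv : ∀ v, X *ᵥ v = v + Nf σ ε α v := by
    intro v
    rw [← Matrix.toLin'_apply, hXlin, LinearMap.add_apply, LinearMap.id_apply, hNapp]
  have hN3 : NM * NM * NM = 0 := by
    rw [hNM, ← LinearMap.toMatrix'_comp, ← LinearMap.toMatrix'_comp]
    have : (N ∘ₗ N) ∘ₗ N = 0 := by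
      apply LinearMap.ext
      intro v
      rw [LinearMap.comp_apply, LinearMap.comp_apply, hNapp, hNapp, hNapp, Nf3]
      rfl
    rw [this, map_zero]
  have hNp : NM ^ p = 0 := by
    rw [show p = 3 + (p - 3) by omega, pow_add, pow_three', hN3, zero_mul]
  have hXp : X ^ p = 1 := by
    rw [hX, add_pow_char_of_commute p (Commute.one_left NM), one_pow, hNp, add_zero]
  obtain ⟨x, hx⟩ : ∃ x : Matrix.GeneralLinearGroup (I d) F,
      (x : Matrix (I d) (I d) F) = X := by
    refine ⟨⟨X, X ^ (p - 1), ?_, ?_⟩, rfl⟩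
    · rw [← pow_succ', show p - 1 + 1 = p by omega, hXp]
    · rw [← pow_succ, show p - 1 + 1 = p by omega, hXp]
  have hxp : x ^ p = 1 := by
    apply Units.ext
    rw [Units.val_pow_eq_pow_val, hx, hXp]
    rfl
  have hiso : x ∈ Cfsg.isometryGroup F (Cfsg.quadFormOdd d F) := by
    intro u v
    show Cfsg.quadFormOdd d F ((x : Matrix (I d) (I d) F) *ᵥ u) = Cfsg.quadFormOdd d F u
    rw [hx, hXv, Nf_iso h2 σ ε α hσ hε]
  have hfin : d ≤ Module.finrank F
      ↥(LinearMap.range (Matrix.toLin' (x : Matrix (I d) (I d) F) - LinearMap.id) ⊓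
        Fx (x : Matrix (I d) (I d) F)) := by
    rw [hx]
    have hsub : Matrix.toLin' X - LinearMap.id = N := by
      rw [hXlin, add_sub_cancel_left]
    rw [hsub]
    have hli : LinearIndependent F
        (fun b : Fin d => (Pi.single (Sum.inr (Sum.inl b)) (1 : F) : I d → F)) :=
      (Pi.linearIndependent_single_one (I d) F).comp
        (fun b : Fin d => (Sum.inr (Sum.inl b) : I d)) (fun a b h => by simpa using h)
    have hle : Submodule.span F
        (Set.range (fun b : Fin d => (Pi.single (Sum.inr (Sum.inl b)) (1 : F) : I d → F)))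
        ≤ LinearMap.range N ⊓ Fx X := by
      rw [Submodule.span_le]
      rintro _ ⟨b, rfl⟩
      refine ⟨?_, ?_⟩
      · rcases hα b with ⟨h1, h2'⟩ | h1
        · exact ⟨_, by rw [hNapp]; exact Nf_pair σ ε α hσ b h1 h2'⟩
        · exact ⟨_, by rw [hNapp]; exact Nf_fix h2 σ ε α b h1⟩
      · show _ ∈ Fx X
        rw [mem_Fx, hXv, Nf_single_e, add_zero]
    have := Submodule.finrank_mono hle
    rw [finrank_span_eq_card hli, Fintype.card_fin] at this
    exact this
  have hx1 : x ≠ 1 := by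
    intro h
    rw [h] at hfin
    have h0 : Matrix.toLin' ((1 : Matrix.GeneralLinearGroup (I d) F) : Matrix (I d) (I d) F)
        - LinearMap.id = 0 := by
      rw [Units.val_one, Matrix.toLin'_one, sub_self]
    rw [h0, LinearMap.range_zero, bot_inf_eq, finrank_bot] at hfin
    omega
  have hord : orderOf x = p := orderOf_eq_prime hxp hx1
  refine ⟨x, ?_, hord, hfin⟩
  have hS := Cfsg.Agent.Lib.Helper44.NegPairs.sep_oddQ h2 d
  have hcardI : 2 ≤ Fintype.card (I d) := by
    simp only [Fintype.card_sum, Fintype.card_unit, Fintype.card_fin]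
    omega
  obtain ⟨g, hg⟩ : ∃ g : ↥(Cfsg.isometryGroup F
      ⇑(Cfsg.Agent.Lib.Helper44.NegPairs.oddQ d F)),
      (g : Matrix.GeneralLinearGroup (I d) F) = x := ⟨⟨x, hiso⟩, rfl⟩
  have hgp : g ^ p = 1 := by
    apply Subtype.ext
    rw [Subgroup.coe_pow, hg, hxp]
    rfl
  have hyy : g ^ ((p + 1) / 2) * g ^ ((p + 1) / 2) = g := by
    rw [← pow_add, show (p + 1) / 2 + (p + 1) / 2 = p + 1 by omega, pow_succ, hgp, one_mul]
  have hmem := Cfsg.Agent.Lib.Helper14.OrthIndex.sq_mem_omega h2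
    (Cfsg.Agent.Lib.Helper44.NegPairs.oddQ d F) hS hcardI (g ^ ((p + 1) / 2))
  rw [hyy] at hmem
  exact ⟨g, hmem, hg⟩

end Cfsg.Agent.Lib.Helper38.EllPELT
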