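import Cfsg.Agent.S2304

/-!
The Borel subgroup `B` of `GL₂(F)` over a finite field: parametrisation `Fˣ × Fˣ × F ≃ B`,
its order, and the Mackey formula for the inner product of two principal series
`indFun B (th α β)`, `indFun B (th α' β')`.
-/

set_option autoImplicit false

namespace Cfsg.Agent.Lib.Helper38.GL2Borel

open Cfsg Cfsg.Agent.S2304 Cfsg.Agent.Lib.CT
open scoped ComplexConjugate

variable {F : Type*} [Field F]

theorem th_apply (α β : MulChar F ℂ) (b : upperTriangularGL 2 F) :
    th α β b = α (b.1.1 0 0) * β (b.1.1 1 1) := rfl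

/-- The upper triangular matrix with diagonal `s, t` and corner `r`. -/
noncomputable def bm (s t : Fˣ) (r : F) : upperTriangularGL 2 F :=
  ⟨Matrix.GeneralLinearGroup.mkOfDetNeZero !![(s : F), r; 0, (t : F)]
      (by simp [Matrix.det_fin_two]),
    (mem_B_iff _).mpr (by simp [Matrix.GeneralLinearGroup.mkOfDetNeZero])⟩

theorem bm_val (s t : Fˣ) (r : F) : (bm s t r).1.1 = !![(s : F), r; 0, (t : F)] := rfl

theorem th_bm (α β : MulChar F ℂ) (s t : Fˣ) (r : F) : th α β (bm s t r) = α s * β t := by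
  rw [th_apply, bm_val]
  simp

/-- The parametrisation of the Borel subgroup. -/
noncomputable def bEquiv : Fˣ × Fˣ × F ≃ upperTriangularGL 2 F where
  toFun p := bm p.1 p.2.1 p.2.2
  invFun b := (Units.mk0 (b.1.1 0 0) (diag_ne b.1 b.2).1,
    Units.mk0 (b.1.1 1 1) (diag_ne b.1 b.2).2, b.1.1 0 1)
  left_inv p := by
    rcases p with ⟨s, t, r⟩
    refine Prod.ext (Units.ext ?_) (Prod.ext (Units.ext ?_) ?_)
    · simp [bm_val]
    · simp [bm_val]
    · simp [bm_val]
  right_inv b := by
    apply Subtype.ext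
    apply Units.ext
    rw [bm_val]
    ext i j
    fin_cases i <;> fin_cases j <;> simp [(mem_B_iff b.1).mp b.2]

theorem bEquiv_apply (p : Fˣ × Fˣ × F) : bEquiv p = bm p.1 p.2.1 p.2.2 := rfl

theorem sum_borel [Fintype F] [DecidableEq F] [Fintype (upperTriangularGL 2 F)]
    (Φ : upperTriangularGL 2 F → ℂ) :
    ∑ b : upperTriangularGL 2 F, Φ b = ∑ s : Fˣ, ∑ t : Fˣ, ∑ r : F, Φ (bm s t r) := by
  rw [← Equiv.sum_comp bEquiv Φ, Fintype.sum_prod_type]
  apply Finset.sum_congr rfl
  intro s _
  rw [Fintype.sum_prod_type]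
  rfl

theorem card_borel [Fintype F] :
    Nat.card (upperTriangularGL 2 F) = Fintype.card F * (Fintype.card F - 1) ^ 2 := by
  rw [← Nat.card_congr (bEquiv (F := F)), Nat.card_prod, Nat.card_prod, Nat.card_units,
    Nat.card_eq_fintype_card]
  ring

theorem card_GL2 [Fintype F] :
    Nat.card (Matrix.GeneralLinearGroup (Fin 2) F) =
      (Fintype.card F ^ 2 - 1) * (Fintype.card F ^ 2 - Fintype.card F) := by
  rw [Matrix.card_GL_field, Fin.prod_univ_two]
  simp

/-- For `x ∉ B`, the element `x⁻¹ b x` lies in `B` only if the corner of `b` is determined by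
its diagonal. -/
theorem corner_of_conj_mem (x : Matrix.GeneralLinearGroup (Fin 2) F) (s t : Fˣ) (r : F)
    (h : x⁻¹ * (bm s t r : Matrix.GeneralLinearGroup (Fin 2) F) * x ∈ upperTriangularGL 2 F)
    (hx : x ∉ upperTriangularGL 2 F) :
    r * x.1 1 0 = ((t : F) - s) * x.1 0 0 := by
  have hv : x.1 1 0 ≠ 0 := fun h => hx ((mem_B_iff x).mpr h)
  obtain ⟨c, hc⟩ : ∃ c : Matrix.GeneralLinearGroup (Fin 2) F,
      c = x⁻¹ * (bm s t r : Matrix.GeneralLinearGroup (Fin 2) F) * x := ⟨_, rfl⟩
  rw [← hc] at h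
  have hc10 := (mem_B_iff c).mp h
  have hxc : x * c = (bm s t r : Matrix.GeneralLinearGroup (Fin 2) F) * x := by
    rw [hc]
    group
  have hm : x.1 * c.1 = (bm s t r).1.1 * x.1 := by
    rw [← Units.val_mul, hxc, Units.val_mul]
  rw [bm_val] at hm
  have e10 := congrFun (congrFun hm 1) 0
  have e00 := congrFun (congrFun hm 0) 0
  simp [Matrix.mul_apply, Fin.sum_univ_two, hc10] at e10 e00
  have hc00 : c.1 0 0 = t := by
    apply mul_left_cancel₀ hv
    linear_combination e10
  rw [hc00] at e00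
  first | linear_combination e00 | linear_combination -e00

/-- For `x ∉ B` and `b ∈ B` with the right corner, `x⁻¹ b x` is the element of `B` with the
diagonal entries swapped. -/
theorem conj_eq_of_corner (x : Matrix.GeneralLinearGroup (Fin 2) F) (s t : Fˣ) (r : F)
    (hx : x ∉ upperTriangularGL 2 F) (h : r * x.1 1 0 = ((t : F) - s) * x.1 0 0) :
    x⁻¹ * (bm s t r : Matrix.GeneralLinearGroup (Fin 2) F) * x =
      (bm t s (((t : F) - s) * x.1 1 1 / x.1 1 0) : Matrix.GeneralLinearGroup (Fin 2) F) := by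
  have hv : x.1 1 0 ≠ 0 := fun h => hx ((mem_B_iff x).mpr h)
  have hr : r = ((t : F) - s) * x.1 0 0 / x.1 1 0 := by
    field_simp
    exact h
  have key : (bm s t r : Matrix.GeneralLinearGroup (Fin 2) F) * x =
      x * (bm t s (((t : F) - s) * x.1 1 1 / x.1 1 0) : Matrix.GeneralLinearGroup (Fin 2) F) := by
    apply Units.ext
    rw [Units.val_mul, Units.val_mul, bm_val, bm_val, hr]
    ext i j
    fin_cases i <;> fin_cases j <;>
      simp [Matrix.mul_apply, Fin.sum_univ_two] <;> field_simp <;> ring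
  rw [mul_assoc, key, inv_mul_cancel_left]

/-- Orthogonality of multiplicative characters, summed over the units. -/
theorem sum_mulChar [Fintype F] [DecidableEq F] (α β : MulChar F ℂ) :
    ∑ s : Fˣ, α s * conj (β s) = if α = β then ((Fintype.card F : ℂ) - 1) else 0 := by
  split_ifs with h
  · subst h
    have h1 : ∀ s : Fˣ, α s * conj (α s) = 1 := by
      intro s
      rw [Complex.mul_conj, Complex.normSq_eq_norm_sq, norm_mulChar α _ s.ne_zero]
      simp
    rw [Finset.sum_congr rfl (fun s _ => h1 s)]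
    simp only [Finset.sum_const, Finset.card_univ, nsmul_eq_mul, mul_one]
    rw [Fintype.card_units, Nat.cast_sub Fintype.card_pos]
    simp
  · obtain ⟨a, ha⟩ : ∃ a : Fˣ, α a ≠ β a := by
      by_contra hh
      push Not at hh
      exact h (MulChar.ext hh)
    obtain ⟨T, hT⟩ : ∃ T : ℂ, T = ∑ s : Fˣ, α s * conj (β s) := ⟨_, rfl⟩
    rw [← hT]
    have h1 : T = α a * conj (β a) * T := by
      calc T = ∑ s : Fˣ, α ((a * s : Fˣ) : F) * conj (β ((a * s : Fˣ) : F)) := by
            rw [hT]
            exact (Equiv.sum_comp (Equiv.mulLeft a) (fun s : Fˣ => α s * conj (β s))).symm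
        _ = ∑ s : Fˣ, α a * conj (β a) * (α s * conj (β s)) := by
            apply Finset.sum_congr rfl
            intro s _
            rw [Units.val_mul, map_mul, map_mul, map_mul]
            ring
        _ = α a * conj (β a) * T := by rw [← Finset.mul_sum, ← hT]
    have hβ : ‖β a‖ = 1 := norm_mulChar β a a.ne_zero
    have hβ0 : β a ≠ 0 := by
      intro h0
      rw [h0, norm_zero] at hβ
      exact zero_ne_one hβ
    have h2 : α a * conj (β a) ≠ 1 := by
      rw [← Complex.inv_eq_conj hβ]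
      intro h3
      apply ha
      field_simp at h3
      exact h3
    have h3 : (1 - α a * conj (β a)) * T = 0 := by linear_combination h1
    rcases mul_eq_zero.mp h3 with h4 | h4
    · exact absurd (sub_eq_zero.mp h4).symm h2
    · exact h4

/-- The Mackey sum for `x ∈ B`. -/
theorem mackey_sum_mem [Fintype F] [DecidableEq F] [Fintype (upperTriangularGL 2 F)]
    (α β α' β' : MulChar F ℂ) (x : Matrix.GeneralLinearGroup (Fin 2) F)
    (hx : x ∈ upperTriangularGL 2 F) :
    ∑ b : upperTriangularGL 2 F, th α β b *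
        conj (extendByZero (upperTriangularGL 2 F) (th α' β') (x⁻¹ * b * x)) =
      (Fintype.card F : ℂ) * ((∑ s : Fˣ, α s * conj (α' s)) * (∑ t : Fˣ, β t * conj (β' t))) := by
  have h1 : ∀ b : upperTriangularGL 2 F,
      extendByZero (upperTriangularGL 2 F) (th α' β') (x⁻¹ * b * x) = th α' β' b := by
    intro b
    have e1 : x⁻¹ * (b : Matrix.GeneralLinearGroup (Fin 2) F) * x =
        (((⟨x, hx⟩ : upperTriangularGL 2 F)⁻¹ * b * ⟨x, hx⟩ : upperTriangularGL 2 F) :
          Matrix.GeneralLinearGroup (Fin 2) F) := rfl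
    rw [e1, FrobRec.extendByZero_apply_coe]
    have e2 : thHom α' β' ((⟨x, hx⟩ : upperTriangularGL 2 F)⁻¹ * b * ⟨x, hx⟩) = thHom α' β' b := by
      rw [map_mul, map_mul, map_inv, mul_comm, mul_inv_cancel_left]
    rw [← thHom_apply, e2, thHom_apply]
  rw [Finset.sum_congr rfl (fun b _ => by rw [h1 b]), sum_borel, Finset.sum_mul_sum,
    Finset.mul_sum]
  apply Finset.sum_congr rfl
  intro s _
  rw [Finset.mul_sum]
  apply Finset.sum_congr rfl
  intro t _
  simp only [th_bm, Finset.sum_const, Finset.card_univ, nsmul_eq_mul, map_mul]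
  ring

/-- The Mackey sum for `x ∉ B`. -/
theorem mackey_sum_not_mem [Fintype F] [DecidableEq F] [Fintype (upperTriangularGL 2 F)]
    (α β α' β' : MulChar F ℂ) (x : Matrix.GeneralLinearGroup (Fin 2) F)
    (hx : x ∉ upperTriangularGL 2 F) :
    ∑ b : upperTriangularGL 2 F, th α β b *
        conj (extendByZero (upperTriangularGL 2 F) (th α' β') (x⁻¹ * b * x)) =
      (∑ s : Fˣ, α s * conj (β' s)) * (∑ t : Fˣ, β t * conj (α' t)) := by
  have hv : x.1 1 0 ≠ 0 := fun h => hx ((mem_B_iff x).mpr h)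
  rw [sum_borel, Finset.sum_mul_sum]
  apply Finset.sum_congr rfl
  intro s _
  apply Finset.sum_congr rfl
  intro t _
  rw [Finset.sum_eq_single (((t : F) - s) * x.1 0 0 / x.1 1 0)]
  · have h : ((t : F) - s) * x.1 0 0 / x.1 1 0 * x.1 1 0 = ((t : F) - s) * x.1 0 0 := by
      field_simp
    rw [conj_eq_of_corner x s t _ hx h, FrobRec.extendByZero_apply_coe, th_bm, th_bm, map_mul]
    ring
  · intro r _ hr
    have hnot : x⁻¹ * (bm s t r : Matrix.GeneralLinearGroup (Fin 2) F) * x ∉
        upperTriangularGL 2 F := by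
      intro hmem
      apply hr
      have := corner_of_conj_mem x s t r hmem hx
      field_simp
      exact this
    rw [FrobRec.extendByZero_apply_of_not_mem _ _ hnot]
    simp
  · intro h
    exact absurd (Finset.mem_univ _) h

theorem mackey_aux (q : ℂ) (hq0 : q ≠ 0) (hq1 : q - 1 ≠ 0) (p1 p2 p3 p4 : Prop)
    [Decidable p1] [Decidable p2] [Decidable p3] [Decidable p4] :
    (q * (q - 1) ^ 2)⁻¹ * ((q * (q - 1) ^ 2)⁻¹ *
      (((q ^ 2 - 1) * (q ^ 2 - q)) *
          ((if p3 then (q - 1) else 0) * (if p4 then (q - 1) else 0)) +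
        (q * (q - 1) ^ 2) *
          (q * ((if p1 then (q - 1) else 0) * (if p2 then (q - 1) else 0)) -
            (if p3 then (q - 1) else 0) * (if p4 then (q - 1) else 0)))) =
      (if p1 ∧ p2 then 1 else 0) + (if p3 ∧ p4 then 1 else 0) := by
  by_cases h1 : p1 <;> by_cases h2 : p2 <;> by_cases h3 : p3 <;> by_cases h4 : p4 <;>
    simp [h1, h2, h3, h4] <;> field_simp <;> ring

/-- **Mackey formula** for the principal series of `GL₂(F)`. -/
theorem classInner_ind [Fintype F] [DecidableEq F] (α β α' β' : MulChar F ℂ) :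
    classInner (indFun (upperTriangularGL 2 F) (th α β))
        (indFun (upperTriangularGL 2 F) (th α' β')) =
      (if α = α' ∧ β = β' then 1 else 0) + (if α = β' ∧ β = α' then 1 else 0) := by
  classical
  let _ : Fintype (upperTriangularGL 2 F) := Fintype.ofFinite _
  rw [FrobRec.frobenius_reciprocity (upperTriangularGL 2 F) (th α β) _
    (FrobRec.indFun_isClassFunction (upperTriangularGL 2 F) _)]
  unfold classInner
  have hq : 2 ≤ Fintype.card F := Fintype.one_lt_card
  have hB : (Nat.card (upperTriangularGL 2 F) : ℂ) =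
      (Fintype.card F : ℂ) * ((Fintype.card F : ℂ) - 1) ^ 2 := by
    rw [card_borel, Nat.cast_mul, Nat.cast_pow, Nat.cast_sub (by omega)]
    simp
  have hG : (Nat.card (Matrix.GeneralLinearGroup (Fin 2) F) : ℂ) =
      ((Fintype.card F : ℂ) ^ 2 - 1) * ((Fintype.card F : ℂ) ^ 2 - (Fintype.card F : ℂ)) := by
    rw [card_GL2, Nat.cast_mul, Nat.cast_sub (by nlinarith), Nat.cast_sub (by nlinarith)]
    simp
  have hq1 : (Fintype.card F : ℂ) - 1 ≠ 0 := by
    have : (2 : ℝ) ≤ (Fintype.card F : ℝ) := by exact_mod_cast hq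
    intro h
    have h2 : ((Fintype.card F : ℝ) : ℂ) = ((1 : ℝ) : ℂ) := by
      push_cast
      linear_combination h
    have h3 := Complex.ofReal_injective h2
    linarith
  have hq0 : (Fintype.card F : ℂ) ≠ 0 := by
    have : Fintype.card F ≠ 0 := by omega
    exact_mod_cast this
  have h1 : ∀ h : upperTriangularGL 2 F,
      th α β h * conj (indFun (upperTriangularGL 2 F) (th α' β') h) =
        (Nat.card (upperTriangularGL 2 F) : ℂ)⁻¹ *
          ∑ x : Matrix.GeneralLinearGroup (Fin 2) F, th α β h *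
            conj (extendByZero (upperTriangularGL 2 F) (th α' β') (x⁻¹ * h * x)) := by
    intro h
    rw [FrobRec.indFun_apply, map_mul, map_sum, map_inv₀, Complex.conj_natCast, mul_left_comm,
      Finset.mul_sum]
  rw [Finset.sum_congr rfl (fun h _ => h1 h), ← Finset.mul_sum, Finset.sum_comm]
  obtain ⟨A, hA⟩ : ∃ A : ℂ, A = (Fintype.card F : ℂ) *
      ((∑ s : Fˣ, α s * conj (α' s)) * (∑ t : Fˣ, β t * conj (β' t))) := ⟨_, rfl⟩
  obtain ⟨C, hC⟩ : ∃ C : ℂ, C =
      (∑ s : Fˣ, α s * conj (β' s)) * (∑ t : Fˣ, β t * conj (α' t)) := ⟨_, rfl⟩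
  have h2 : ∀ x : Matrix.GeneralLinearGroup (Fin 2) F,
      ∑ h : upperTriangularGL 2 F, th α β h *
        conj (extendByZero (upperTriangularGL 2 F) (th α' β') (x⁻¹ * h * x)) =
      C + extendByZero (upperTriangularGL 2 F) (fun _ => A - C) x := by
    intro x
    by_cases hx : x ∈ upperTriangularGL 2 F
    · rw [mackey_sum_mem α β α' β' x hx, FrobRec.extendByZero_apply_of_mem _ _ hx, ← hA]
      ring
    · rw [mackey_sum_not_mem α β α' β' x hx, FrobRec.extendByZero_apply_of_not_mem _ _ hx, ← hC]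
      ring
  rw [Finset.sum_congr rfl (fun x _ => h2 x), Finset.sum_add_distrib, FrobRec.sum_extendByZero]
  simp only [Finset.sum_const, Finset.card_univ, nsmul_eq_mul, ← Nat.card_eq_fintype_card]
  rw [hA, hC, sum_mulChar, sum_mulChar, sum_mulChar, sum_mulChar, hB, hG]
  exact mackey_aux _ hq0 hq1 (α = α') (β = β') (α = β') (β = α')

end Cfsg.Agent.Lib.Helper38.GL2Borel
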