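import Cfsg.Agent.Lib.Helper38.GL2Irr

/-!
Structured form of the classification of the irreducible characters of `GL₂(F)`: every
irreducible character is `lin α`, `st α`, a principal series `psIrr p`, or has degree `q - 1`.
-/

set_option autoImplicit false

namespace Cfsg.Agent.Lib.Helper38.GL2Irr2

open Cfsg Cfsg.Agent.S2304 Cfsg.Agent.Lib.CT Cfsg.Agent.Lib.Helper38.GL2Borel
  Cfsg.Agent.Lib.Helper38.GL2Irr
open scoped ComplexConjugate

variable {F : Type*} [Field F] [Fintype F] [DecidableEq F]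

/-- Every irreducible character of `GL₂(F)` is a linear character `lin α`, a Steinberg twist
`st α`, a principal series character, or has degree `q - 1`. -/
theorem irr_cases (Χ : IrrCharacter (Matrix.GeneralLinearGroup (Fin 2) F)) :
    (∃ α : MulChar F ℂ, Χ = linIrr α) ∨ (∃ α : MulChar F ℂ, Χ = st α) ∨
      (∃ p : MulChar F ℂ × MulChar F ℂ, p.1 ≠ p.2 ∧ Χ = psIrr p) ∨
      charDegree (Χ : Matrix.GeneralLinearGroup (Fin 2) F → ℂ) = Fintype.card F - 1 := by
  classical
  have := Wedderburn.finite_irrCharacter (Matrix.GeneralLinearGroup (Fin 2) F)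
  let _ : Fintype (IrrCharacter (Matrix.GeneralLinearGroup (Fin 2) F)) := Fintype.ofFinite _
  let _ : Fintype (MulChar F ℂ) := Fintype.ofFinite _
  have hq : 2 ≤ Fintype.card F := Fintype.one_lt_card
  have hM : Fintype.card (MulChar F ℂ) = Fintype.card F - 1 := by
    have h1 := MulChar.card_eq_card_units_of_hasEnoughRootsOfUnity F ℂ
    rwa [Nat.card_eq_fintype_card, Nat.card_units, Nat.card_eq_fintype_card] at h1
  obtain ⟨K₁, hK₁def⟩ : ∃ K₁ : Finset (IrrCharacter (Matrix.GeneralLinearGroup (Fin 2) F)),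
      K₁ = Finset.univ.image (linIrr (F := F)) := ⟨_, rfl⟩
  obtain ⟨K₂, hK₂def⟩ : ∃ K₂ : Finset (IrrCharacter (Matrix.GeneralLinearGroup (Fin 2) F)),
      K₂ = Finset.univ.image (st (F := F)) := ⟨_, rfl⟩
  obtain ⟨P, hPdef⟩ : ∃ P : Finset (MulChar F ℂ × MulChar F ℂ),
      P = (Finset.univ : Finset (MulChar F ℂ)).offDiag := ⟨_, rfl⟩
  obtain ⟨K₃, hK₃def⟩ : ∃ K₃ : Finset (IrrCharacter (Matrix.GeneralLinearGroup (Fin 2) F)),
      K₃ = P.image psIrr := ⟨_, rfl⟩
  have hPmem : ∀ p : MulChar F ℂ × MulChar F ℂ, p ∈ P ↔ p.1 ≠ p.2 := by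
    intro p
    rw [hPdef, Finset.mem_offDiag]
    simp
  have hK₁ : K₁.card = Fintype.card F - 1 := by
    rw [hK₁def, Finset.card_image_of_injective _ linIrr_injective, Finset.card_univ, hM]
  have hK₂ : K₂.card = Fintype.card F - 1 := by
    rw [hK₂def, Finset.card_image_of_injective _ st_injective, Finset.card_univ, hM]
  have hP : P.card = (Fintype.card F - 1) * (Fintype.card F - 1) - (Fintype.card F - 1) := by
    rw [hPdef, Finset.offDiag_card, Finset.card_univ, hM]
  have hK₃ : 2 * K₃.card = P.card := by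
    rw [Finset.card_eq_sum_card_image psIrr P, ← hK₃def, Finset.sum_const_nat (m := 2)]
    · ring
    · intro χ hχ
      rw [hK₃def] at hχ
      obtain ⟨p, hp, rfl⟩ := Finset.mem_image.mp hχ
      have hp' : p.1 ≠ p.2 := (hPmem p).mp hp
      have hfib : P.filter (fun p' => psIrr p' = psIrr p) = {p, p.swap} := by
        ext p'
        simp only [Finset.mem_filter, Finset.mem_insert, Finset.mem_singleton]
        constructor
        · rintro ⟨hp'mem, he⟩
          exact (psIrr_eq_iff p' p ((hPmem p').mp hp'mem) hp').mp he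
        · rintro (rfl | rfl)
          · exact ⟨hp, rfl⟩
          · exact ⟨(hPmem _).mpr (fun h => hp' h.symm),
              (psIrr_eq_iff _ _ (fun h => hp' h.symm) hp').mpr (Or.inr rfl)⟩
      rw [hfib, Finset.card_pair]
      intro h
      exact hp' (congrArg Prod.fst h)
  have hd₁ : ∀ χ ∈ K₁, charDegree (χ : Matrix.GeneralLinearGroup (Fin 2) F → ℂ) = 1 := by
    intro χ hχ
    rw [hK₁def] at hχ
    obtain ⟨α, -, rfl⟩ := Finset.mem_image.mp hχ
    exact deg_lin α
  have hd₂ : ∀ χ ∈ K₂,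
      charDegree (χ : Matrix.GeneralLinearGroup (Fin 2) F → ℂ) = Fintype.card F := by
    intro χ hχ
    rw [hK₂def] at hχ
    obtain ⟨α, -, rfl⟩ := Finset.mem_image.mp hχ
    exact deg_st α
  have hd₃ : ∀ χ ∈ K₃,
      charDegree (χ : Matrix.GeneralLinearGroup (Fin 2) F → ℂ) = Fintype.card F + 1 := by
    intro χ hχ
    rw [hK₃def] at hχ
    obtain ⟨p, hp, rfl⟩ := Finset.mem_image.mp hχ
    exact deg_ps p ((hPmem p).mp hp)
  obtain ⟨U, hUdef⟩ : ∃ U : Finset (IrrCharacter (Matrix.GeneralLinearGroup (Fin 2) F)),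
      U = K₁ ∪ K₂ ∪ K₃ := ⟨_, rfl⟩
  have hdisj12 : Disjoint K₁ K₂ := Finset.disjoint_left.mpr (fun χ h1 h2 => by
    have e1 := hd₁ χ h1
    have e2 := hd₂ χ h2
    omega)
  have hdisj3 : Disjoint (K₁ ∪ K₂) K₃ := Finset.disjoint_left.mpr (fun χ h12 h3 => by
    have e3 := hd₃ χ h3
    rcases Finset.mem_union.mp h12 with h | h
    · have e1 := hd₁ χ h
      omega
    · have e2 := hd₂ χ h
      omega)
  have hcardU : U.card = K₁.card + K₂.card + K₃.card := by
    rw [hUdef, Finset.card_union_of_disjoint hdisj3, Finset.card_union_of_disjoint hdisj12]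
  have hdR : ∀ χ ∈ Uᶜ, (Fintype.card F - 1) ∣
      charDegree (χ : Matrix.GeneralLinearGroup (Fin 2) F → ℂ) := by
    intro χ hχ
    have hχU : χ ∉ U := Finset.mem_compl.mp hχ
    apply cusp_dvd
    intro α β
    by_cases hab : α = β
    · subst hab
      have h1 : linIrr α ≠ χ := by
        intro h
        apply hχU
        rw [← h, hUdef, hK₁def]
        simp
      have h2 : st α ≠ χ := by
        intro h
        apply hχU
        rw [← h, hUdef, hK₂def]
        simp
      rw [ind_diag, Orth.classInner_add_left, ← linIrr_val, Wedderburn.irr_orthonormal,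
        Wedderburn.irr_orthonormal, if_neg h1, if_neg h2, add_zero]
    · have h3 : psIrr (α, β) ≠ χ := by
        intro h
        apply hχU
        rw [← h, hUdef, hK₃def]
        apply Finset.mem_union_right
        exact Finset.mem_image.mpr ⟨(α, β), (hPmem _).mpr hab, rfl⟩
      have h4 := psIrr_val (α, β) hab
      simp only at h4
      rw [← h4, Wedderburn.irr_orthonormal, if_neg h3]
  have hcard : Fintype.card (IrrCharacter (Matrix.GeneralLinearGroup (Fin 2) F)) =
      (Fintype.card F - 1) + Fintype.card F * (Fintype.card F - 1) := by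
    have h1 := Helper3.Card.card_irrCharacter (G := Matrix.GeneralLinearGroup (Fin 2) F)
    rw [GL2Classes.card_conjClasses, Nat.card_eq_fintype_card, Nat.card_eq_fintype_card] at h1
    exact h1
  have hcompl : U.card + Uᶜ.card =
      Fintype.card (IrrCharacter (Matrix.GeneralLinearGroup (Fin 2) F)) :=
    Finset.card_add_card_compl U
  have hsq : ∑ χ : IrrCharacter (Matrix.GeneralLinearGroup (Fin 2) F),
      charDegree (χ : Matrix.GeneralLinearGroup (Fin 2) F → ℂ) ^ 2 =
      (Fintype.card F ^ 2 - 1) * (Fintype.card F ^ 2 - Fintype.card F) := by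
    have h1 := Helper3.Orth.sum_apply_one_sq (G := Matrix.GeneralLinearGroup (Fin 2) F)
    rw [finsum_eq_sum_of_fintype, card_GL2] at h1
    have h2 : ∀ χ : IrrCharacter (Matrix.GeneralLinearGroup (Fin 2) F),
        (χ : Matrix.GeneralLinearGroup (Fin 2) F → ℂ) 1 ^ 2 =
          ((charDegree (χ : Matrix.GeneralLinearGroup (Fin 2) F → ℂ) ^ 2 : ℕ) : ℂ) := by
      intro χ
      rw [Nat.cast_pow, Wedderburn.char_natCast_charDegree (Wedderburn.isCharacter_of_irr χ.2)]
    rw [Finset.sum_congr rfl (fun χ _ => h2 χ), ← Nat.cast_sum] at h1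
    exact_mod_cast h1
  have hsplit := Finset.sum_add_sum_compl U
    (fun χ : IrrCharacter (Matrix.GeneralLinearGroup (Fin 2) F) =>
      charDegree (χ : Matrix.GeneralLinearGroup (Fin 2) F → ℂ) ^ 2)
  have hsumU : ∑ χ ∈ U, charDegree (χ : Matrix.GeneralLinearGroup (Fin 2) F → ℂ) ^ 2 =
      K₁.card * 1 + K₂.card * Fintype.card F ^ 2 + K₃.card * (Fintype.card F + 1) ^ 2 := by
    rw [hUdef, Finset.sum_union hdisj3, Finset.sum_union hdisj12,
      Finset.sum_const_nat (m := 1) (fun χ h => by rw [hd₁ χ h]; norm_num),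
      Finset.sum_const_nat (m := Fintype.card F ^ 2) (fun χ h => by rw [hd₂ χ h]),
      Finset.sum_const_nat (m := (Fintype.card F + 1) ^ 2) (fun χ h => by rw [hd₃ χ h])]
  obtain ⟨k, hk⟩ : ∃ k, Fintype.card F = k + 1 := ⟨Fintype.card F - 1, by omega⟩
  have hk1 : 1 ≤ k := by omega
  rw [hk] at hK₁ hK₂ hP hcard hsq hsumU hdR
  simp only [Nat.add_sub_cancel] at hK₁ hK₂ hP hcard hdR
  have e1' : (k + 1) ^ 2 - 1 = k * (k + 2) := by
    have : (k + 1) ^ 2 = k * (k + 2) + 1 := by ring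
    omega
  have e2' : (k + 1) ^ 2 - (k + 1) = k * (k + 1) := by
    have : (k + 1) ^ 2 = k * (k + 1) + (k + 1) := by ring
    omega
  rw [e1', e2'] at hsq
  have hkk : k ≤ k * k := Nat.le_mul_self k
  have e2 : 2 * K₃.card + k = k * k := by omega
  have e1 : K₃.card + Uᶜ.card = k * k := by
    rw [hcardU, hK₁, hK₂, hcard] at hcompl
    have : (k + 1) * k = k * k + k := by ring
    omega
  have e3 : k + k * (k + 1) ^ 2 + K₃.card * (k + 2) ^ 2 +
      ∑ χ ∈ Uᶜ, charDegree (χ : Matrix.GeneralLinearGroup (Fin 2) F → ℂ) ^ 2 =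
      k * (k + 2) * (k * (k + 1)) := by
    rw [hsq, hsumU, hK₁, hK₂] at hsplit
    rw [← hsplit]
    ring
  have hS : ∑ χ ∈ Uᶜ, charDegree (χ : Matrix.GeneralLinearGroup (Fin 2) F → ℂ) ^ 2 =
      Uᶜ.card * k ^ 2 := by
    zify at e1 e2 e3 ⊢
    linear_combination e3 - (k : ℤ) ^ 2 * e1 - 2 * ((k : ℤ) + 1) * e2
  have hge : ∀ χ ∈ Uᶜ, k ^ 2 ≤ charDegree (χ : Matrix.GeneralLinearGroup (Fin 2) F → ℂ) ^ 2 := by
    intro χ hχ
    have h1 := Nat.le_of_dvd (Wedderburn.irr_charDegree_pos χ.2) (hdR χ hχ)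
    exact Nat.pow_le_pow_left h1 2
  have heq : ∀ χ ∈ Uᶜ, charDegree (χ : Matrix.GeneralLinearGroup (Fin 2) F → ℂ) = k := by
    have h1 : ∑ χ ∈ Uᶜ, k ^ 2 =
        ∑ χ ∈ Uᶜ, charDegree (χ : Matrix.GeneralLinearGroup (Fin 2) F → ℂ) ^ 2 := by
      rw [hS, Finset.sum_const, smul_eq_mul]
    have h2 := (Finset.sum_eq_sum_iff_of_le hge).mp h1
    intro χ hχ
    have h3 := h2 χ hχ
    exact (Nat.pow_left_injective (by norm_num : (2 : ℕ) ≠ 0) h3).symm
  by_cases h : Χ ∈ U
  · rw [hUdef] at h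
    rcases Finset.mem_union.mp h with h | h
    · rcases Finset.mem_union.mp h with h | h
      · rw [hK₁def] at h
        obtain ⟨α, -, rfl⟩ := Finset.mem_image.mp h
        exact Or.inl ⟨α, rfl⟩
      · rw [hK₂def] at h
        obtain ⟨α, -, rfl⟩ := Finset.mem_image.mp h
        exact Or.inr (Or.inl ⟨α, rfl⟩)
    · rw [hK₃def] at h
      obtain ⟨p, hp, rfl⟩ := Finset.mem_image.mp h
      exact Or.inr (Or.inr (Or.inl ⟨p, (hPmem p).mp hp, rfl⟩))
  · right; right; right
    rw [hk, Nat.add_sub_cancel]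
    exact heq Χ (Finset.mem_compl.mpr h)

end Cfsg.Agent.Lib.Helper38.GL2Irr2
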