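import Mathlib

/-!
Conjugacy classes of `SL₂(F)` over a finite field of odd order `q`: there are `q + 4` of them
(two central elements, `q - 2` classes of non-central elements with trace `≠ ±2`, and four
classes of elements `±u` with `u` unipotent).
-/

set_option autoImplicit false

namespace Cfsg.Agent.Lib.Helper38.SL2Classes

variable {F : Type*} [Field F]

/-- Constructor for elements of `SL₂`. -/
def mk (a b c d : F) (h : a * d - b * c = 1) : Matrix.SpecialLinearGroup (Fin 2) F :=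
  ⟨!![a, b; c, d], by rw [Matrix.det_fin_two]; simpa using h⟩

theorem mk_val (a b c d : F) (h : a * d - b * c = 1) : (mk a b c d h).1 = !![a, b; c, d] := rfl

theorem det_eq (g : Matrix.SpecialLinearGroup (Fin 2) F) :
    g.1 0 0 * g.1 1 1 - g.1 0 1 * g.1 1 0 = 1 := by
  have := g.2
  rwa [Matrix.det_fin_two] at this

theorem isConj_of_mul_eq {g h x : Matrix.SpecialLinearGroup (Fin 2) F} (hx : g * x = x * h) :
    IsConj g h :=
  isConj_iff.mpr ⟨x⁻¹, by rw [inv_inv, mul_assoc, hx, inv_mul_cancel_left]⟩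

theorem mul_eq_of_isConj {g h : Matrix.SpecialLinearGroup (Fin 2) F} (hc : IsConj g h) :
    ∃ x : Matrix.SpecialLinearGroup (Fin 2) F, x.1 * g.1 = h.1 * x.1 := by
  obtain ⟨x, hx⟩ := isConj_iff.mp hc
  refine ⟨x, ?_⟩
  have : x * g = h * x := by rw [← hx, inv_mul_cancel_right]
  exact congrArg Subtype.val this

theorem trace_eq_of_isConj {g h : Matrix.SpecialLinearGroup (Fin 2) F} (hc : IsConj g h) :
    g.1 0 0 + g.1 1 1 = h.1 0 0 + h.1 1 1 := by
  obtain ⟨x, hx⟩ := mul_eq_of_isConj hc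
  have hd := det_eq x
  have e00 := congrFun (congrFun hx 0) 0
  have e01 := congrFun (congrFun hx 0) 1
  have e10 := congrFun (congrFun hx 1) 0
  have e11 := congrFun (congrFun hx 1) 1
  simp only [Matrix.mul_apply, Fin.sum_univ_two] at e00 e01 e10 e11
  linear_combination (-(g.1 0 0 + g.1 1 1 - h.1 0 0 - h.1 1 1)) * hd + x.1 1 1 * e00 -
    x.1 1 0 * e01 - x.1 0 1 * e10 + x.1 0 0 * e11

/-- The central element `ε • 1`. -/
def zc (ε : F) (hε : ε * ε = 1) : Matrix.SpecialLinearGroup (Fin 2) F :=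
  mk ε 0 0 ε (by linear_combination hε)

/-- The element `ε • u(r)`. -/
def zu (ε r : F) (hε : ε * ε = 1) : Matrix.SpecialLinearGroup (Fin 2) F :=
  mk ε (ε * r) 0 ε (by linear_combination hε)

/-- The companion matrix of trace `t`. -/
def cp (t : F) : Matrix.SpecialLinearGroup (Fin 2) F :=
  mk 0 (-1) 1 t (by ring)

theorem zc_00 (ε : F) (hε : ε * ε = 1) : (zc ε hε).1 0 0 = ε := rfl
theorem zc_01 (ε : F) (hε : ε * ε = 1) : (zc ε hε).1 0 1 = 0 := rfl
theorem zc_10 (ε : F) (hε : ε * ε = 1) : (zc ε hε).1 1 0 = 0 := rfl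
theorem zc_11 (ε : F) (hε : ε * ε = 1) : (zc ε hε).1 1 1 = ε := rfl
theorem zu_00 (ε r : F) (hε : ε * ε = 1) : (zu ε r hε).1 0 0 = ε := rfl
theorem zu_01 (ε r : F) (hε : ε * ε = 1) : (zu ε r hε).1 0 1 = ε * r := rfl
theorem zu_10 (ε r : F) (hε : ε * ε = 1) : (zu ε r hε).1 1 0 = 0 := rfl
theorem zu_11 (ε r : F) (hε : ε * ε = 1) : (zu ε r hε).1 1 1 = ε := rfl
theorem cp_00 (t : F) : (cp t).1 0 0 = 0 := rfl
theorem cp_01 (t : F) : (cp t).1 0 1 = -1 := rfl
theorem cp_10 (t : F) : (cp t).1 1 0 = 1 := rfl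
theorem cp_11 (t : F) : (cp t).1 1 1 = t := rfl

/-- Scalar elements. -/
def IsSc (g : Matrix.SpecialLinearGroup (Fin 2) F) : Prop :=
  g.1 0 1 = 0 ∧ g.1 1 0 = 0 ∧ g.1 0 0 = g.1 1 1

theorem eq_zc_of_isSc (g : Matrix.SpecialLinearGroup (Fin 2) F) (h : IsSc g) :
    ∃ (ε : F) (hε : ε * ε = 1), g = zc ε hε := by
  obtain ⟨h1, h2, h3⟩ := h
  have hd := det_eq g
  rw [h1, h3] at hd
  refine ⟨g.1 1 1, by linear_combination hd, ?_⟩
  apply Subtype.ext
  show g.1 = !![g.1 1 1, 0; 0, g.1 1 1]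
  ext i j
  fin_cases i <;> fin_cases j <;> simp [h1, h2, h3]

theorem zc_comm (ε : F) (hε : ε * ε = 1) (x : Matrix.SpecialLinearGroup (Fin 2) F) :
    x * zc ε hε = zc ε hε * x := by
  apply Subtype.ext
  show x.1 * !![ε, 0; 0, ε] = !![ε, 0; 0, ε] * x.1
  ext i j
  fin_cases i <;> fin_cases j <;> simp [Matrix.mul_apply, Fin.sum_univ_two, mul_comm]

theorem isConj_zc_iff (ε : F) (hε : ε * ε = 1) (g : Matrix.SpecialLinearGroup (Fin 2) F) :
    IsConj (zc ε hε) g ↔ g = zc ε hε := by
  constructor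
  · intro h
    obtain ⟨c, hc⟩ := isConj_iff.mp h
    rw [← hc, zc_comm, mul_inv_cancel_right]
  · rintro rfl
    exact IsConj.refl _

theorem two_ne_zero_of_odd [Fintype F] (hodd : Fintype.card F % 2 = 1) : (2 : F) ≠ 0 := by
  apply Ring.two_ne_zero
  intro h
  have := FiniteField.even_card_iff_char_two.mp h
  omega

/-- A nondegenerate binary quadratic form over a finite field of odd order represents `1`. -/
theorem exists_form_eq_one [Fintype F] (hodd : Fintype.card F % 2 = 1) (A B C : F)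
    (hΔ : B * B - 4 * A * C ≠ 0) : ∃ x y : F, A * x * x + B * x * y + C * y * y = 1 := by
  have h2 := two_ne_zero_of_odd hodd
  by_cases hA : A = 0
  · have hB : B ≠ 0 := by
      intro hB
      apply hΔ
      rw [hA, hB]
      ring
    refine ⟨(1 - C) / B, 1, ?_⟩
    rw [hA]
    field_simp
    ring
  · have hc : -(B * B - 4 * A * C) / (4 * A) ≠ 0 := by
      apply div_ne_zero (neg_ne_zero.mpr hΔ)
      have : (4 : F) = 2 * 2 := by norm_num
      rw [this]
      exact mul_ne_zero (mul_ne_zero h2 h2) hA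
    have hf : (Polynomial.C A * Polynomial.X ^ 2 : Polynomial F).degree = 2 :=
      Polynomial.degree_C_mul_X_pow 2 hA
    have hg : (Polynomial.C (-(B * B - 4 * A * C) / (4 * A)) * Polynomial.X ^ 2 -
        Polynomial.C 1 : Polynomial F).degree = 2 := by
      rw [Polynomial.degree_sub_eq_left_of_degree_lt]
      · exact Polynomial.degree_C_mul_X_pow 2 hc
      · rw [Polynomial.degree_C_mul_X_pow 2 hc]
        exact lt_of_le_of_lt Polynomial.degree_C_le (by norm_num)
    obtain ⟨a, b, hab⟩ := FiniteField.exists_root_sum_quadratic hf hg hodd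
    simp only [Polynomial.eval_mul, Polynomial.eval_C, Polynomial.eval_pow, Polynomial.eval_X,
      Polynomial.eval_sub] at hab
    refine ⟨a - B * b / (2 * A), b, ?_⟩
    have h4 : (4 : F) ≠ 0 := by
      have : (4 : F) = 2 * 2 := by norm_num
      rw [this]
      exact mul_ne_zero h2 h2
    field_simp at hab ⊢
    linear_combination hab

/-- A non-scalar element whose trace is not `±2` is conjugate to a companion matrix. -/
theorem isConj_cp [Fintype F] (hodd : Fintype.card F % 2 = 1)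
    (g : Matrix.SpecialLinearGroup (Fin 2) F)
    (ht : (g.1 0 0 + g.1 1 1) * (g.1 0 0 + g.1 1 1) ≠ 4) :
    IsConj g (cp (g.1 0 0 + g.1 1 1)) := by
  have hd := det_eq g
  have hΔ : (g.1 1 1 - g.1 0 0) * (g.1 1 1 - g.1 0 0) - 4 * g.1 1 0 * (-g.1 0 1) ≠ 0 := by
    intro h
    apply ht
    linear_combination h + 4 * hd
  obtain ⟨x, y, hxy⟩ := exists_form_eq_one hodd (g.1 1 0) (g.1 1 1 - g.1 0 0) (-g.1 0 1) hΔ
  apply isConj_of_mul_eq (x := mk x (g.1 0 0 * x + g.1 0 1 * y) y (g.1 1 0 * x + g.1 1 1 * y)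
    (by linear_combination hxy))
  apply Subtype.ext
  show g.1 * !![x, g.1 0 0 * x + g.1 0 1 * y; y, g.1 1 0 * x + g.1 1 1 * y] =
    !![x, g.1 0 0 * x + g.1 0 1 * y; y, g.1 1 0 * x + g.1 1 1 * y] *
      !![0, -1; 1, g.1 0 0 + g.1 1 1]
  ext i j
  fin_cases i <;> fin_cases j <;> simp [Matrix.mul_apply, Fin.sum_univ_two]
  · linear_combination (-x) * hd
  · linear_combination (-y) * hd

/-- A non-scalar element of trace `2ε` is conjugate to some `ε • u(r)`, `r ≠ 0`. -/
theorem isConj_zu (g : Matrix.SpecialLinearGroup (Fin 2) F) (hg : ¬ IsSc g) (ε : F)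
    (hε : ε * ε = 1) (ht : g.1 0 0 + g.1 1 1 = 2 * ε) :
    ∃ r : F, r ≠ 0 ∧ IsConj g (zu ε r hε) := by
  have hd := det_eq g
  by_cases hc : g.1 1 0 = 0
  · have ha : g.1 0 0 = ε := by
      have h1 : (g.1 0 0 - ε) ^ 2 = 0 := by
        rw [hc] at hd
        linear_combination (g.1 0 0) * ht - hd + hε
      have := pow_eq_zero_iff (n := 2) (by norm_num) |>.mp h1
      linear_combination this
    have hdd : g.1 1 1 = ε := by linear_combination ht - ha
    have hb : g.1 0 1 ≠ 0 := by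
      intro hb
      exact hg ⟨hb, hc, by rw [ha, hdd]⟩
    have hε0 : ε ≠ 0 := by
      intro h0
      rw [h0] at hε
      simp at hε
    refine ⟨ε * g.1 0 1, mul_ne_zero hε0 hb, ?_⟩
    have : g = zu ε (ε * g.1 0 1) hε := by
      apply Subtype.ext
      show g.1 = !![ε, ε * (ε * g.1 0 1); 0, ε]
      ext i j
      fin_cases i <;> fin_cases j <;> simp [ha, hdd, hc]
      rw [← mul_assoc, hε, one_mul]
    rw [← this]
  · have hε0 : ε ≠ 0 := by
      intro h0
      rw [h0] at hε
      simp at hε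
    refine ⟨-ε * g.1 1 0, mul_ne_zero (neg_ne_zero.mpr hε0) hc, ?_⟩
    apply isConj_of_mul_eq (x := mk (-(g.1 0 0 - ε) / g.1 1 0) 1 (-1) 0 (by ring))
    apply Subtype.ext
    show g.1 * !![-(g.1 0 0 - ε) / g.1 1 0, 1; -1, 0] =
      !![-(g.1 0 0 - ε) / g.1 1 0, 1; -1, 0] * !![ε, ε * (-ε * g.1 1 0); 0, ε]
    ext i j
    fin_cases i <;> fin_cases j <;> simp [Matrix.mul_apply, Fin.sum_univ_two]
    · field_simp
      linear_combination (-(g.1 0 0)) * ht + hd - hε
    · field_simp
      linear_combination (-(g.1 0 0 - ε)) * hε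
    · field_simp
      linear_combination -ht
    · linear_combination (-(g.1 1 0)) * hε

theorem isConj_zu_sq (ε r s : F) (hε : ε * ε = 1) (hs : s ≠ 0) :
    IsConj (zu ε r hε) (zu ε (s * s * r) hε) := by
  apply IsConj.symm
  apply isConj_of_mul_eq (x := mk s 0 0 s⁻¹ (by rw [mul_inv_cancel₀ hs]; ring))
  apply Subtype.ext
  show !![ε, ε * (s * s * r); 0, ε] * !![s, 0; 0, s⁻¹] = !![s, 0; 0, s⁻¹] * !![ε, ε * r; 0, ε]
  ext i j
  fin_cases i <;> fin_cases j <;> simp [Matrix.mul_apply, Fin.sum_univ_two]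
  · ring
  · field_simp
  · ring

theorem zu_invariant (ε ε' r r' : F) (hε : ε * ε = 1) (hε' : ε' * ε' = 1) (hr : r ≠ 0)
    (h2 : (2 : F) ≠ 0) (hc : IsConj (zu ε r hε) (zu ε' r' hε')) :
    ε = ε' ∧ ∃ s : F, s ≠ 0 ∧ r' = s * s * r := by
  have ht := trace_eq_of_isConj hc
  rw [zu_00, zu_11, zu_00, zu_11] at ht
  have hεε : ε = ε' := by
    have : 2 * (ε - ε') = 0 := by linear_combination ht
    rcases mul_eq_zero.mp this with h | h
    · exact absurd h h2
    · linear_combination h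
  subst hεε
  refine ⟨rfl, ?_⟩
  have hε0 : ε ≠ 0 := by
    intro h0
    rw [h0] at hε
    simp at hε
  obtain ⟨x, hx⟩ := mul_eq_of_isConj hc
  have hd := det_eq x
  have e01 := congrFun (congrFun hx 0) 1
  have e11 := congrFun (congrFun hx 1) 1
  simp only [Matrix.mul_apply, Fin.sum_univ_two, zu_00, zu_01, zu_10, zu_11] at e01 e11
  have hu : x.1 1 0 = 0 := by
    have h3 : x.1 1 0 * (ε * r) = 0 := by linear_combination e11
    rcases mul_eq_zero.mp h3 with h | h
    · exact h
    · exact absurd h (mul_ne_zero hε0 hr)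
  rw [hu] at hd
  have hp : x.1 0 0 ≠ 0 := by
    intro h0
    rw [h0] at hd
    simp at hd
  refine ⟨x.1 0 0, hp, ?_⟩
  have h4 : ε * (x.1 0 0 * r - r' * x.1 1 1) = 0 := by linear_combination e01
  have h5 : x.1 0 0 * r = r' * x.1 1 1 := by
    rcases mul_eq_zero.mp h4 with h | h
    · exact absurd h hε0
    · linear_combination h
  linear_combination (-r') * hd - (x.1 0 0) * h5

theorem card_sq_eq [Fintype F] [DecidableEq F] (h2 : (2 : F) ≠ 0) (c e : F) (hc : c ≠ 0)
    (he : e = c * c) : Fintype.card {x : F // x * x = e} = 2 := by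
  rw [Fintype.card_subtype]
  have h1 : (Finset.univ.filter (fun x : F => x * x = e)) = {c, -c} := by
    ext x
    simp only [Finset.mem_filter, Finset.mem_univ, true_and, Finset.mem_insert,
      Finset.mem_singleton]
    constructor
    · intro hx
      have h3 : (x - c) * (x + c) = 0 := by
        rw [he] at hx
        linear_combination hx
      rcases mul_eq_zero.mp h3 with h | h
      · left
        linear_combination h
      · right
        linear_combination h
    · rintro (rfl | rfl)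
      · exact he.symm
      · rw [he]
        ring
  rw [h1, Finset.card_pair]
  intro h
  have h3 : 2 * c = 0 := by linear_combination h
  rcases mul_eq_zero.mp h3 with h4 | h4
  · exact h2 h4
  · exact hc h4

/-- Nonzero non-squares differ by a square factor. -/
theorem exists_sq_mul [Fintype F] (hodd : Fintype.card F % 2 = 1) (ν r : F) (hν : ¬ IsSquare ν)
    (hr : ¬ IsSquare r) : ∃ s : F, s ≠ 0 ∧ r = s * s * ν := by
  have hF : ringChar F ≠ 2 := by
    intro h
    have := FiniteField.even_card_iff_char_two.mp h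
    omega
  have hν0 : ν ≠ 0 := by
    rintro rfl
    exact hν ⟨0, by simp⟩
  have hr0 : r ≠ 0 := by
    rintro rfl
    exact hr ⟨0, by simp⟩
  have key : ∀ a : F, a ≠ 0 → ¬ IsSquare a → a ^ (Fintype.card F / 2) = -1 := by
    intro a ha hns
    have h1 : (a ^ (Fintype.card F / 2)) ^ 2 = 1 := by
      rw [← pow_mul]
      have : Fintype.card F / 2 * 2 = Fintype.card F - 1 := by omega
      rw [this]
      exact FiniteField.pow_card_sub_one_eq_one a ha
    have h2 : (a ^ (Fintype.card F / 2) - 1) * (a ^ (Fintype.card F / 2) + 1) = 0 := by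
      linear_combination h1
    rcases mul_eq_zero.mp h2 with h | h
    · exact absurd ((FiniteField.isSquare_iff hF ha).mpr (by linear_combination h)) hns
    · linear_combination h
  have hsq : IsSquare (r / ν) := by
    rw [FiniteField.isSquare_iff hF (div_ne_zero hr0 hν0), div_pow, key r hr0 hr, key ν hν0 hν]
    simp
  obtain ⟨s, hs⟩ := hsq
  have hs0 : s ≠ 0 := by
    rintro rfl
    rw [mul_zero] at hs
    exact (div_ne_zero hr0 hν0) hs
  refine ⟨s, hs0, ?_⟩
  rw [← hs]
  field_simp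

/-- The parametrisation of the conjugacy classes of `SL₂(F)`, given a non-square `ν`. -/
noncomputable def rep (ν : F) :
    {ε : F // ε * ε = 1} ⊕ ({t : F // ¬ t * t = 4} ⊕ ({ε : F // ε * ε = 1} × Bool)) →
      ConjClasses (Matrix.SpecialLinearGroup (Fin 2) F)
  | Sum.inl ε => ConjClasses.mk (zc ε.1 ε.2)
  | Sum.inr (Sum.inl t) => ConjClasses.mk (cp t.1)
  | Sum.inr (Sum.inr p) => ConjClasses.mk (zu p.1.1 (if p.2 then 1 else ν) p.1.2)

theorem rep_bijective [Fintype F] (hodd : Fintype.card F % 2 = 1) (ν : F) (hν : ¬ IsSquare ν) :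
    Function.Bijective (rep ν) := by
  have h2 := two_ne_zero_of_odd hodd
  have hν0 : ν ≠ 0 := by
    rintro rfl
    exact hν ⟨0, by simp⟩
  have hr0 : ∀ j : Bool, (if j then (1 : F) else ν) ≠ 0 := by
    intro j
    cases j <;> simp [hν0]
  have hA : ∀ (ε : {ε : F // ε * ε = 1}) (t : {t : F // ¬ t * t = 4}),
      ¬ IsConj (zc ε.1 ε.2) (cp t.1) := by
    intro ε t h
    have h1 := (isConj_zc_iff ε.1 ε.2 _).mp h
    have h3 : (cp t.1).1 1 0 = (zc ε.1 ε.2).1 1 0 := by rw [h1]
    rw [cp_10, zc_10] at h3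
    exact one_ne_zero h3
  have hB : ∀ (ε : {ε : F // ε * ε = 1}) (p : {ε : F // ε * ε = 1} × Bool),
      ¬ IsConj (zc ε.1 ε.2) (zu p.1.1 (if p.2 then 1 else ν) p.1.2) := by
    intro ε p h
    have h1 := (isConj_zc_iff ε.1 ε.2 _).mp h
    have h3 : (zu p.1.1 (if p.2 then 1 else ν) p.1.2).1 0 1 = (zc ε.1 ε.2).1 0 1 := by rw [h1]
    rw [zu_01, zc_01] at h3
    rcases mul_eq_zero.mp h3 with h4 | h4
    · have := p.1.2
      rw [h4] at this
      simp at this
    · exact hr0 p.2 h4
  have hC : ∀ (t : {t : F // ¬ t * t = 4}) (p : {ε : F // ε * ε = 1} × Bool),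
      ¬ IsConj (cp t.1) (zu p.1.1 (if p.2 then 1 else ν) p.1.2) := by
    intro t p h
    have h1 := trace_eq_of_isConj h
    rw [zu_00, zu_11, cp_00, cp_11, zero_add] at h1
    apply t.2
    rw [h1]
    linear_combination 4 * p.1.2
  constructor
  · rintro (ε | t | p) (ε' | t' | p') h
    · have h1 : IsConj (zc ε.1 ε.2) (zc ε'.1 ε'.2) := ConjClasses.mk_eq_mk_iff_isConj.mp h
      have h3 := (isConj_zc_iff ε.1 ε.2 _).mp h1
      have h4 : (zc ε'.1 ε'.2).1 0 0 = (zc ε.1 ε.2).1 0 0 := by rw [h3]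
      rw [zc_00, zc_00] at h4
      rw [Subtype.ext h4]
    · exact absurd (ConjClasses.mk_eq_mk_iff_isConj.mp h) (hA ε t')
    · exact absurd (ConjClasses.mk_eq_mk_iff_isConj.mp h) (hB ε p')
    · exact absurd (ConjClasses.mk_eq_mk_iff_isConj.mp h).symm (hA ε' t)
    · have h1 : IsConj (cp t.1) (cp t'.1) := ConjClasses.mk_eq_mk_iff_isConj.mp h
      have h3 := trace_eq_of_isConj h1
      rw [cp_00, cp_11, cp_00, cp_11, zero_add, zero_add] at h3
      rw [Subtype.ext h3]
    · exact absurd (ConjClasses.mk_eq_mk_iff_isConj.mp h) (hC t p')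
    · exact absurd (ConjClasses.mk_eq_mk_iff_isConj.mp h).symm (hB ε' p)
    · exact absurd (ConjClasses.mk_eq_mk_iff_isConj.mp h).symm (hC t' p)
    · have h1 : IsConj (zu p.1.1 (if p.2 then 1 else ν) p.1.2)
          (zu p'.1.1 (if p'.2 then 1 else ν) p'.1.2) := ConjClasses.mk_eq_mk_iff_isConj.mp h
      obtain ⟨h3, s, hs, h4⟩ := zu_invariant _ _ _ _ p.1.2 p'.1.2 (hr0 p.2) h2 h1
      rcases p with ⟨ε, j⟩
      rcases p' with ⟨ε', j'⟩
      simp only at h3 h4
      have hj : j = j' := by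
        cases j <;> cases j'
        · rfl
        · exfalso
          simp at h4
          apply hν
          refine ⟨s⁻¹, ?_⟩
          field_simp
          linear_combination -h4
        · exfalso
          simp at h4
          exact hν ⟨s, by rw [h4]⟩
        · rfl
      rw [Subtype.ext h3, hj]
  · intro c
    obtain ⟨g, rfl⟩ := ConjClasses.exists_rep c
    by_cases hg : IsSc g
    · obtain ⟨ε, hε, rfl⟩ := eq_zc_of_isSc g hg
      exact ⟨Sum.inl ⟨ε, hε⟩, rfl⟩
    · by_cases ht : (g.1 0 0 + g.1 1 1) * (g.1 0 0 + g.1 1 1) = 4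
      · obtain ⟨ε, hε, hε2⟩ : ∃ ε : F, ε * ε = 1 ∧ g.1 0 0 + g.1 1 1 = 2 * ε := by
          refine ⟨(g.1 0 0 + g.1 1 1) / 2, ?_, ?_⟩
          · field_simp
            linear_combination ht
          · field_simp
        obtain ⟨r, hr, hc⟩ := isConj_zu g hg ε hε hε2
        by_cases hsq : IsSquare r
        · obtain ⟨s, hs⟩ := hsq
          have hs0 : s ≠ 0 := by
            rintro rfl
            rw [mul_zero] at hs
            exact hr hs
          have h5 := isConj_zu_sq ε 1 s hε hs0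
          rw [mul_one, ← hs] at h5
          refine ⟨Sum.inr (Sum.inr (⟨ε, hε⟩, true)), ?_⟩
          exact ConjClasses.mk_eq_mk_iff_isConj.mpr (h5.trans hc.symm)
        · obtain ⟨s, hs0, hs⟩ := exists_sq_mul hodd ν r hν hsq
          have h5 := isConj_zu_sq ε ν s hε hs0
          rw [← hs] at h5
          refine ⟨Sum.inr (Sum.inr (⟨ε, hε⟩, false)), ?_⟩
          exact ConjClasses.mk_eq_mk_iff_isConj.mpr (h5.trans hc.symm)
      · refine ⟨Sum.inr (Sum.inl ⟨g.1 0 0 + g.1 1 1, ht⟩), ?_⟩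
        exact ConjClasses.mk_eq_mk_iff_isConj.mpr (isConj_cp hodd g ht).symm

/-- `SL₂(F)` has `q + 4` conjugacy classes when `q` is odd. -/
theorem card_conjClasses [Fintype F] (hodd : Fintype.card F % 2 = 1) :
    Nat.card (ConjClasses (Matrix.SpecialLinearGroup (Fin 2) F)) = Fintype.card F + 4 := by
  classical
  have h2 := two_ne_zero_of_odd hodd
  have hF : ringChar F ≠ 2 := by
    intro h
    have := FiniteField.even_card_iff_char_two.mp h
    omega
  obtain ⟨ν, hν⟩ := FiniteField.exists_nonsquare hF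
  rw [← Nat.card_eq_of_bijective _ (rep_bijective hodd ν hν), Nat.card_eq_fintype_card,
    Fintype.card_sum, Fintype.card_sum, Fintype.card_prod, Fintype.card_subtype_compl,
    card_sq_eq h2 1 1 one_ne_zero (by ring), card_sq_eq h2 2 4 h2 (by norm_num), Fintype.card_bool]
  have hq : 2 ≤ Fintype.card F := Fintype.one_lt_card
  omega

end Cfsg.Agent.Lib.Helper38.SL2Classes
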