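import Cfsg.Agent.Lib.Helper38.GL2Irr2
import Cfsg.Agent.Lib.Helper38.SL2Classes
import Cfsg.Agent.Lib.Helper38.SLCard

/-!
Restriction of the irreducible characters of `GL₂(F)` to `SN F = ker det` (a copy of `SL₂(F)`),
for a finite field `F` of odd order `q`: the irreducible characters of `SN F` have degrees
`1, q, q + 1, (q + 1)/2, q - 1, (q - 1)/2`, with `1, 1, (q - 3)/2, 2, (q - 1)/2, 2` of each.
-/

set_option autoImplicit false

namespace Cfsg.Agent.Lib.Helper38.GL2Res

open Cfsg Cfsg.Agent.S2304 Cfsg.Agent.Lib.CT Cfsg.Agent.Lib.Helper38.GL2Borel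
  Cfsg.Agent.Lib.Helper38.GL2Irr
open scoped ComplexConjugate

universe u

section General

variable {G : Type u} [Group G]

/-- Irreducible characters correspond along a group isomorphism. -/
noncomputable def irrCongr {H : Type u} [Group H] (e : H ≃* G) :
    IrrCharacter G ≃ IrrCharacter H where
  toFun χ := ⟨fun x => χ.1 (e x), Ops.isIrrCharacter_comp_mulEquiv e χ.2⟩
  invFun ψ := ⟨fun g => ψ.1 (e.symm g), Ops.isIrrCharacter_comp_mulEquiv e.symm ψ.2⟩
  left_inv χ := by
    apply Subtype.ext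
    funext g
    simp
  right_inv ψ := by
    apply Subtype.ext
    funext g
    simp

theorem irrCongr_apply_one {H : Type u} [Group H] (e : H ≃* G) (χ : IrrCharacter G) :
    (irrCongr e χ : H → ℂ) 1 = (χ : G → ℂ) 1 := by
  show χ.1 (e 1) = χ.1 1
  rw [map_one]

/-- Every irreducible character of a subgroup lies under an irreducible character of the
group. -/
theorem exists_irr_over [Fintype G] (H : Subgroup G) [Fintype H] (ψ : IrrCharacter H) :
    ∃ Χ : IrrCharacter G, classInner (fun h : H => (Χ : G → ℂ) h) (ψ : H → ℂ) ≠ 0 := by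
  classical
  have := Wedderburn.finite_irrCharacter G
  let _ : Fintype (IrrCharacter G) := Fintype.ofFinite _
  have hchar : IsCharacter G (indFun H (ψ : H → ℂ)) :=
    IndChar.isCharacter_indFun H _ (Wedderburn.isCharacter_of_irr ψ.2)
  obtain ⟨m, hm, hexp⟩ := NormOne.exists_mult_sum hchar
  have h1 : indFun H (ψ : H → ℂ) 1 ≠ 0 := by
    rw [FrobRec.indFun_one]
    apply mul_ne_zero
    · have : H.index ≠ 0 := Subgroup.index_ne_zero_of_finite
      exact_mod_cast this
    · exact Wedderburn.irr_apply_one_ne_zero ψ.2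
  obtain ⟨Χ, hΧ⟩ : ∃ Χ : IrrCharacter G, m Χ ≠ 0 := by
    by_contra hcon
    push Not at hcon
    apply h1
    rw [hexp]
    simp [hcon]
  refine ⟨Χ, ?_⟩
  have h2 : classInner (indFun H (ψ : H → ℂ)) (Χ : G → ℂ) ≠ 0 := by
    rw [hm Χ]
    exact_mod_cast hΧ
  rw [FrobRec.frobenius_reciprocity H _ _
    (Wedderburn.char_isClassFunction (Wedderburn.isCharacter_of_irr Χ.2))] at h2
  rw [Clifford.classInner_conj_symm]
  intro h3
  apply h2
  exact (map_eq_zero (starRingEnd ℂ)).mp h3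

/-- Clifford: the degree of an irreducible constituent of the restriction of an irreducible
character to a normal subgroup divides its degree. -/
theorem deg_dvd_of_constituent [Fintype G] (N : Subgroup G) [Fintype N] (hN : N.Normal)
    (Χ : IrrCharacter G) (ψ : IrrCharacter N)
    (h : classInner (fun n : N => (Χ : G → ℂ) n) (ψ : N → ℂ) ≠ 0) :
    charDegree (ψ : N → ℂ) ∣ charDegree (Χ : G → ℂ) := by
  classical
  have hcl := Clifford.clifford N hN Χ.1 Χ.2 ψ.1 ψ.2 h
  have hfin : {φ : N → ℂ | ∃ g : G, φ = fun n : N =>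
      ψ.1 ⟨g * n * g⁻¹, hN.conj_mem n n.2 g⟩}.Finite := by
    apply (Set.finite_range (fun g : G => (fun n : N =>
      ψ.1 ⟨g * n * g⁻¹, hN.conj_mem n n.2 g⟩))).subset
    rintro φ ⟨g, rfl⟩
    exact ⟨g, rfl⟩
  have h1 := congrFun hcl 1
  rw [Pi.smul_apply, smul_eq_mul] at h1
  have h2 := (Pi.evalAddMonoidHom (fun _ : N => ℂ) 1).map_finsum_mem
    (fun φ : N → ℂ => φ) hfin
  simp only [Pi.evalAddMonoidHom_apply] at h2
  rw [h2] at h1
  have h3 : ∑ᶠ (φ : N → ℂ) (_ : φ ∈ {φ : N → ℂ | ∃ g : G, φ = fun n : N =>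
      ψ.1 ⟨g * n * g⁻¹, hN.conj_mem n n.2 g⟩}), φ 1 =
      ∑ᶠ (φ : N → ℂ) (_ : φ ∈ {φ : N → ℂ | ∃ g : G, φ = fun n : N =>
      ψ.1 ⟨g * n * g⁻¹, hN.conj_mem n n.2 g⟩}), ψ.1 1 := by
    apply finsum_mem_congr rfl
    rintro φ ⟨g, rfl⟩
    show ψ.1 ⟨g * ((1 : N) : G) * g⁻¹, hN.conj_mem _ (1 : N).2 g⟩ = ψ.1 1
    have h0 : (⟨g * ((1 : N) : G) * g⁻¹, hN.conj_mem _ (1 : N).2 g⟩ : N) = 1 :=
      Subtype.ext (by simp)
    rw [h0]
  rw [h3, finsum_mem_eq_finite_toFinset_sum _ hfin, Finset.sum_const, nsmul_eq_mul] at h1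
  obtain ⟨e, he⟩ := Clifford.classInner_char_nat
    (Ops.isCharacter_restrict N (Wedderburn.isCharacter_of_irr Χ.2))
    (Wedderburn.isCharacter_of_irr ψ.2)
  rw [he, ← Wedderburn.char_natCast_charDegree (Wedderburn.isCharacter_of_irr ψ.2)] at h1
  have h4 : ((1 : N) : G) = 1 := rfl
  rw [h4, ← Wedderburn.char_natCast_charDegree (Wedderburn.isCharacter_of_irr Χ.2)] at h1
  have h5 : charDegree (Χ : G → ℂ) = e * (hfin.toFinset.card * charDegree (ψ : N → ℂ)) := by
    exact_mod_cast h1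
  rw [h5, ← mul_assoc]
  exact dvd_mul_left _ _

/-- A character of norm two is the sum of two distinct irreducible characters. -/
theorem exists_two_irr_of_norm_two [Fintype G] {χ : G → ℂ} (h : IsCharacter G χ)
    (h2 : classInner χ χ = 2) :
    ∃ ψ₁ ψ₂ : IrrCharacter G, ψ₂ ≠ ψ₁ ∧ χ = (ψ₁ : G → ℂ) + (ψ₂ : G → ℂ) := by
  classical
  have := Wedderburn.finite_irrCharacter G
  let _ : Fintype (IrrCharacter G) := Fintype.ofFinite (IrrCharacter G)
  obtain ⟨m, hm, hexp⟩ := NormOne.exists_mult_sum h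
  have hsq := NormOne.classInner_self_eq_sum m hm hexp
  rw [h2] at hsq
  have hsq' : ∑ ψ : IrrCharacter G, m ψ * m ψ = 2 := by exact_mod_cast hsq.symm
  obtain ⟨ψ₁, hψ₁⟩ : ∃ ψ₁ : IrrCharacter G, m ψ₁ ≠ 0 := by
    by_contra hcon
    push Not at hcon
    rw [Finset.sum_eq_zero (fun ψ _ => by simp [hcon ψ])] at hsq'
    omega
  have hle : m ψ₁ * m ψ₁ ≤ 2 := by
    rw [← hsq']
    exact Finset.single_le_sum (f := fun ψ => m ψ * m ψ) (fun _ _ => Nat.zero_le _)
      (Finset.mem_univ ψ₁)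
  have hm1 : m ψ₁ = 1 := by
    have h5 : 1 ≤ m ψ₁ := Nat.one_le_iff_ne_zero.mpr hψ₁
    nlinarith
  have h1 : classInner χ (ψ₁ : G → ℂ) = 1 := by
    rw [hm ψ₁, hm1]
    simp
  obtain ⟨ψ₂, hne, heq⟩ := exists_irr_add_of_norm_two h h2 ψ₁ h1
  exact ⟨ψ₁, ψ₂, hne, heq⟩

end General

variable {F : Type*} [Field F]

/-- The kernel of the determinant on `GL₂(F)`. -/
abbrev SN (F : Type*) [Field F] : Subgroup (Matrix.GeneralLinearGroup (Fin 2) F) :=
  MonoidHom.ker (Matrix.GeneralLinearGroup.det (n := Fin 2) (R := F))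

theorem mem_SN_iff (g : Matrix.GeneralLinearGroup (Fin 2) F) : g ∈ SN F ↔ g.1.det = 1 := by
  rw [MonoidHom.mem_ker]
  constructor
  · intro h
    have := congrArg Units.val h
    simpa using this
  · intro h
    apply Units.ext
    simpa using h

/-- `SL₂(F)` is isomorphic to the kernel of the determinant. -/
noncomputable def slEquiv : Matrix.SpecialLinearGroup (Fin 2) F ≃* SN F :=
  MulEquiv.ofBijective
    (Matrix.SpecialLinearGroup.toGL.codRestrict (SN F)
      (fun s => (mem_SN_iff _).mpr s.2))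
    (by
      constructor
      · intro s t h
        apply Matrix.SpecialLinearGroup.toGL_injective
        exact congrArg Subtype.val h
      · intro g
        refine ⟨⟨g.1.1, (mem_SN_iff g.1).mp g.2⟩, ?_⟩
        apply Subtype.ext
        apply Units.ext
        rfl)

theorem card_SN [Fintype F] : Nat.card (SN F) * (Fintype.card F - 1) =
    Nat.card (Matrix.GeneralLinearGroup (Fin 2) F) := by
  rw [← Nat.card_congr (slEquiv (F := F)).toEquiv]
  exact Cfsg.Agent.Lib.Helper38.SLCard.card_SL_mul 2 (by norm_num)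

/-- The restriction pairing: inner products of restrictions to `ker det` are sums of inner
products of twists. -/
theorem classInner_res [Fintype F] [DecidableEq F] [Fintype (MulChar F ℂ)] [Fintype (SN F)]
    (Φ Ψ : Matrix.GeneralLinearGroup (Fin 2) F → ℂ) :
    classInner (fun n : SN F => Φ n) (fun n : SN F => Ψ n) =
      ∑ γ : MulChar F ℂ, classInner (Φ * lin γ) Ψ := by
  unfold classInner
  have hq : 2 ≤ Fintype.card F := Fintype.one_lt_card
  have hcard : (Nat.card (Matrix.GeneralLinearGroup (Fin 2) F) : ℂ) =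
      (Nat.card (SN F) : ℂ) * ((Fintype.card F : ℂ) - 1) := by
    rw [← card_SN, Nat.cast_mul, Nat.cast_sub (by omega)]
    simp
  have hq1 : (Fintype.card F : ℂ) - 1 ≠ 0 := by
    intro h0
    have h2 : ((Fintype.card F : ℕ) : ℂ) = ((1 : ℕ) : ℂ) := by
      push_cast
      linear_combination h0
    have h3 := Nat.cast_injective h2
    omega
  have hN : (Nat.card (SN F) : ℂ) ≠ 0 := by
    exact_mod_cast (Nat.card_pos (α := SN F)).ne'
  rw [← Finset.mul_sum, Finset.sum_comm]
  have h1 : ∀ g : Matrix.GeneralLinearGroup (Fin 2) F,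
      ∑ γ : MulChar F ℂ, (Φ * lin γ) g * conj (Ψ g) =
        extendByZero (SN F) (fun _ => (Fintype.card F : ℂ) - 1) g * (Φ g * conj (Ψ g)) := by
    intro g
    have h2 : ∀ γ : MulChar F ℂ, (Φ * lin γ) g * conj (Ψ g) =
        γ ((Matrix.GeneralLinearGroup.det g : Fˣ) : F) * (Φ g * conj (Ψ g)) := by
      intro γ
      rw [Pi.mul_apply, lin_apply, Matrix.GeneralLinearGroup.val_det_apply]
      ring
    rw [Finset.sum_congr rfl (fun γ _ => h2 γ), ← Finset.sum_mul, sum_char]
    by_cases hg : g ∈ SN F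
    · rw [FrobRec.extendByZero_apply_of_mem _ _ hg, if_pos (MonoidHom.mem_ker.mp hg)]
    · rw [FrobRec.extendByZero_apply_of_not_mem _ _ hg,
        if_neg (fun h => hg (MonoidHom.mem_ker.mpr h))]
  rw [Finset.sum_congr rfl (fun g _ => h1 g), FrobRec.sum_extendByZero_mul, ← Finset.mul_sum,
    hcard]
  field_simp

theorem ind_mul_lin [Fintype F] [DecidableEq F] (α β γ : MulChar F ℂ) :
    indFun (upperTriangularGL 2 F) (th α β) * lin γ =
      indFun (upperTriangularGL 2 F) (th (α * γ) (β * γ)) := by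
  rw [← FrobRec.indFun_mul_classFunction _ _ _
    (Wedderburn.char_isClassFunction (Wedderburn.isCharacter_of_irr (lin_irr γ)))]
  congr 1
  funext b
  rw [lin_restrict, th_apply, th_apply, th_apply, MulChar.mul_apply, MulChar.mul_apply]
  ring

theorem lin_mul_lin (α γ : MulChar F ℂ) : lin α * lin γ = lin (α * γ) := by
  funext g
  rw [Pi.mul_apply, lin_apply, lin_apply, lin_apply, MulChar.mul_apply]

theorem lin_SN (γ : MulChar F ℂ) (n : SN F) :
    lin γ (n : Matrix.GeneralLinearGroup (Fin 2) F) = 1 := by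
  rw [lin_apply, (mem_SN_iff n.1).mp n.2, map_one]

variable [Fintype F] [DecidableEq F]

/-- The restriction of the principal series character `indFun B (th ω 1)` to `ker det`. -/
noncomputable def P (ω : MulChar F ℂ) : SN F → ℂ :=
  fun n => indFun (upperTriangularGL 2 F) (th ω 1) n

theorem P_apply (ω : MulChar F ℂ) (n : SN F) :
    P ω n = indFun (upperTriangularGL 2 F) (th ω 1) n := rfl

theorem P_isCharacter (ω : MulChar F ℂ) : IsCharacter (SN F) (P ω) :=
  Ops.isCharacter_restrict (SN F) (ind_isCharacter ω 1)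

theorem P_one_apply (ω : MulChar F ℂ) : P ω 1 = (Fintype.card F : ℂ) + 1 :=
  ind_one ω 1

theorem res_ind (α β : MulChar F ℂ) :
    (fun n : SN F => indFun (upperTriangularGL 2 F) (th α β) n) = P (α * β⁻¹) := by
  funext n
  have h := congrFun (ind_mul_lin (α * β⁻¹) 1 β) n
  rw [Pi.mul_apply, lin_SN, mul_one, inv_mul_cancel_right, one_mul] at h
  exact h.symm

theorem classInner_P [Fintype (SN F)] (ω ω' : MulChar F ℂ) :
    classInner (P ω) (P ω') = (if ω = ω' then 1 else 0) + (if ω * ω' = 1 then 1 else 0) := by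
  classical
  let _ : Fintype (MulChar F ℂ) := Fintype.ofFinite _
  have h := classInner_res (F := F) (indFun (upperTriangularGL 2 F) (th ω 1))
    (indFun (upperTriangularGL 2 F) (th ω' 1))
  have h0 : classInner (P ω) (P ω') = classInner
      (fun n : SN F => indFun (upperTriangularGL 2 F) (th ω 1) n)
      (fun n : SN F => indFun (upperTriangularGL 2 F) (th ω' 1) n) := rfl
  rw [h0, h]
  simp only [ind_mul_lin, classInner_ind, one_mul]
  rw [Finset.sum_add_distrib]
  congr 1
  · rw [Finset.sum_eq_single 1]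
    · simp
    · intro γ _ hγ
      rw [if_neg]
      exact fun h => hγ h.2
    · intro h
      exact absurd (Finset.mem_univ _) h
  · rw [Finset.sum_eq_single ω']
    · simp
    · intro γ _ hγ
      rw [if_neg]
      exact fun h => hγ h.2
    · intro h
      exact absurd (Finset.mem_univ _) h

/-- The trivial character of `ker det`. -/
noncomputable def oneN : IrrCharacter (SN F) := ⟨fun _ => 1, Ops.isIrrCharacter_one⟩

omit [Fintype F] [DecidableEq F] in
theorem oneN_val : ((oneN : IrrCharacter (SN F)) : SN F → ℂ) = fun _ => 1 := rfl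

omit [Fintype F] [DecidableEq F] in
theorem res_lin (γ : MulChar F ℂ) :
    (fun n : SN F => lin γ n) = ((oneN : IrrCharacter (SN F)) : SN F → ℂ) :=
  funext (lin_SN γ)

theorem st_ne_lin (α β : MulChar F ℂ) : st α ≠ linIrr β := by
  intro h
  have h1 := deg_st α
  rw [h, linIrr_val, deg_lin] at h1
  have hq : 2 ≤ Fintype.card F := Fintype.one_lt_card
  omega

theorem classInner_P_one_oneN [Fintype (SN F)] :
    classInner (P (1 : MulChar F ℂ)) ((oneN : IrrCharacter (SN F)) : SN F → ℂ) = 1 := by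
  classical
  let _ : Fintype (MulChar F ℂ) := Fintype.ofFinite _
  have h0 : classInner (P (1 : MulChar F ℂ)) ((oneN : IrrCharacter (SN F)) : SN F → ℂ) =
      classInner (fun n : SN F => indFun (upperTriangularGL 2 F) (th (1 : MulChar F ℂ) 1) n)
      (fun n : SN F => lin (1 : MulChar F ℂ) n) := by
    rw [res_lin]
    rfl
  rw [h0, classInner_res]
  simp only [ind_mul_lin, one_mul]
  have h1 : ∀ γ : MulChar F ℂ, classInner (indFun (upperTriangularGL 2 F) (th γ γ))
      (lin (1 : MulChar F ℂ)) = if γ = 1 then 1 else 0 := by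
    intro γ
    rw [ind_diag, Orth.classInner_add_left, ← linIrr_val γ, ← linIrr_val 1,
      Wedderburn.irr_orthonormal, Wedderburn.irr_orthonormal, if_neg (st_ne_lin γ 1), add_zero]
    by_cases h : γ = 1
    · rw [if_pos h, if_pos (by rw [h])]
    · rw [if_neg h, if_neg (fun h' => h (linIrr_injective h'))]
  rw [Finset.sum_congr rfl (fun γ _ => h1 γ)]
  simp

theorem exists_StN : ∃ ψ : IrrCharacter (SN F), ψ ≠ oneN ∧
    P (1 : MulChar F ℂ) = ((oneN : IrrCharacter (SN F)) : SN F → ℂ) + (ψ : SN F → ℂ) := by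
  classical
  let _ : Fintype (SN F) := Fintype.ofFinite _
  refine exists_irr_add_of_norm_two (P_isCharacter 1) ?_ oneN classInner_P_one_oneN
  rw [classInner_P]
  simp
  norm_num

theorem P_irr (ω : MulChar F ℂ) (h : ω * ω ≠ 1) : IsIrrCharacter (SN F) (P ω) := by
  classical
  let _ : Fintype (SN F) := Fintype.ofFinite _
  apply NormOne.irr_of_inner_self_eq_one (P_isCharacter ω)
  rw [classInner_P, if_pos rfl, if_neg h, add_zero]

/-- `P ω` as an irreducible character (junk when `ω * ω = 1`). -/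
noncomputable def PI (ω : MulChar F ℂ) : IrrCharacter (SN F) :=
  if h : ω * ω = 1 then oneN else ⟨P ω, P_irr ω h⟩

theorem PI_val (ω : MulChar F ℂ) (h : ω * ω ≠ 1) :
    ((PI ω : IrrCharacter (SN F)) : SN F → ℂ) = P ω := by
  unfold PI
  rw [dif_neg h]

theorem PI_eq_iff (ω ω' : MulChar F ℂ) (h : ω * ω ≠ 1) (h' : ω' * ω' ≠ 1) :
    PI ω = PI ω' ↔ ω' = ω ∨ ω' = ω⁻¹ := by
  classical
  let _ : Fintype (SN F) := Fintype.ofFinite _
  have h1 := Wedderburn.irr_orthonormal (PI ω) (PI ω')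
  rw [PI_val ω h, PI_val ω' h', classInner_P] at h1
  constructor
  · intro he
    rw [if_pos he] at h1
    by_cases ha : ω = ω'
    · exact Or.inl ha.symm
    · by_cases hb : ω * ω' = 1
      · exact Or.inr (eq_inv_of_mul_eq_one_right hb)
      · rw [if_neg ha, if_neg hb] at h1
        norm_num at h1
  · rintro (rfl | rfl)
    · rfl
    · by_contra hne
      rw [if_neg hne, if_pos (mul_inv_cancel ω)] at h1
      have ha : ¬ ω = ω⁻¹ := by
        intro h2
        apply h
        nth_rewrite 2 [h2]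
        exact mul_inv_cancel ω
      rw [if_neg ha] at h1
      norm_num at h1

omit [DecidableEq F] in
theorem exists_eta (hodd : Fintype.card F % 2 = 1) :
    ∃ η : MulChar F ℂ, η ≠ 1 ∧ η * η = 1 ∧ ∀ ω : MulChar F ℂ, ω * ω = 1 → ω = 1 ∨ ω = η := by
  have h2 : (2 : F) ≠ 0 := SL2Classes.two_ne_zero_of_odd hodd
  obtain ⟨e⟩ := MulChar.mulEquiv_units F ℂ
  have hm1 : (-1 : Fˣ) ≠ 1 := by
    intro h
    have h3 := congrArg Units.val h
    simp only [Units.val_neg, Units.val_one] at h3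
    apply h2
    linear_combination -h3
  refine ⟨e.symm (-1), ?_, ?_, ?_⟩
  · intro h
    apply hm1
    have := congrArg e h
    rwa [MulEquiv.apply_symm_apply, map_one] at this
  · apply e.injective
    rw [map_mul, MulEquiv.apply_symm_apply, map_one]
    simp
  · intro ω hω
    have h3 : e ω * e ω = 1 := by rw [← map_mul, hω, map_one]
    have h4 : ((e ω : Fˣ) : F) * ((e ω : Fˣ) : F) = 1 := by
      rw [← Units.val_mul, h3, Units.val_one]
    have h5 : (((e ω : Fˣ) : F) - 1) * (((e ω : Fˣ) : F) + 1) = 0 := by linear_combination h4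
    rcases mul_eq_zero.mp h5 with h6 | h6
    · left
      apply e.injective
      rw [map_one]
      apply Units.ext
      rw [Units.val_one]
      linear_combination h6
    · right
      apply e.injective
      rw [MulEquiv.apply_symm_apply]
      apply Units.ext
      rw [Units.val_neg, Units.val_one]
      linear_combination h6

theorem exists_xi (η : MulChar F ℂ) (hη2 : η * η = 1) :
    ∃ ξ₁ ξ₂ : IrrCharacter (SN F), ξ₂ ≠ ξ₁ ∧ P η = (ξ₁ : SN F → ℂ) + (ξ₂ : SN F → ℂ) := by
  classical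
  let _ : Fintype (SN F) := Fintype.ofFinite _
  apply exists_two_irr_of_norm_two (P_isCharacter η)
  rw [classInner_P, if_pos rfl, if_pos hη2]
  norm_num

/-- The possible shapes of an irreducible character of `ker det`. -/
theorem irr_SN_cases (η : MulChar F ℂ) (hη : ∀ ω : MulChar F ℂ, ω * ω = 1 → ω = 1 ∨ ω = η)
    (ξ₁ ξ₂ : IrrCharacter (SN F)) (hξ : P η = (ξ₁ : SN F → ℂ) + (ξ₂ : SN F → ℂ))
    (St : IrrCharacter (SN F))
    (hSt : P (1 : MulChar F ℂ) = ((oneN : IrrCharacter (SN F)) : SN F → ℂ) + (St : SN F → ℂ))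
    (ψ : IrrCharacter (SN F)) :
    ψ = oneN ∨ ψ = St ∨ (∃ ω : MulChar F ℂ, ω * ω ≠ 1 ∧ ψ = PI ω) ∨ ψ = ξ₁ ∨ ψ = ξ₂ ∨
      charDegree (ψ : SN F → ℂ) ∣ (Fintype.card F - 1) := by
  classical
  let _ : Fintype (SN F) := Fintype.ofFinite _
  obtain ⟨Χ, hΧ⟩ := exists_irr_over (SN F) ψ
  rcases GL2Irr2.irr_cases Χ with ⟨α, rfl⟩ | ⟨α, rfl⟩ | ⟨p, hp, rfl⟩ | hdeg
  · left
    rw [linIrr_val, res_lin, Wedderburn.irr_orthonormal] at hΧ
    by_contra hne
    rw [if_neg (Ne.symm hne)] at hΧ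
    exact hΧ rfl
  · right; left
    have h1 : (fun n : SN F => ((st α : IrrCharacter (Matrix.GeneralLinearGroup (Fin 2) F)) :
        Matrix.GeneralLinearGroup (Fin 2) F → ℂ) n) = (St : SN F → ℂ) := by
      funext n
      have e1 := congrFun (ind_diag α) n
      have e2 := congrFun (res_ind α α) n
      have e3 := congrFun hSt n
      rw [mul_inv_cancel] at e2
      simp only [Pi.add_apply] at e1 e3
      rw [lin_SN] at e1
      rw [oneN_val] at e3
      linear_combination e2 - e1 + e3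
    rw [h1, Wedderburn.irr_orthonormal] at hΧ
    by_contra hne
    rw [if_neg (Ne.symm hne)] at hΧ
    exact hΧ rfl
  · right; right
    have hres : (fun n : SN F => ((psIrr p : IrrCharacter (Matrix.GeneralLinearGroup (Fin 2) F)) :
        Matrix.GeneralLinearGroup (Fin 2) F → ℂ) n) = P (p.1 * p.2⁻¹) := by
      rw [psIrr_val p hp]
      exact res_ind p.1 p.2
    rw [hres] at hΧ
    by_cases hω : (p.1 * p.2⁻¹) * (p.1 * p.2⁻¹) = 1
    · rcases hη _ hω with h1 | h1
      · exfalso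
        apply hp
        exact mul_inv_eq_one.mp h1
      · right
        rw [h1, hξ, Orth.classInner_add_left, Wedderburn.irr_orthonormal,
          Wedderburn.irr_orthonormal] at hΧ
        by_cases h2 : ξ₁ = ψ
        · exact Or.inl h2.symm
        · by_cases h3 : ξ₂ = ψ
          · exact Or.inr (Or.inl h3.symm)
          · rw [if_neg h2, if_neg h3, add_zero] at hΧ
            exact absurd rfl hΧ
    · left
      refine ⟨_, hω, ?_⟩
      rw [← PI_val _ hω, Wedderburn.irr_orthonormal] at hΧ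
      by_contra hne
      rw [if_neg (Ne.symm hne)] at hΧ
      exact hΧ rfl
  · right; right; right; right; right
    rw [← hdeg]
    exact deg_dvd_of_constituent (SN F) inferInstance Χ ψ hΧ

omit [Fintype F] [DecidableEq F] in
theorem numerics_aux (m a b c Sc : ℕ) (hm1 : 1 ≤ m) (h1 : a + b + c = m + 2)
    (h2 : a * (2 * m) ^ 2 + b * m ^ 2 + Sc = 2 * m ^ 2 * (2 * m + 1))
    (h3 : 9 * Sc ≤ c * (4 * m ^ 2)) : b = 2 ∧ c = 0 := by
  have hm2 : (0 : ℤ) < (m : ℤ) ^ 2 := by positivity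
  have key : (m : ℤ) ^ 2 * (3 * (b : ℤ) + 4 * (c : ℤ) - 6) = (Sc : ℤ) := by
    zify at h1 h2
    linear_combination -h2 + 4 * (m : ℤ) ^ 2 * h1
  have e1 : (0 : ℤ) ≤ 3 * (b : ℤ) + 4 * (c : ℤ) - 6 := by
    by_contra hneg
    push Not at hneg
    have h5 : (0 : ℤ) ≤ (Sc : ℤ) := by positivity
    have h6 := mul_neg_of_pos_of_neg hm2 hneg
    linarith
  have e2 : 27 * (b : ℤ) + 32 * (c : ℤ) - 54 ≤ 0 := by
    by_contra hpos
    push Not at hpos
    have h4 : 9 * (Sc : ℤ) ≤ (c : ℤ) * (4 * (m : ℤ) ^ 2) := by exact_mod_cast h3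
    have h6 := mul_pos hm2 hpos
    nlinarith [h6, key, h4]
  have e1' : 6 ≤ 3 * b + 4 * c := by zify; linarith
  have e2' : 27 * b + 32 * c ≤ 54 := by zify; linarith
  clear key h1 h2 h3 hm2 hm1 e1 e2
  have hb2 : b ≤ 2 := by omega
  have hc1 : c ≤ 1 := by omega
  interval_cases b <;> interval_cases c <;> omega

omit [Fintype F] [DecidableEq F] in
theorem sq_le_aux (d m k : ℕ) (hk : 2 * m = d * k) (hk3 : 3 ≤ k) : 9 * d ^ 2 ≤ 4 * m ^ 2 := by
  have h3 : 3 * d ≤ 2 * m := by
    rw [hk, mul_comm]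
    exact Nat.mul_le_mul_left d hk3
  calc 9 * d ^ 2 = (3 * d) ^ 2 := by ring
    _ ≤ (2 * m) ^ 2 := Nat.pow_le_pow_left h3 2
    _ = 4 * m ^ 2 := by ring

omit [Fintype F] [DecidableEq F] in
/-- Numerics for the cuspidal characters: `m + 2` numbers dividing `2m` whose squares sum to
`2m²(2m+1)` are `m` copies of `2m` and two copies of `m`. -/
theorem cusp_numerics {ι : Type*} [DecidableEq ι] (V : Finset ι) (d : ι → ℕ) (m : ℕ)
    (hm1 : 1 ≤ m) (hdvd : ∀ x ∈ V, d x ∣ 2 * m) (hcard : V.card = m + 2)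
    (hsum : ∑ x ∈ V, d x ^ 2 = 2 * m ^ 2 * (2 * m + 1)) :
    (∀ x ∈ V, d x = 2 * m ∨ d x = m) ∧ (V.filter (fun x => d x = 2 * m)).card = m ∧
      (V.filter (fun x => d x = m)).card = 2 := by
  have hcardV : (V.filter (fun x => d x = 2 * m)).card + (V.filter (fun x => d x = m)).card +
      (V.filter (fun x => d x ≠ 2 * m ∧ d x ≠ m)).card = V.card := by
    rw [Finset.card_filter, Finset.card_filter, Finset.card_filter,
      ← Finset.sum_add_distrib, ← Finset.sum_add_distrib, Finset.card_eq_sum_ones]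
    apply Finset.sum_congr rfl
    intro x _
    by_cases h1 : d x = 2 * m
    · have h2 : d x ≠ m := by omega
      simp [h1]
      omega
    · by_cases h2 : d x = m
      · simp [h2]
        omega
      · simp [h1, h2]
  have hsumV' : (V.filter (fun x => d x = 2 * m)).card * (2 * m) ^ 2 +
      (V.filter (fun x => d x = m)).card * m ^ 2 +
      ∑ x ∈ V.filter (fun x => d x ≠ 2 * m ∧ d x ≠ m), d x ^ 2 = ∑ x ∈ V, d x ^ 2 := by
    have e1 : (V.filter (fun x => d x = 2 * m)).card * (2 * m) ^ 2 =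
        ∑ x ∈ V.filter (fun x => d x = 2 * m), d x ^ 2 := by
      rw [Finset.sum_const_nat (m := (2 * m) ^ 2)]
      intro x hx
      rw [(Finset.mem_filter.mp hx).2]
    have e2 : (V.filter (fun x => d x = m)).card * m ^ 2 =
        ∑ x ∈ V.filter (fun x => d x = m), d x ^ 2 := by
      rw [Finset.sum_const_nat (m := m ^ 2)]
      intro x hx
      rw [(Finset.mem_filter.mp hx).2]
    rw [e1, e2, Finset.sum_filter, Finset.sum_filter, Finset.sum_filter,
      ← Finset.sum_add_distrib, ← Finset.sum_add_distrib]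
    apply Finset.sum_congr rfl
    intro x _
    by_cases h1 : d x = 2 * m
    · have h2 : d x ≠ m := by omega
      simp [h1]
      omega
    · by_cases h2 : d x = m
      · simp [h2]
        omega
      · simp [h1, h2]
  have hAc : ∀ x ∈ V.filter (fun x => d x ≠ 2 * m ∧ d x ≠ m), 9 * d x ^ 2 ≤ 4 * m ^ 2 := by
    intro x hx
    obtain ⟨hxV, hne1, hne2⟩ := Finset.mem_filter.mp hx
    obtain ⟨k, hk⟩ := hdvd x hxV
    have hk3 : 3 ≤ k := by
      by_contra hlt
      have : k = 0 ∨ k = 1 ∨ k = 2 := by omega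
      rcases this with h | h | h
      · rw [h] at hk
        omega
      · rw [h] at hk
        omega
      · rw [h] at hk
        omega
    exact sq_le_aux (d x) m k hk hk3
  have hAcsum : 9 * ∑ x ∈ V.filter (fun x => d x ≠ 2 * m ∧ d x ≠ m), d x ^ 2 ≤
      (V.filter (fun x => d x ≠ 2 * m ∧ d x ≠ m)).card * (4 * m ^ 2) := by
    rw [Finset.mul_sum]
    have := Finset.sum_le_card_nsmul (V.filter (fun x => d x ≠ 2 * m ∧ d x ≠ m))
      (fun x => 9 * d x ^ 2) (4 * m ^ 2) hAc
    simpa using this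
  rw [hsum] at hsumV'
  rw [hcard] at hcardV
  obtain ⟨hb, hc⟩ := numerics_aux m _ _ _ _ hm1 hcardV hsumV' hAcsum
  have hAcempty : V.filter (fun x => d x ≠ 2 * m ∧ d x ≠ m) = ∅ := Finset.card_eq_zero.mp hc
  refine ⟨?_, by omega, hb⟩
  intro x hx
  by_contra hcon
  push Not at hcon
  have : x ∈ V.filter (fun x => d x ≠ 2 * m ∧ d x ≠ m) := Finset.mem_filter.mpr ⟨hx, hcon⟩
  rw [hAcempty] at this
  exact absurd this (Finset.notMem_empty _)

set_option maxHeartbeats 1600000 in
/-- The irreducible characters of `ker det ≅ SL₂(F)`, `q` odd, by degree. -/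
theorem deg_classification (hodd : Fintype.card F % 2 = 1) :
    ∃ (A₁ A₂ A₃ A₄ A₅ A₆ : Finset (IrrCharacter (SN F))),
      (∀ ψ, ψ ∈ A₁ ∨ ψ ∈ A₂ ∨ ψ ∈ A₃ ∨ ψ ∈ A₄ ∨ ψ ∈ A₅ ∨ ψ ∈ A₆) ∧
      (∀ ψ ∈ A₁, charDegree (ψ : SN F → ℂ) = 1) ∧
      (∀ ψ ∈ A₂, charDegree (ψ : SN F → ℂ) = Fintype.card F) ∧
      (∀ ψ ∈ A₃, charDegree (ψ : SN F → ℂ) = Fintype.card F + 1) ∧
      (∀ ψ ∈ A₄, 2 * charDegree (ψ : SN F → ℂ) = Fintype.card F + 1) ∧
      (∀ ψ ∈ A₅, charDegree (ψ : SN F → ℂ) = Fintype.card F - 1) ∧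
      (∀ ψ ∈ A₆, 2 * charDegree (ψ : SN F → ℂ) = Fintype.card F - 1) ∧
      A₁.card = 1 ∧ A₂.card = 1 ∧ 2 * A₃.card = Fintype.card F - 3 ∧ A₄.card = 2 ∧
      2 * A₅.card = Fintype.card F - 1 ∧ A₆.card = 2 := by
  classical
  let _ : Fintype (SN F) := Fintype.ofFinite _
  have := Wedderburn.finite_irrCharacter (SN F)
  let _ : Fintype (IrrCharacter (SN F)) := Fintype.ofFinite _
  let _ : Fintype (MulChar F ℂ) := Fintype.ofFinite _
  have hq2 : 2 ≤ Fintype.card F := Fintype.one_lt_card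
  obtain ⟨m, hm⟩ : ∃ m, Fintype.card F = 2 * m + 1 := ⟨Fintype.card F / 2, by omega⟩
  have hm1 : 1 ≤ m := by omega
  obtain ⟨η, hη1, hη2, hη⟩ := exists_eta hodd
  obtain ⟨St, hStne, hSt⟩ := exists_StN (F := F)
  obtain ⟨ξ₁, ξ₂, hξne, hξ⟩ := exists_xi η hη2
  have hM : Fintype.card (MulChar F ℂ) = Fintype.card F - 1 := by
    have h1 := MulChar.card_eq_card_units_of_hasEnoughRootsOfUnity F ℂ
    rwa [Nat.card_eq_fintype_card, Nat.card_units, Nat.card_eq_fintype_card] at h1
  -- degrees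
  have hdeg : ∀ ψ : IrrCharacter (SN F), ((charDegree (ψ : SN F → ℂ) : ℕ) : ℂ) = ψ.1 1 :=
    fun ψ => Wedderburn.char_natCast_charDegree (Wedderburn.isCharacter_of_irr ψ.2)
  have hd1 : charDegree ((oneN : IrrCharacter (SN F)) : SN F → ℂ) = 1 :=
    Wedderburn.charDegree_eq_of_apply_one (by rw [oneN_val]; simp)
  have hdSt : charDegree (St : SN F → ℂ) = Fintype.card F := by
    apply Wedderburn.charDegree_eq_of_apply_one
    have h := congrFun hSt 1
    rw [P_one_apply, Pi.add_apply, oneN_val] at h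
    linear_combination -h
  have hdP : ∀ ω : MulChar F ℂ, ω * ω ≠ 1 →
      charDegree ((PI ω : IrrCharacter (SN F)) : SN F → ℂ) = Fintype.card F + 1 := by
    intro ω hω
    apply Wedderburn.charDegree_eq_of_apply_one
    rw [PI_val ω hω, P_one_apply]
    push_cast
    rfl
  have hξsum : charDegree (ξ₁ : SN F → ℂ) + charDegree (ξ₂ : SN F → ℂ) = Fintype.card F + 1 := by
    have h := congrFun hξ 1
    rw [P_one_apply, Pi.add_apply, ← hdeg, ← hdeg] at h
    exact_mod_cast h.symm
  have hη1' : ((η, (1 : MulChar F ℂ)) : MulChar F ℂ × MulChar F ℂ).1 ≠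
      ((η, (1 : MulChar F ℂ)) : MulChar F ℂ × MulChar F ℂ).2 := hη1
  have hresη : (fun n : SN F => ((psIrr (η, (1 : MulChar F ℂ)) :
      IrrCharacter (Matrix.GeneralLinearGroup (Fin 2) F)) :
        Matrix.GeneralLinearGroup (Fin 2) F → ℂ) n) = P η := by
    rw [psIrr_val _ hη1']
    have := res_ind η (1 : MulChar F ℂ)
    rw [inv_one, mul_one] at this
    exact this
  have hξdvd : ∀ ξ : IrrCharacter (SN F), (ξ = ξ₁ ∨ ξ = ξ₂) →
      charDegree (ξ : SN F → ℂ) ∣ Fintype.card F + 1 := by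
    intro ξ hξ'
    rw [← deg_ps (η, (1 : MulChar F ℂ)) hη1']
    apply deg_dvd_of_constituent (SN F) inferInstance
    rw [hresη, hξ, Orth.classInner_add_left, Wedderburn.irr_orthonormal,
      Wedderburn.irr_orthonormal]
    rcases hξ' with rfl | rfl
    · rw [if_pos rfl, if_neg hξne]
      norm_num
    · rw [if_pos rfl, if_neg (Ne.symm hξne)]
      norm_num
  have hξeq : charDegree (ξ₁ : SN F → ℂ) = charDegree (ξ₂ : SN F → ℂ) := by
    have h1 := hξdvd ξ₁ (Or.inl rfl)
    have h2 := hξdvd ξ₂ (Or.inr rfl)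
    rw [← hξsum] at h1 h2
    exact Nat.dvd_antisymm ((Nat.dvd_add_right (dvd_refl _)).mp h1)
      ((Nat.dvd_add_left (dvd_refl _)).mp h2)
  have hdξ₁ : 2 * charDegree (ξ₁ : SN F → ℂ) = Fintype.card F + 1 := by omega
  have hdξ₂ : 2 * charDegree (ξ₂ : SN F → ℂ) = Fintype.card F + 1 := by omega
  -- the sets
  obtain ⟨M', hM'def⟩ : ∃ M' : Finset (MulChar F ℂ),
      M' = Finset.univ.filter (fun ω : MulChar F ℂ => ¬ ω * ω = 1) := ⟨_, rfl⟩
  have hM'mem : ∀ ω : MulChar F ℂ, ω ∈ M' ↔ ω * ω ≠ 1 := by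
    intro ω
    rw [hM'def]
    simp
  have hM'card : M'.card + 2 = Fintype.card F - 1 := by
    have h1 := Finset.card_filter_add_card_filter_not (s := (Finset.univ : Finset (MulChar F ℂ)))
      (fun ω : MulChar F ℂ => ω * ω = 1)
    have h2 : (Finset.univ.filter (fun ω : MulChar F ℂ => ω * ω = 1)) = {1, η} := by
      ext ω
      simp only [Finset.mem_filter, Finset.mem_univ, true_and, Finset.mem_insert,
        Finset.mem_singleton]
      constructor
      · exact hη ω
      · rintro (rfl | rfl)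
        · exact one_mul 1
        · exact hη2
    rw [h2, Finset.card_pair (Ne.symm hη1), Finset.card_univ, hM, ← hM'def] at h1
    omega
  obtain ⟨A₃, hA₃def⟩ : ∃ A₃ : Finset (IrrCharacter (SN F)), A₃ = M'.image PI := ⟨_, rfl⟩
  have hA₃ : 2 * A₃.card = M'.card := by
    rw [Finset.card_eq_sum_card_image PI M', ← hA₃def, Finset.sum_const_nat (m := 2)]
    · ring
    · intro ψ hψ
      rw [hA₃def] at hψ
      obtain ⟨ω, hω, rfl⟩ := Finset.mem_image.mp hψ
      have hω' : ω * ω ≠ 1 := (hM'mem ω).mp hω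
      have hωinv : ω⁻¹ * ω⁻¹ ≠ 1 := by
        intro h
        apply hω'
        have h3 : (ω * ω)⁻¹ = 1 := by rw [mul_inv, h]
        exact inv_eq_one.mp h3
      have hfib : M'.filter (fun ω' => PI ω' = PI ω) = {ω, ω⁻¹} := by
        ext ω'
        simp only [Finset.mem_filter, Finset.mem_insert, Finset.mem_singleton]
        constructor
        · rintro ⟨hmem, he⟩
          exact (PI_eq_iff ω ω' hω' ((hM'mem ω').mp hmem)).mp he.symm
        · rintro (rfl | rfl)
          · exact ⟨hω, rfl⟩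
          · exact ⟨(hM'mem _).mpr hωinv, ((PI_eq_iff ω ω⁻¹ hω' hωinv).mpr (Or.inr rfl)).symm⟩
      rw [hfib, Finset.card_pair]
      intro h
      apply hω'
      nth_rewrite 2 [h]
      exact mul_inv_cancel ω
  have hd₃ : ∀ ψ ∈ A₃, charDegree (ψ : SN F → ℂ) = Fintype.card F + 1 := by
    intro ψ hψ
    rw [hA₃def] at hψ
    obtain ⟨ω, hω, rfl⟩ := Finset.mem_image.mp hψ
    exact hdP ω ((hM'mem ω).mp hω)
  obtain ⟨U, hUdef⟩ : ∃ U : Finset (IrrCharacter (SN F)),
      U = (({oneN} ∪ {St}) ∪ A₃) ∪ {ξ₁, ξ₂} := ⟨_, rfl⟩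
  have hdisj1 : Disjoint ({oneN} : Finset (IrrCharacter (SN F))) {St} := by
    rw [Finset.disjoint_singleton]
    exact Ne.symm hStne
  have hdisj2 : Disjoint (({oneN} : Finset (IrrCharacter (SN F))) ∪ {St}) A₃ := by
    apply Finset.disjoint_left.mpr
    intro ψ h12 h3
    have e3 := hd₃ ψ h3
    rcases Finset.mem_union.mp h12 with h | h
    · rw [Finset.mem_singleton.mp h, hd1] at e3
      omega
    · rw [Finset.mem_singleton.mp h, hdSt] at e3
      omega
  have hdisj3 : Disjoint ((({oneN} : Finset (IrrCharacter (SN F))) ∪ {St}) ∪ A₃) {ξ₁, ξ₂} := by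
    apply Finset.disjoint_left.mpr
    intro ψ h123 h4
    have e4 : 2 * charDegree (ψ : SN F → ℂ) = Fintype.card F + 1 := by
      rcases Finset.mem_insert.mp h4 with h | h
      · rw [h]
        exact hdξ₁
      · rw [Finset.mem_singleton.mp h]
        exact hdξ₂
    rcases Finset.mem_union.mp h123 with h | h
    · rcases Finset.mem_union.mp h with h | h
      · rw [Finset.mem_singleton.mp h, hd1] at e4
        omega
      · rw [Finset.mem_singleton.mp h, hdSt] at e4
        omega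
    · rw [hd₃ ψ h] at e4
      omega
  have hcardU : U.card = 1 + 1 + A₃.card + 2 := by
    rw [hUdef, Finset.card_union_of_disjoint hdisj3, Finset.card_union_of_disjoint hdisj2,
      Finset.card_union_of_disjoint hdisj1, Finset.card_singleton, Finset.card_singleton,
      Finset.card_pair (Ne.symm hξne)]
  have hsumU : ∑ ψ ∈ U, charDegree (ψ : SN F → ℂ) ^ 2 =
      1 + Fintype.card F ^ 2 + A₃.card * (Fintype.card F + 1) ^ 2 +
        (charDegree (ξ₁ : SN F → ℂ) ^ 2 + charDegree (ξ₂ : SN F → ℂ) ^ 2) := by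
    rw [hUdef, Finset.sum_union hdisj3, Finset.sum_union hdisj2, Finset.sum_union hdisj1,
      Finset.sum_singleton, Finset.sum_singleton, Finset.sum_pair (Ne.symm hξne),
      Finset.sum_const_nat (m := (Fintype.card F + 1) ^ 2) (fun ψ h => by rw [hd₃ ψ h]), hd1,
      hdSt]
    ring
  have hcard : Fintype.card (IrrCharacter (SN F)) = Fintype.card F + 4 := by
    rw [← Nat.card_eq_fintype_card, ← Nat.card_congr (irrCongr (slEquiv (F := F))).symm,
      Helper3.Card.card_irrCharacter, SL2Classes.card_conjClasses hodd]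
  have hcompl : U.card + Uᶜ.card = Fintype.card (IrrCharacter (SN F)) :=
    Finset.card_add_card_compl U
  have hsq : ∑ ψ : IrrCharacter (SN F), charDegree (ψ : SN F → ℂ) ^ 2 =
      Fintype.card F * (Fintype.card F ^ 2 - 1) := by
    have h1 := Helper3.Orth.sum_apply_one_sq (G := SN F)
    rw [finsum_eq_sum_of_fintype, ← Nat.card_congr (slEquiv (F := F)).toEquiv,
      SLCard.card_SL2] at h1
    have h2 : ∀ ψ : IrrCharacter (SN F), (ψ : SN F → ℂ) 1 ^ 2 =
        ((charDegree (ψ : SN F → ℂ) ^ 2 : ℕ) : ℂ) := by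
      intro ψ
      rw [Nat.cast_pow, hdeg]
    rw [Finset.sum_congr rfl (fun ψ _ => h2 ψ), ← Nat.cast_sum] at h1
    exact_mod_cast h1
  have hsplit := Finset.sum_add_sum_compl U
    (fun ψ : IrrCharacter (SN F) => charDegree (ψ : SN F → ℂ) ^ 2)
  have hdV : ∀ ψ ∈ Uᶜ, charDegree (ψ : SN F → ℂ) ∣ 2 * m := by
    intro ψ hψ
    have hψU : ψ ∉ U := Finset.mem_compl.mp hψ
    have h2m : 2 * m = Fintype.card F - 1 := by omega
    rw [h2m]
    rcases irr_SN_cases η hη ξ₁ ξ₂ hξ St hSt ψ with h | h | ⟨ω, hω, h⟩ | h | h | h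
    · exfalso
      apply hψU
      rw [hUdef, h]
      simp
    · exfalso
      apply hψU
      rw [hUdef, h]
      simp
    · exfalso
      apply hψU
      rw [hUdef, h, hA₃def]
      apply Finset.mem_union_left
      apply Finset.mem_union_right
      exact Finset.mem_image.mpr ⟨ω, (hM'mem ω).mpr hω, rfl⟩
    · exfalso
      apply hψU
      rw [hUdef, h]
      simp
    · exfalso
      apply hψU
      rw [hUdef, h]
      simp
    · exact h
  -- numerics
  have hn₃ : A₃.card + 1 = m := by omega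
  have hV : Uᶜ.card = m + 2 := by omega
  have hξsq : charDegree (ξ₁ : SN F → ℂ) ^ 2 + charDegree (ξ₂ : SN F → ℂ) ^ 2 =
      2 * (m + 1) ^ 2 := by
    have e1 : charDegree (ξ₁ : SN F → ℂ) = m + 1 := by omega
    have e2 : charDegree (ξ₂ : SN F → ℂ) = m + 1 := by omega
    rw [e1, e2]
    ring
  have hsumV : ∑ ψ ∈ Uᶜ, charDegree (ψ : SN F → ℂ) ^ 2 = 2 * m ^ 2 * (2 * m + 1) := by
    rw [hsq, hsumU, hξsq, hm] at hsplit
    have e1 : (2 * m + 1) ^ 2 - 1 = 4 * m ^ 2 + 4 * m := by
      have : (2 * m + 1) ^ 2 = 4 * m ^ 2 + 4 * m + 1 := by ring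
      omega
    rw [e1] at hsplit
    obtain ⟨j, hj⟩ : ∃ j, m = j + 1 := ⟨m - 1, by omega⟩
    have hA₃j : A₃.card = j := by omega
    rw [hA₃j, hj] at hsplit
    rw [hj]
    zify at hsplit ⊢
    linear_combination hsplit
  obtain ⟨hall, ha, hb⟩ := cusp_numerics Uᶜ
    (fun ψ : IrrCharacter (SN F) => charDegree (ψ : SN F → ℂ)) m hm1 hdV hV hsumV
  refine ⟨{oneN}, {St}, A₃, {ξ₁, ξ₂},
    Uᶜ.filter (fun ψ : IrrCharacter (SN F) => charDegree (ψ : SN F → ℂ) = 2 * m),
    Uᶜ.filter (fun ψ : IrrCharacter (SN F) => charDegree (ψ : SN F → ℂ) = m),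
    ?_, ?_, ?_, hd₃, ?_, ?_, ?_, ?_, ?_, ?_, ?_, ?_, ?_⟩
  · intro ψ
    by_cases h : ψ ∈ U
    · rw [hUdef] at h
      rcases Finset.mem_union.mp h with h | h
      · rcases Finset.mem_union.mp h with h | h
        · rcases Finset.mem_union.mp h with h | h
          · exact Or.inl h
          · exact Or.inr (Or.inl h)
        · exact Or.inr (Or.inr (Or.inl h))
      · exact Or.inr (Or.inr (Or.inr (Or.inl h)))
    · have hV' : ψ ∈ Uᶜ := Finset.mem_compl.mpr h
      rcases hall ψ hV' with h1 | h1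
      · right; right; right; right; left
        exact Finset.mem_filter.mpr ⟨hV', h1⟩
      · right; right; right; right; right
        exact Finset.mem_filter.mpr ⟨hV', h1⟩
  · intro ψ hψ
    rw [Finset.mem_singleton.mp hψ]
    exact hd1
  · intro ψ hψ
    rw [Finset.mem_singleton.mp hψ]
    exact hdSt
  · intro ψ hψ
    rcases Finset.mem_insert.mp hψ with h | h
    · rw [h]
      exact hdξ₁
    · rw [Finset.mem_singleton.mp h]
      exact hdξ₂
  · intro ψ hψ
    rw [(Finset.mem_filter.mp hψ).2, hm]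
    omega
  · intro ψ hψ
    rw [(Finset.mem_filter.mp hψ).2, hm]
    omega
  · exact Finset.card_singleton _
  · exact Finset.card_singleton _
  · rw [hm]
    omega
  · exact Finset.card_pair (Ne.symm hξne)
  · rw [ha, hm]
    omega
  · exact hb

end Cfsg.Agent.Lib.Helper38.GL2Res
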