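import Mathlib
import Cfsg.Agent.Lib.Helper94.OPStmt
import Cfsg.Agent.Lib.Helper14.OrthIndex
import Cfsg.Agent.Lib.Helper44.NegPairs

/-!
# S5989 / PELTB (call by helper94)

`d = 3 + 2 j` odd: an element `x = 1 + N` of order `p` of `Omega^+_(2d)(q)`, `q` odd, with
`Fix x ≤ (x - 1) V`, `(x - 1) ^ 3 = 0`, `dim (x - 1) ^ 2 V ≤ 2`.  In coordinates
`Fin d ≃ Fin 3 ⊕ (Fin j ⊕ Fin j)`: on `e_0, e_1, e_2` a Jordan block, on `f_0, f_1, f_2` its
inverse transpose, and a Siegel element (skew pairing) on the other coordinates.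
-/

set_option autoImplicit false

namespace Cfsg.Agent.Lib.Helper38.OPPELTB

open Matrix

universe u

open Cfsg.Agent.Lib.Helper94.OPStmt

section nil

variable {F : Type u} [Field F] {d j : ℕ}

/-- the paired indices -/
abbrev K (j : ℕ) : Type := Fin j ⊕ Fin j

/-- signs of the skew pairing -/
def eps (F : Type u) [Field F] {j : ℕ} : K j → F := Sum.elim (fun _ => 1) (fun _ => -1)

theorem eps_swap (k : K j) : eps F (Sum.swap k) = - eps F k := by
  rcases k with k | k <;> simp [eps]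

theorem eps_sq (k : K j) : eps F k * eps F k = 1 := by
  rcases k with k | k <;> simp [eps]

/-- Jordan block (minus one) on the `e`-side -/
def Je (u : Fin 3 → F) : Fin 3 → F := ![u 1, u 2, 0]

/-- its inverse transpose (minus one) on the `f`-side -/
def Df (u : Fin 3 → F) : Fin 3 → F := ![0, -u 0, -u 1 + u 0]

theorem Je_0 (u : Fin 3 → F) : Je u 0 = u 1 := rfl
theorem Je_1 (u : Fin 3 → F) : Je u 1 = u 2 := rfl
theorem Je_2 (u : Fin 3 → F) : Je u 2 = 0 := rfl
theorem Df_0 (u : Fin 3 → F) : Df u 0 = 0 := rfl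
theorem Df_1 (u : Fin 3 → F) : Df u 1 = -u 0 := rfl
theorem Df_2 (u : Fin 3 → F) : Df u 2 = -u 1 + u 0 := rfl

theorem fin3_cases {p : Fin 3 → Prop} (h0 : p 0) (h1 : p 1) (h2 : p 2) : ∀ i, p i := by
  intro i
  fin_cases i
  exacts [h0, h1, h2]

/-- the nilpotent map -/
def Nf (eq : Fin d ≃ Fin 3 ⊕ K j) (v : P d → F) : P d → F :=
  Sum.elim
    (fun a => Sum.elim (fun i => Je (fun i' => v (Sum.inl (eq.symm (Sum.inl i')))) i)
      (fun k => eps F (Sum.swap k) * v (Sum.inr (eq.symm (Sum.inr (Sum.swap k))))) (eq a))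
    (fun a => Sum.elim (fun i => Df (fun i' => v (Sum.inr (eq.symm (Sum.inl i')))) i)
      (fun _ => 0) (eq a))

theorem Nf_e3 (eq : Fin d ≃ Fin 3 ⊕ K j) (v : P d → F) (i : Fin 3) :
    Nf eq v (Sum.inl (eq.symm (Sum.inl i)))
      = Je (fun i' => v (Sum.inl (eq.symm (Sum.inl i')))) i := by
  simp only [Nf, Sum.elim_inl, Equiv.apply_symm_apply]

theorem Nf_eK (eq : Fin d ≃ Fin 3 ⊕ K j) (v : P d → F) (k : K j) :
    Nf eq v (Sum.inl (eq.symm (Sum.inr k)))
      = eps F (Sum.swap k) * v (Sum.inr (eq.symm (Sum.inr (Sum.swap k)))) := by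
  simp only [Nf, Sum.elim_inl, Sum.elim_inr, Equiv.apply_symm_apply]

theorem Nf_f3 (eq : Fin d ≃ Fin 3 ⊕ K j) (v : P d → F) (i : Fin 3) :
    Nf eq v (Sum.inr (eq.symm (Sum.inl i)))
      = Df (fun i' => v (Sum.inr (eq.symm (Sum.inl i')))) i := by
  simp only [Nf, Sum.elim_inl, Sum.elim_inr, Equiv.apply_symm_apply]

theorem Nf_fK (eq : Fin d ≃ Fin 3 ⊕ K j) (v : P d → F) (k : K j) :
    Nf eq v (Sum.inr (eq.symm (Sum.inr k))) = 0 := by
  simp only [Nf, Sum.elim_inr, Equiv.apply_symm_apply]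

omit [Field F] in
/-- extensionality in the four blocks of coordinates -/
theorem ext4 (eq : Fin d ≃ Fin 3 ⊕ K j) (u v : P d → F)
    (h1 : ∀ i, u (Sum.inl (eq.symm (Sum.inl i))) = v (Sum.inl (eq.symm (Sum.inl i))))
    (h2 : ∀ k, u (Sum.inl (eq.symm (Sum.inr k))) = v (Sum.inl (eq.symm (Sum.inr k))))
    (h3 : ∀ i, u (Sum.inr (eq.symm (Sum.inl i))) = v (Sum.inr (eq.symm (Sum.inl i))))
    (h4 : ∀ k, u (Sum.inr (eq.symm (Sum.inr k))) = v (Sum.inr (eq.symm (Sum.inr k)))) :
    u = v := by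
  funext c
  rcases c with a | a
  · obtain ⟨c', rfl⟩ := eq.symm.surjective a
    rcases c' with i | k
    · exact h1 i
    · exact h2 k
  · obtain ⟨c', rfl⟩ := eq.symm.surjective a
    rcases c' with i | k
    · exact h3 i
    · exact h4 k

/-- the nilpotent map, as a linear map -/
def Nl (eq : Fin d ≃ Fin 3 ⊕ K j) : (P d → F) →ₗ[F] (P d → F) where
  toFun := Nf eq
  map_add' u v := by
    apply ext4 eq
    · simp only [Pi.add_apply, Nf_e3]
      refine fin3_cases ?_ ?_ ?_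
      · simp only [Je_0]
      · simp only [Je_1]
      · simp only [Je_2, add_zero]
    · intro k
      simp only [Pi.add_apply, Nf_eK, mul_add]
    · simp only [Pi.add_apply, Nf_f3]
      refine fin3_cases ?_ ?_ ?_
      · simp only [Df_0, add_zero]
      · simp only [Df_1]
        ring
      · simp only [Df_2]
        ring
    · intro k
      simp only [Pi.add_apply, Nf_fK, add_zero]
  map_smul' c v := by
    apply ext4 eq
    · simp only [Pi.smul_apply, smul_eq_mul, RingHom.id_apply, Nf_e3]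
      refine fin3_cases ?_ ?_ ?_
      · simp only [Je_0]
      · simp only [Je_1]
      · simp only [Je_2, mul_zero]
    · intro k
      simp only [Pi.smul_apply, smul_eq_mul, RingHom.id_apply, Nf_eK]
      ring
    · simp only [Pi.smul_apply, smul_eq_mul, RingHom.id_apply, Nf_f3]
      refine fin3_cases ?_ ?_ ?_
      · simp only [Df_0, mul_zero]
      · simp only [Df_1]
        ring
      · simp only [Df_2]
        ring
    · intro k
      simp only [Pi.smul_apply, smul_eq_mul, RingHom.id_apply, Nf_fK, mul_zero]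

theorem Q_split (eq : Fin d ≃ Fin 3 ⊕ K j) (v : P d → F) :
    Cfsg.quadFormPlus d F v
      = ∑ i : Fin 3, v (Sum.inl (eq.symm (Sum.inl i))) * v (Sum.inr (eq.symm (Sum.inl i)))
        + ∑ k : K j, v (Sum.inl (eq.symm (Sum.inr k))) * v (Sum.inr (eq.symm (Sum.inr k))) := by
  unfold Cfsg.quadFormPlus
  rw [← Equiv.sum_comp eq.symm (fun a => v (Sum.inl a) * v (Sum.inr a)), Fintype.sum_sum_type]

/-- `1 + N` is an isometry -/
theorem Nf_iso (eq : Fin d ≃ Fin 3 ⊕ K j) (v : P d → F) :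
    Cfsg.quadFormPlus d F (v + Nf eq v) = Cfsg.quadFormPlus d F v := by
  rw [Q_split eq, Q_split eq]
  simp only [Pi.add_apply, Nf_e3, Nf_eK, Nf_f3, Nf_fK, add_zero]
  have hS : ∑ k : K j, eps F (Sum.swap k) * v (Sum.inr (eq.symm (Sum.inr (Sum.swap k))))
      * v (Sum.inr (eq.symm (Sum.inr k))) = 0 := by
    rw [Fintype.sum_sum_type]
    simp only [eps, Sum.swap_inl, Sum.swap_inr, Sum.elim_inl, Sum.elim_inr]
    rw [← Finset.sum_add_distrib]
    apply Finset.sum_eq_zero
    intro t _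
    ring
  have hK : ∑ k : K j, (v (Sum.inl (eq.symm (Sum.inr k)))
        + eps F (Sum.swap k) * v (Sum.inr (eq.symm (Sum.inr (Sum.swap k)))))
        * v (Sum.inr (eq.symm (Sum.inr k)))
      = ∑ k : K j, v (Sum.inl (eq.symm (Sum.inr k))) * v (Sum.inr (eq.symm (Sum.inr k))) := by
    have : ∀ k : K j, (v (Sum.inl (eq.symm (Sum.inr k)))
        + eps F (Sum.swap k) * v (Sum.inr (eq.symm (Sum.inr (Sum.swap k)))))
        * v (Sum.inr (eq.symm (Sum.inr k)))
        = v (Sum.inl (eq.symm (Sum.inr k))) * v (Sum.inr (eq.symm (Sum.inr k)))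
          + eps F (Sum.swap k) * v (Sum.inr (eq.symm (Sum.inr (Sum.swap k))))
            * v (Sum.inr (eq.symm (Sum.inr k))) := fun k => by ring
    rw [Finset.sum_congr rfl (fun k _ => this k), Finset.sum_add_distrib, hS, add_zero]
  rw [hK, Fin.sum_univ_three, Fin.sum_univ_three]
  simp only [Je_0, Je_1, Je_2, Df_0, Df_1, Df_2]
  ring

/-- `N ^ 3 = 0` -/
theorem Nf3 (eq : Fin d ≃ Fin 3 ⊕ K j) (v : P d → F) : Nf eq (Nf eq (Nf eq v)) = 0 := by
  apply ext4 eq
  · simp only [Nf_e3, Pi.zero_apply]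
    refine fin3_cases ?_ ?_ ?_
    · simp only [Je_0, Je_1, Je_2]
    · simp only [Je_1, Je_2]
    · simp only [Je_2]
  · intro k
    simp only [Nf_eK, Nf_fK, mul_zero, Pi.zero_apply]
  · simp only [Nf_f3, Pi.zero_apply]
    refine fin3_cases ?_ ?_ ?_
    · simp only [Df_0]
    · simp only [Df_1, Df_0, neg_zero]
    · simp only [Df_2, Df_1, Df_0, neg_zero, add_zero]
  · intro k
    simp only [Nf_fK, Pi.zero_apply]

/-- first basis vector of `range (N ^ 2)` -/
def E1 (eq : Fin d ≃ Fin 3 ⊕ K j) : P d → F :=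
  Sum.elim (fun a => Sum.elim ![1, 0, 0] (fun _ => 0) (eq a)) (fun _ => 0)

/-- second basis vector of `range (N ^ 2)` -/
def F3 (eq : Fin d ≃ Fin 3 ⊕ K j) : P d → F :=
  Sum.elim (fun _ => 0) (fun a => Sum.elim ![0, 0, 1] (fun _ => 0) (eq a))

/-- a vector not killed by `N` -/
def E2 (eq : Fin d ≃ Fin 3 ⊕ K j) : P d → F :=
  Sum.elim (fun a => Sum.elim ![0, 1, 0] (fun _ => 0) (eq a)) (fun _ => 0)

theorem Nf_E2 (eq : Fin d ≃ Fin 3 ⊕ K j) :
    Nf eq (E2 (F := F) eq) (Sum.inl (eq.symm (Sum.inl 0))) = 1 := by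
  rw [Nf_e3, Je_0]
  simp only [E2, Sum.elim_inl, Equiv.apply_symm_apply]
  rfl

/-- `N ^ 2` has rank at most two -/
theorem Nf2 (eq : Fin d ≃ Fin 3 ⊕ K j) (v : P d → F) :
    Nf eq (Nf eq v) = v (Sum.inl (eq.symm (Sum.inl 2))) • E1 eq
      + v (Sum.inr (eq.symm (Sum.inl 0))) • F3 eq := by
  apply ext4 eq
  · simp only [Nf_e3, Pi.add_apply, Pi.smul_apply, smul_eq_mul, E1, F3, Sum.elim_inl,
      Equiv.apply_symm_apply, mul_zero, add_zero]
    refine fin3_cases ?_ ?_ ?_
    · simp only [Je_0, Je_1]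
      show _ = _ * (1 : F)
      rw [mul_one]
    · simp only [Je_1, Je_2]
      show _ = _ * (0 : F)
      rw [mul_zero]
    · simp only [Je_2]
      show _ = _ * (0 : F)
      rw [mul_zero]
  · intro k
    simp only [Nf_eK, Nf_fK, mul_zero, Pi.add_apply, Pi.smul_apply, smul_eq_mul, E1, F3,
      Sum.elim_inl, Sum.elim_inr, Equiv.apply_symm_apply, add_zero]
  · simp only [Nf_f3, Pi.add_apply, Pi.smul_apply, smul_eq_mul, E1, F3, Sum.elim_inl,
      Sum.elim_inr, Equiv.apply_symm_apply, mul_zero, zero_add]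
    refine fin3_cases ?_ ?_ ?_
    · simp only [Df_0]
      show _ = _ * (0 : F)
      rw [mul_zero]
    · simp only [Df_1, Df_0, neg_zero]
      show _ = _ * (0 : F)
      rw [mul_zero]
    · simp only [Df_2, Df_1, Df_0, neg_neg, add_zero]
      show _ = _ * (1 : F)
      rw [mul_one]
  · intro k
    simp only [Nf_fK, Pi.add_apply, Pi.smul_apply, smul_eq_mul, E1, F3,
      Sum.elim_inr, Equiv.apply_symm_apply, mul_zero, add_zero]

/-- the kernel of `N` lies in its range -/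
theorem ker_le_range (eq : Fin d ≃ Fin 3 ⊕ K j) (v : P d → F) (hv : Nf eq v = 0) :
    ∃ u : P d → F, Nf eq u = v := by
  have k1 : v (Sum.inl (eq.symm (Sum.inl 1))) = 0 := by
    have h := congrFun hv (Sum.inl (eq.symm (Sum.inl 0)))
    rw [Nf_e3, Je_0] at h
    exact h
  have k2 : v (Sum.inl (eq.symm (Sum.inl 2))) = 0 := by
    have h := congrFun hv (Sum.inl (eq.symm (Sum.inl 1)))
    rw [Nf_e3, Je_1] at h
    exact h
  have k3 : v (Sum.inr (eq.symm (Sum.inl 0))) = 0 := by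
    have h := congrFun hv (Sum.inr (eq.symm (Sum.inl 1)))
    rw [Nf_f3, Df_1] at h
    exact neg_eq_zero.mp h
  have k4 : v (Sum.inr (eq.symm (Sum.inl 1))) = 0 := by
    have h := congrFun hv (Sum.inr (eq.symm (Sum.inl 2)))
    rw [Nf_f3, Df_2] at h
    simp only [k3, add_zero, Pi.zero_apply] at h
    exact neg_eq_zero.mp h
  have k5 : ∀ k : K j, v (Sum.inr (eq.symm (Sum.inr k))) = 0 := by
    intro k
    have h := congrFun hv (Sum.inl (eq.symm (Sum.inr (Sum.swap k))))
    rw [Nf_eK, Sum.swap_swap] at h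
    have hne : eps F k ≠ 0 := by
      intro h0
      have := eps_sq (F := F) k
      rw [h0, mul_zero] at this
      exact zero_ne_one this
    exact (mul_eq_zero.mp h).resolve_left hne
  refine ⟨Sum.elim
    (fun a => Sum.elim ![0, v (Sum.inl (eq.symm (Sum.inl 0))), 0] (fun _ => 0) (eq a))
    (fun a => Sum.elim ![0, -v (Sum.inr (eq.symm (Sum.inl 2))), 0]
      (fun k => eps F k * v (Sum.inl (eq.symm (Sum.inr (Sum.swap k))))) (eq a)), ?_⟩
  apply ext4 eq
  · simp only [Nf_e3, Sum.elim_inl, Equiv.apply_symm_apply]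
    refine fin3_cases ?_ ?_ ?_
    · rw [Je_0]
      rfl
    · rw [Je_1, k1]
      rfl
    · rw [Je_2, k2]
  · intro k
    simp only [Nf_eK, Sum.elim_inr, Equiv.apply_symm_apply, Sum.swap_swap]
    rw [← mul_assoc, eps_sq, one_mul]
  · simp only [Nf_f3, Sum.elim_inl, Sum.elim_inr, Equiv.apply_symm_apply]
    refine fin3_cases ?_ ?_ ?_
    · rw [Df_0, k3]
    · rw [Df_1, k4]
      show -(0 : F) = 0
      exact neg_zero
    · rw [Df_2]
      show -(-v (Sum.inr (eq.symm (Sum.inl 2)))) + (0 : F) = _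
      rw [neg_neg, add_zero]
  · intro k
    rw [Nf_fK, k5]

end nil

theorem main : PEltB.{u} := by
  intro F _ _ p hpF _ hodd d hd hdodd
  classical
  have hp : p.Prime := hpF.out
  have h2 : (2 : F) ≠ 0 := by
    intro h
    have hch : ringChar F = 2 :=
      CharP.ringChar_of_prime_eq_zero Nat.prime_two (by exact_mod_cast h)
    have := FiniteField.even_card_of_char_two hch
    rcases hodd with ⟨m, hm⟩
    omega
  have hp2 : p ≠ 2 := by
    intro h
    apply h2
    have := CharP.cast_eq_zero F p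
    rw [h] at this
    exact_mod_cast this
  have hp3 : 3 ≤ p := by
    have := hp.two_le
    omega
  have hpodd : p % 2 = 1 := hp.eq_two_or_odd.resolve_left hp2
  obtain ⟨j, hj⟩ : ∃ j, d = 3 + (j + j) := ⟨(d - 3) / 2, by
    obtain ⟨t, ht⟩ := hdodd
    omega⟩
  have hcard : Fintype.card (Fin d) = Fintype.card (Fin 3 ⊕ K j) := by
    simp only [Fintype.card_fin, Fintype.card_sum]
    exact hj
  have eq : Fin d ≃ Fin 3 ⊕ K j := Fintype.equivOfCardEq hcard
  obtain ⟨N, hN⟩ : ∃ N : (P d → F) →ₗ[F] (P d → F), N = Nl eq := ⟨_, rfl⟩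
  have hNapp : ∀ v, N v = Nf eq v := by
    intro v
    rw [hN]
    rfl
  obtain ⟨NM, hNM⟩ : ∃ NM : Matrix (P d) (P d) F, NM = LinearMap.toMatrix' N := ⟨_, rfl⟩
  obtain ⟨X, hX⟩ : ∃ X : Matrix (P d) (P d) F, X = 1 + NM := ⟨_, rfl⟩
  have hXlin : Matrix.toLin' X = LinearMap.id + N := by
    rw [hX, hNM, map_add, Matrix.toLin'_one, Matrix.toLin'_toMatrix']
  have hXv : ∀ v, X *ᵥ v = v + Nf eq v := by
    intro v
    rw [← Matrix.toLin'_apply, hXlin, LinearMap.add_apply, LinearMap.id_apply, hNapp]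
  have hN3 : NM * NM * NM = 0 := by
    rw [hNM, ← LinearMap.toMatrix'_comp, ← LinearMap.toMatrix'_comp]
    have : (N ∘ₗ N) ∘ₗ N = 0 := by
      apply LinearMap.ext
      intro v
      rw [LinearMap.comp_apply, LinearMap.comp_apply, hNapp, hNapp, hNapp, Nf3]
      rfl
    rw [this, map_zero]
  have hNp : NM ^ p = 0 := by
    rw [show p = 3 + (p - 3) by omega, pow_add, pow_three', hN3, zero_mul]
  have : Nonempty (P d) := ⟨Sum.inl ⟨0, by omega⟩⟩
  have hXp : X ^ p = 1 := by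
    rw [hX, add_pow_char_of_commute p (Commute.one_left NM), one_pow, hNp, add_zero]
  obtain ⟨x, hx⟩ : ∃ x : Matrix.GeneralLinearGroup (P d) F,
      (x : Matrix (P d) (P d) F) = X := by
    refine ⟨⟨X, X ^ (p - 1), ?_, ?_⟩, rfl⟩
    · rw [← pow_succ', show p - 1 + 1 = p by omega, hXp]
    · rw [← pow_succ, show p - 1 + 1 = p by omega, hXp]
  have hxp : x ^ p = 1 := by
    apply Units.ext
    rw [Units.val_pow_eq_pow_val, hx, hXp]
    rfl
  have hiso : x ∈ Cfsg.isometryGroup F (Cfsg.quadFormPlus d F) := by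
    intro u v
    show Cfsg.quadFormPlus d F ((x : Matrix (P d) (P d) F) *ᵥ u) = Cfsg.quadFormPlus d F u
    rw [hx, hXv, Nf_iso eq]
  have hNP : NP X = N := by
    unfold NP
    rw [hXlin, add_sub_cancel_left]
  have hx1 : x ≠ 1 := by
    intro h
    have hX1 : X = 1 := by rw [← hx, h]; rfl
    have h0 : N = 0 := by
      rw [← hNP, hX1]
      unfold NP
      rw [Matrix.toLin'_one, sub_self]
    have h1 := Nf_E2 (F := F) eq
    rw [← hNapp, h0] at h1
    exact zero_ne_one h1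
  have hord : orderOf x = p := orderOf_eq_prime hxp hx1
  refine ⟨x, ?_, hord, ?_, ?_, ?_⟩
  · -- Omega
    have hS := Cfsg.Agent.Lib.Helper44.NegPairs.sep_plusQ (F := F) d
    have hcardI : 2 ≤ Fintype.card (P d) := by
      simp only [Fintype.card_sum, Fintype.card_fin]
      omega
    obtain ⟨g, hg⟩ : ∃ g : ↥(Cfsg.isometryGroup F
        ⇑(Cfsg.Agent.Lib.Helper44.NegPairs.plusQ d F)),
        (g : Matrix.GeneralLinearGroup (P d) F) = x := ⟨⟨x, hiso⟩, rfl⟩
    have hgp : g ^ p = 1 := by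
      apply Subtype.ext
      rw [Subgroup.coe_pow, hg, hxp]
      rfl
    have hyy : g ^ ((p + 1) / 2) * g ^ ((p + 1) / 2) = g := by
      rw [← pow_add, show (p + 1) / 2 + (p + 1) / 2 = p + 1 by omega, pow_succ, hgp, one_mul]
    have hmem := Cfsg.Agent.Lib.Helper14.OrthIndex.sq_mem_omega h2
      (Cfsg.Agent.Lib.Helper44.NegPairs.plusQ d F) hS hcardI (g ^ ((p + 1) / 2))
    rw [hyy] at hmem
    exact ⟨g, hmem, hg⟩
  · -- Fix x ≤ range N
    rw [hx, hNP]
    intro v hv
    rw [mem_FxP, hXv] at hv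
    have hv0 : Nf eq v = 0 := by
      have := sub_eq_zero.mpr hv
      rw [add_sub_cancel_left] at this
      exact this
    obtain ⟨u, hu⟩ := ker_le_range eq v hv0
    exact ⟨u, by rw [hNapp]; exact hu⟩
  · -- N ^ 3 = 0
    rw [hx, hNP]
    intro v
    rw [hNapp, hNapp, hNapp, Nf3]
  · -- rank of N ^ 2
    rw [hx, hNP]
    have hle : LinearMap.range (N ∘ₗ N)
        ≤ Submodule.span F (Set.range (![E1 eq, F3 eq] : Fin 2 → (P d → F))) := by
      rintro _ ⟨v, rfl⟩
      rw [LinearMap.comp_apply, hNapp, hNapp, Nf2]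
      apply Submodule.add_mem
      · exact Submodule.smul_mem _ _ (Submodule.subset_span ⟨0, rfl⟩)
      · exact Submodule.smul_mem _ _ (Submodule.subset_span ⟨1, rfl⟩)
    have h1 := Submodule.finrank_mono hle
    have h3 := finrank_range_le_card (R := F) (![E1 eq, F3 eq] : Fin 2 → (P d → F))
    rw [Fintype.card_fin] at h3
    exact le_trans h1 h3

end Cfsg.Agent.Lib.Helper38.OPPELTB
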