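import Mathlib
import Cfsg.Agent.Lib.Helper37.OrtStmt
import Cfsg.Agent.Lib.Helper42.GLWr

set_option autoImplicit false

/-! Piece [WRORD] of S5981: the group of block-monomial matrices with blocks in `⟨c⟩` acts by
isometries on `m` orthogonal copies of `N`; its order `(orderOf c) ^ m * m!` divides the order of
the isometry group. -/

namespace Cfsg.Agent.Lib.Helper38.OrtWRORD

open scoped Kronecker MatrixGroups Matrix
open Cfsg.Agent.Lib.Helper37.OrtStmt
open Cfsg.Agent.Lib.Helper42.SpWr Cfsg.Agent.Lib.Helper42.GLWr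

universe u

variable {F : Type u} [Field F] {i m : ℕ}

/-- the block monomial matrix of `(π, f)` -/
def W (c : GL (Fin i) F) (π : Equiv.Perm (Fin m)) (f : Fin m → Subgroup.zpowers c) :
    Matrix (Fin m × Fin i) (Fin m × Fin i) F :=
  BM (π : Fin m → Fin m) (fun q => ((f q : GL (Fin i) F) : Matrix (Fin i) (Fin i) F))

theorem W_mul (c : GL (Fin i) F) (π τ : Equiv.Perm (Fin m)) (f g : Fin m → Subgroup.zpowers c) :
    W c π f * W c τ g = W c (τ * π) (fun q => f q * g (π q)) := by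
  unfold W
  rw [BM_mul]
  apply BM_congr
  · intro q; rfl
  · intro q; simp

theorem W_one (c : GL (Fin i) F) :
    W c (1 : Equiv.Perm (Fin m)) (fun _ => (1 : Subgroup.zpowers c)) = 1 := by
  unfold W
  rw [← BM_one]
  apply BM_congr
  · intro q; rfl
  · intro q; simp

theorem W_inv_right (c : GL (Fin i) F) (π : Equiv.Perm (Fin m)) (f : Fin m → Subgroup.zpowers c) :
    W c π f * W c π⁻¹ (fun q => (f (π⁻¹ q))⁻¹) = 1 := by
  rw [W_mul, ← W_one c]
  unfold W
  apply BM_congr
  · intro q; simp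
  · intro q; simp

theorem W_inv_left (c : GL (Fin i) F) (π : Equiv.Perm (Fin m)) (f : Fin m → Subgroup.zpowers c) :
    W c π⁻¹ (fun q => (f (π⁻¹ q))⁻¹) * W c π f = 1 := by
  rw [W_mul, ← W_one c]
  unfold W
  apply BM_congr
  · intro q; simp
  · intro q; simp

/-- the block monomial matrix as an element of `GL` -/
def WU (c : GL (Fin i) F) (π : Equiv.Perm (Fin m)) (f : Fin m → Subgroup.zpowers c) :
    GL (Fin m × Fin i) F :=
  ⟨W c π f, W c π⁻¹ (fun q => (f (π⁻¹ q))⁻¹), W_inv_right c π f, W_inv_left c π f⟩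

theorem WU_val (c : GL (Fin i) F) (π : Equiv.Perm (Fin m)) (f : Fin m → Subgroup.zpowers c) :
    ((WU c π f : GL (Fin m × Fin i) F) : Matrix (Fin m × Fin i) (Fin m × Fin i) F) = W c π f := rfl

theorem kron_eq (N : Matrix (Fin i) (Fin i) F) :
    (1 : Matrix (Fin m) (Fin m) F) ⊗ₖ N = BM (id : Fin m → Fin m) (fun _ => N) := by
  ext ⟨q, j⟩ ⟨q', k⟩
  simp only [Matrix.kroneckerMap_apply, Matrix.one_apply, BM, id]
  by_cases h : q = q'
  · subst h; simp
  · rw [if_neg h, if_neg (fun h' => h h'.symm), zero_mul]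

theorem W_form (c : GL (Fin i) F) (N : Matrix (Fin i) (Fin i) F)
    (hz : ∀ d : Subgroup.zpowers c, ((d : GL (Fin i) F) : Matrix (Fin i) (Fin i) F)ᵀ * N *
      ((d : GL (Fin i) F) : Matrix (Fin i) (Fin i) F) = N)
    (π : Equiv.Perm (Fin m)) (f : Fin m → Subgroup.zpowers c) :
    (W c π f)ᵀ * ((1 : Matrix (Fin m) (Fin m) F) ⊗ₖ N) * W c π f =
      (1 : Matrix (Fin m) (Fin m) F) ⊗ₖ N := by
  rw [kron_eq]
  unfold W
  rw [BM_transpose, BM_mul, BM_mul]
  apply BM_congr
  · intro q; simp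
  · intro q
    simp only [Function.comp_apply, id]
    exact hz _

theorem main : WrOrd.{u} := by
  intro F _ _ i m n₀ hi c N S₀ hc
  classical
  haveI : NeZero i := ⟨by omega⟩
  have hz : ∀ d : Subgroup.zpowers c, ((d : GL (Fin i) F) : Matrix (Fin i) (Fin i) F)ᵀ * N *
      ((d : GL (Fin i) F) : Matrix (Fin i) (Fin i) F) = N := by
    intro d
    have h1 : Subgroup.zpowers c ≤ OGrp N := (Subgroup.zpowers_le).mpr hc
    exact h1 d.2
  let H : Subgroup (GL (Fin m × Fin i) F) :=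
    { carrier := {g | ∃ (π : Equiv.Perm (Fin m)) (f : Fin m → Subgroup.zpowers c), g = WU c π f}
      mul_mem' := by
        rintro _ _ ⟨π, f, rfl⟩ ⟨τ, g, rfl⟩
        refine ⟨τ * π, fun q => f q * g (π q), ?_⟩
        apply Units.ext
        rw [Units.val_mul, WU_val, WU_val, WU_val, W_mul]
      one_mem' := ⟨1, fun _ => 1, by
        apply Units.ext
        rw [WU_val, W_one, Units.val_one]⟩
      inv_mem' := by
        rintro _ ⟨π, f, rfl⟩
        refine ⟨π⁻¹, fun q => (f (π⁻¹ q))⁻¹, ?_⟩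
        apply inv_eq_of_mul_eq_one_right
        apply Units.ext
        rw [Units.val_mul, WU_val, WU_val, W_inv_right, Units.val_one] }
  let E : GL (Fin m × Fin i) F →* GL ((Fin m × Fin i) ⊕ Fin n₀) F := extHomGL (Equiv.refl _)
  have hE : ∀ g : GL (Fin m × Fin i) F,
      ((E g : GL ((Fin m × Fin i) ⊕ Fin n₀) F) : Matrix ((Fin m × Fin i) ⊕ Fin n₀)
        ((Fin m × Fin i) ⊕ Fin n₀) F) =
      Matrix.fromBlocks (g : Matrix (Fin m × Fin i) (Fin m × Fin i) F) 0 0 1 := by
    intro g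
    show (Matrix.fromBlocks (g : Matrix (Fin m × Fin i) (Fin m × Fin i) F) 0 0
      (1 : Matrix (Fin n₀) (Fin n₀) F)).submatrix (Equiv.refl _).symm (Equiv.refl _).symm = _
    simp
  have hmem : ∀ g : H,
      E g ∈ OGrp (Matrix.fromBlocks ((1 : Matrix (Fin m) (Fin m) F) ⊗ₖ N) 0 0 S₀) := by
    rintro ⟨g, π, f, rfl⟩
    show ((E (WU c π f) : GL ((Fin m × Fin i) ⊕ Fin n₀) F) : Matrix ((Fin m × Fin i) ⊕ Fin n₀)
        ((Fin m × Fin i) ⊕ Fin n₀) F)ᵀ * _ * ((E (WU c π f) : GL ((Fin m × Fin i) ⊕ Fin n₀) F) :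
        Matrix ((Fin m × Fin i) ⊕ Fin n₀) ((Fin m × Fin i) ⊕ Fin n₀) F) = _
    rw [hE, WU_val, Matrix.fromBlocks_transpose, Matrix.fromBlocks_multiply,
      Matrix.fromBlocks_multiply]
    simp only [Matrix.transpose_zero, Matrix.transpose_one, Matrix.mul_zero, Matrix.zero_mul,
      add_zero, zero_add, Matrix.one_mul, Matrix.mul_one]
    rw [W_form c N hz π f]
  let ψ : H →* OGrp (Matrix.fromBlocks ((1 : Matrix (Fin m) (Fin m) F) ⊗ₖ N) 0 0 S₀) :=
    (E.comp H.subtype).codRestrict _ hmem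
  have hψ : Function.Injective ψ := by
    intro a b hab
    have h1 : E a = E b := congrArg Subtype.val hab
    exact Subtype.ext (extHomGL_injective (Equiv.refl _) h1)
  have hdvd := Subgroup.card_dvd_of_injective ψ hψ
  have hcardH : Nat.card H = orderOf c ^ m * Nat.factorial m := by
    let Φ : Equiv.Perm (Fin m) × (Fin m → Subgroup.zpowers c) → H :=
      fun x => ⟨WU c x.1 x.2, x.1, x.2, rfl⟩
    have hinj : Function.Injective Φ := by
      rintro ⟨π, f⟩ ⟨τ, g⟩ hfg
      have h1 : W c π f = W c τ g := by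
        have h2 := congrArg (fun z : H => ((z : GL (Fin m × Fin i) F) :
          Matrix (Fin m × Fin i) (Fin m × Fin i) F)) hfg
        exact h2
      obtain ⟨h3, h4⟩ := BM_inj _ _ _ _ (fun q => Units.ne_zero _) h1
      have h5 : π = τ := Equiv.ext h3
      have h6 : f = g := by
        funext q
        exact Subtype.ext (Units.ext (h4 q))
      rw [h5, h6]
    have hsurj : Function.Surjective Φ := by
      rintro ⟨g, π, f, rfl⟩
      exact ⟨(π, f), rfl⟩
    rw [← Nat.card_congr (Equiv.ofBijective Φ ⟨hinj, hsurj⟩), Nat.card_prod, Nat.card_perm,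
      Nat.card_fun, Nat.card_zpowers, Nat.card_fin, mul_comm]
  rw [hcardH] at hdvd
  exact hdvd

end Cfsg.Agent.Lib.Helper38.OrtWRORD
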