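import Mathlib
import Cfsg.Agent.Lib.Helper36.ReeSolvStmt

set_option autoImplicit false

/-! Piece [W7A] of S2361: an elementary abelian group of order 8 has at most 7 subgroups of
order 4. -/

namespace Cfsg.Agent.Lib.Helper38.RSW7A

open Cfsg.Agent.Lib.Helper36.ReeSolvStmt

universe u

theorem exists_not_mem {G : Type u} [Group G] [Finite G] (P : Subgroup G) (s : Finset G)
    (h : s.card < Nat.card ↥P) : ∃ x ∈ P, x ∉ s := by
  by_contra hcon
  push Not at hcon
  have hle : Nat.card ↥P ≤ s.card := by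
    have hinj : Function.Injective (fun x : ↥P => (⟨x.1, hcon x.1 x.2⟩ : ↥s)) := by
      intro a b hab
      apply Subtype.ext
      exact congrArg (fun z : ↥s => (z : G)) hab
    have h1 := Nat.card_le_card_of_injective _ hinj
    simpa using h1
  omega

theorem card_ge_of_subset {G : Type u} [Group G] [Finite G] (D : Subgroup G) (t : Finset G)
    (h : ∀ x ∈ t, x ∈ D) : t.card ≤ Nat.card ↥D := by
  have hinj : Function.Injective (fun x : ↥t => (⟨x.1, h x.1 x.2⟩ : ↥D)) := by
    intro a b hab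
    apply Subtype.ext
    exact congrArg (fun z : ↥D => (z : G)) hab
  have h1 := Nat.card_le_card_of_injective _ hinj
  simpa using h1

theorem mul_mem_iff {G : Type u} [Group G] [Finite G] (P W : Subgroup G) (hP : Nat.card ↥P = 8)
    (hWP : W ≤ P) (hW : Nat.card ↥W = 4) {x y : G} (hx : x ∈ P) (hy : y ∈ P) :
    x * y ∈ W ↔ (x ∈ W ↔ y ∈ W) := by
  have hidx : (W.subgroupOf P).index = 2 := by
    have h1 := Subgroup.card_mul_index (W.subgroupOf P)
    rw [Nat.card_congr (Subgroup.subgroupOfEquivOfLe hWP).toEquiv, hW, hP] at h1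
    omega
  have h2 := Subgroup.mul_mem_iff_of_index_two hidx (a := ⟨x, hx⟩) (b := ⟨y, hy⟩)
  simpa [Subgroup.mem_subgroupOf] using h2

theorem card_five {G : Type u} [DecidableEq G] [Group G] (e1 e2 e3 : G) (h11 : e1 * e1 = 1)
    (he1 : e1 ≠ 1) (he2 : e2 ∉ ({1, e1} : Finset G)) (he3 : e3 ∉ ({1, e1, e2, e1 * e2} : Finset G)) :
    ({e3, 1, e1, e2, e1 * e2} : Finset G).card = 5 := by
  have h2a : e2 ≠ 1 := fun h => he2 (by simp [h])
  have h2b : e2 ≠ e1 := fun h => he2 (by simp [h])
  have h12a : e1 * e2 ≠ 1 := by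
    intro h
    apply h2b
    have : e1 * e2 = e1 * e1 := by rw [h, h11]
    exact mul_left_cancel this
  have h12b : e1 * e2 ≠ e1 := by
    intro h
    exact h2a (by simpa using h)
  have h12c : e1 * e2 ≠ e2 := by
    intro h
    exact he1 (by simpa using h)
  rw [Finset.card_insert_of_notMem he3, Finset.card_insert_of_notMem, Finset.card_insert_of_notMem,
    Finset.card_insert_of_notMem, Finset.card_singleton]
  · simp [Ne.symm h12c]
  · simp [Ne.symm h2b, Ne.symm h12b]
  · simp [Ne.symm he1, Ne.symm h2a, Ne.symm h12a]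

theorem main : W7A.{u} := by
  classical
  intro G _ _ P hP hexp
  obtain ⟨e1, he1P, he1s⟩ := exists_not_mem P ({1} : Finset G) (by rw [hP]; simp)
  have he1 : e1 ≠ 1 := fun h => he1s (by simp [h])
  obtain ⟨e2, he2P, he2⟩ := exists_not_mem P ({1, e1} : Finset G)
    (by rw [hP]; exact lt_of_le_of_lt Finset.card_le_two (by norm_num))
  obtain ⟨e3, he3P, he3⟩ := exists_not_mem P ({1, e1, e2, e1 * e2} : Finset G)
    (by rw [hP]; exact lt_of_le_of_lt Finset.card_le_four (by norm_num))
  have h5 := card_five e1 e2 e3 (hexp e1 he1P) he1 he2 he3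
  -- a subgroup of `P` containing `e1, e2, e3` is `P`
  have hbig : ∀ D : Subgroup G, D ≤ P → e1 ∈ D → e2 ∈ D → e3 ∈ D → D = P := by
    intro D hDP h1 h2 h3
    have hge : 5 ≤ Nat.card ↥D := by
      rw [← h5]
      apply card_ge_of_subset
      intro x hx
      simp only [Finset.mem_insert, Finset.mem_singleton] at hx
      rcases hx with rfl | rfl | rfl | rfl | rfl
      · exact h3
      · exact D.one_mem
      · exact h1
      · exact h2
      · exact D.mul_mem h1 h2
    have hdvd : Nat.card ↥D ∣ 8 := by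
      rw [← hP]; exact Subgroup.card_dvd_of_le hDP
    have h8 : Nat.card ↥D = 8 := by
      have h23 : (8 : ℕ) = 2 ^ 3 := by norm_num
      rw [h23] at hdvd
      obtain ⟨k, hk, hkc⟩ := (Nat.dvd_prime_pow Nat.prime_two).mp hdvd
      rw [hkc] at hge ⊢
      interval_cases k <;> simp_all
    exact Subgroup.eq_of_le_of_card_ge hDP (by rw [hP, h8])
  -- the injection
  have hnot : ∀ W : {W : Subgroup G // W ≤ P ∧ Nat.card ↥W = 4},
      (decide (e1 ∈ W.1), decide (e2 ∈ W.1), decide (e3 ∈ W.1)) ≠ (true, true, true) := by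
    intro W hW
    simp only [Prod.mk.injEq, decide_eq_true_eq] at hW
    have h := hbig W.1 W.2.1 hW.1 hW.2.1 hW.2.2
    have h4 := W.2.2
    rw [h, hP] at h4
    omega
  let f : {W : Subgroup G // W ≤ P ∧ Nat.card ↥W = 4} →
      {t : Bool × Bool × Bool // t ≠ (true, true, true)} :=
    fun W => ⟨(decide (e1 ∈ W.1), decide (e2 ∈ W.1), decide (e3 ∈ W.1)), hnot W⟩
  have hf : Function.Injective f := by
    intro W W' hWW
    have hWW' : (decide (e1 ∈ W.1), decide (e2 ∈ W.1), decide (e3 ∈ W.1)) =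
        (decide (e1 ∈ W'.1), decide (e2 ∈ W'.1), decide (e3 ∈ W'.1)) :=
      congrArg Subtype.val hWW
    simp only [Prod.mk.injEq, decide_eq_decide] at hWW'
    obtain ⟨h1, h2, h3⟩ := hWW'
    let D : Subgroup G :=
      { carrier := {x | x ∈ P ∧ (x ∈ W.1 ↔ x ∈ W'.1)}
        mul_mem' := by
          rintro x y ⟨hx, hxW⟩ ⟨hy, hyW⟩
          refine ⟨P.mul_mem hx hy, ?_⟩
          rw [mul_mem_iff P W.1 hP W.2.1 W.2.2 hx hy, mul_mem_iff P W'.1 hP W'.2.1 W'.2.2 hx hy,
            hxW, hyW]
        one_mem' := ⟨P.one_mem, by simp [Subgroup.one_mem]⟩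
        inv_mem' := by
          rintro x ⟨hx, hxW⟩
          exact ⟨P.inv_mem hx, by rw [inv_mem_iff, inv_mem_iff]; exact hxW⟩ }
    have hD : D = P := hbig D (fun x hx => hx.1) ⟨he1P, h1⟩ ⟨he2P, h2⟩ ⟨he3P, h3⟩
    apply Subtype.ext
    apply le_antisymm
    · intro x hx
      have hxD : x ∈ D := by rw [hD]; exact W.2.1 hx
      exact hxD.2.mp hx
    · intro x hx
      have hxD : x ∈ D := by rw [hD]; exact W'.2.1 hx
      exact hxD.2.mpr hx
  have hcard := Nat.card_le_card_of_injective f hf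
  have h7 : Nat.card {t : Bool × Bool × Bool // t ≠ (true, true, true)} = 7 := by
    rw [Nat.card_eq_fintype_card]
    decide
  rw [h7] at hcard
  exact hcard

end Cfsg.Agent.Lib.Helper38.RSW7A
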