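import Mathlib
import Cfsg.Agent.Lib.Helper42.ReeSpStmt
import Cfsg.Agent.Lib.Helper38.ReeSpRC2

set_option autoImplicit false

namespace Cfsg.Agent.Lib.Helper38.ReeSpRC1

open Polynomial Matrix Cfsg.Agent.Lib.Helper42.ReeSpStmt

universe u v

/-- matrices commuting with a matrix having seven distinct eigenvalues commute -/
theorem comm_of_distinct {L : Type v} [Field L] (N : Matrix (Fin 7) (Fin 7) L)
    (lam : Fin 7 → L) (hlam : Function.Injective lam)
    (hroot : ∀ i, N.charpoly.IsRoot (lam i))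
    (A B : Matrix (Fin 7) (Fin 7) L) (hA : A * N = N * A) (hB : B * N = N * B) :
    A * B = B * A := by
  classical
  have hev : ∀ i, ∃ v : Fin 7 → L, v ≠ 0 ∧ N *ᵥ v = lam i • v := by
    intro i
    have h1 : (Matrix.scalar (Fin 7) (lam i) - N).det = 0 := by
      rw [← Matrix.eval_charpoly]; exact hroot i
    obtain ⟨v, hv0, hv⟩ := Matrix.exists_mulVec_eq_zero_iff.2 h1
    refine ⟨v, hv0, ?_⟩
    rw [Matrix.sub_mulVec, sub_eq_zero] at hv
    rw [← hv]
    ext r
    simp [Matrix.scalar_apply, Matrix.mulVec_diagonal]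
  choose v hv0 hv using hev
  have hli : LinearIndependent L v := by
    apply Module.End.eigenvectors_linearIndependent' (Matrix.toLin' N) lam hlam v
    intro i
    exact ⟨Module.End.mem_eigenspace_iff.2 (by rw [Matrix.toLin'_apply]; exact hv i), hv0 i⟩
  have hPmul : ∀ c : Fin 7 → L,
      (Matrix.of (fun r j => v j r) : Matrix (Fin 7) (Fin 7) L) *ᵥ c = ∑ j, c j • v j := by
    intro c
    ext r
    simp [Matrix.mulVec, dotProduct, mul_comm]
  have hPunit : IsUnit (Matrix.of (fun r j => v j r) : Matrix (Fin 7) (Fin 7) L) := by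
    rw [← Matrix.mulVec_injective_iff_isUnit]
    intro c c' h
    have h1 : (Matrix.of (fun r j => v j r) : Matrix (Fin 7) (Fin 7) L) *ᵥ (c - c') = 0 := by
      rw [Matrix.mulVec_sub, h, sub_self]
    rw [hPmul] at h1
    have h2 := Fintype.linearIndependent_iff.1 hli (c - c') h1
    ext j
    exact sub_eq_zero.1 (h2 j)
  obtain ⟨Pu, hPu⟩ := hPunit
  have hNP : N * (Pu : Matrix (Fin 7) (Fin 7) L) =
      (Pu : Matrix (Fin 7) (Fin 7) L) * Matrix.diagonal lam := by
    rw [hPu]
    ext r j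
    rw [Matrix.mul_diagonal]
    have h1 := congrFun (hv j) r
    simp only [Matrix.mulVec, dotProduct, Pi.smul_apply, smul_eq_mul] at h1
    simp only [Matrix.mul_apply, Matrix.of_apply]
    rw [h1, mul_comm]
  have e : ∀ C D : Matrix (Fin 7) (Fin 7) L,
      ((Pu⁻¹ : (Matrix (Fin 7) (Fin 7) L)ˣ) : Matrix (Fin 7) (Fin 7) L) * (C * D) * Pu =
        (((Pu⁻¹ : (Matrix (Fin 7) (Fin 7) L)ˣ) : Matrix (Fin 7) (Fin 7) L) * C * Pu) *
          (((Pu⁻¹ : (Matrix (Fin 7) (Fin 7) L)ˣ) : Matrix (Fin 7) (Fin 7) L) * D * Pu) := by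
    intro C D
    simp only [mul_assoc]
    rw [Units.mul_inv_cancel_left]
  have hD : ((Pu⁻¹ : (Matrix (Fin 7) (Fin 7) L)ˣ) : Matrix (Fin 7) (Fin 7) L) * N * Pu =
      Matrix.diagonal lam := by
    rw [mul_assoc, hNP, Units.inv_mul_cancel_left]
  have hdiag : ∀ C : Matrix (Fin 7) (Fin 7) L, C * N = N * C → ∀ i j, i ≠ j →
      (((Pu⁻¹ : (Matrix (Fin 7) (Fin 7) L)ˣ) : Matrix (Fin 7) (Fin 7) L) * C * Pu) i j = 0 := by
    intro C hC i j hij
    have hXD : (((Pu⁻¹ : (Matrix (Fin 7) (Fin 7) L)ˣ) : Matrix (Fin 7) (Fin 7) L) * C * Pu) *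
        Matrix.diagonal lam = Matrix.diagonal lam *
        (((Pu⁻¹ : (Matrix (Fin 7) (Fin 7) L)ˣ) : Matrix (Fin 7) (Fin 7) L) * C * Pu) := by
      rw [← hD, ← e, ← e, hC]
    have h3 := congrFun (congrFun hXD i) j
    rw [Matrix.mul_diagonal, Matrix.diagonal_mul] at h3
    have h4 : (((Pu⁻¹ : (Matrix (Fin 7) (Fin 7) L)ˣ) : Matrix (Fin 7) (Fin 7) L) * C * Pu) i j *
        (lam j - lam i) = 0 := by linear_combination h3
    rcases mul_eq_zero.1 h4 with h | h
    · exact h
    · exact absurd (hlam (sub_eq_zero.1 h)).symm hij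
  have hcomm : (((Pu⁻¹ : (Matrix (Fin 7) (Fin 7) L)ˣ) : Matrix (Fin 7) (Fin 7) L) * A * Pu) *
      (((Pu⁻¹ : (Matrix (Fin 7) (Fin 7) L)ˣ) : Matrix (Fin 7) (Fin 7) L) * B * Pu) =
      (((Pu⁻¹ : (Matrix (Fin 7) (Fin 7) L)ˣ) : Matrix (Fin 7) (Fin 7) L) * B * Pu) *
      (((Pu⁻¹ : (Matrix (Fin 7) (Fin 7) L)ˣ) : Matrix (Fin 7) (Fin 7) L) * A * Pu) := by
    ext i j
    rw [Matrix.mul_apply, Matrix.mul_apply]
    by_cases hij : i = j
    · subst hij
      rw [Finset.sum_eq_single i, Finset.sum_eq_single i]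
      · exact mul_comm _ _
      · intro k _ hk; rw [hdiag B hB i k (Ne.symm hk), zero_mul]
      · intro h; exact absurd (Finset.mem_univ i) h
      · intro k _ hk; rw [hdiag A hA i k (Ne.symm hk), zero_mul]
      · intro h; exact absurd (Finset.mem_univ i) h
    · rw [Finset.sum_eq_zero, Finset.sum_eq_zero]
      · intro k _
        by_cases hk : i = k
        · subst hk; rw [hdiag A hA i j hij, mul_zero]
        · rw [hdiag B hB i k hk, zero_mul]
      · intro k _
        by_cases hk : i = k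
        · subst hk; rw [hdiag B hB i j hij, mul_zero]
        · rw [hdiag A hA i k hk, zero_mul]
  have h1 : ((Pu⁻¹ : (Matrix (Fin 7) (Fin 7) L)ˣ) : Matrix (Fin 7) (Fin 7) L) * (A * B) * Pu =
      ((Pu⁻¹ : (Matrix (Fin 7) (Fin 7) L)ˣ) : Matrix (Fin 7) (Fin 7) L) * (B * A) * Pu := by
    rw [e, e, hcomm]
  exact (Units.mul_right_inj Pu⁻¹).1 ((Units.mul_left_inj Pu).1 h1)

/-- a nontrivial `p`-th root of unity whose Frobenius conjugates are eigenvalues -/
theorem exists_zeta (K : Type v) [Field K] [Fintype K] (p q : ℕ) [Fact p.Prime]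
    (hq : Fintype.card K = q) (hpK : (p : K) ≠ 0)
    (M : Matrix (Fin 7) (Fin 7) K) (hM : M ^ p = 1) (hM1 : M ≠ 1) :
    ∃ ζ : AlgebraicClosure K, ζ ≠ 1 ∧ ζ ^ p = 1 ∧
      ∀ i : ℕ, (M.map (algebraMap K (AlgebraicClosure K))).charpoly.IsRoot (ζ ^ (q ^ i)) := by
  classical
  have hμdvd : minpoly K M ∣ X ^ p - 1 := minpoly.dvd K M (by simp [hM])
  have hfrob : ∀ ξ : AlgebraicClosure K, aeval ξ (minpoly K M) = 0 →
      aeval (ξ ^ q) (minpoly K M) = 0 := by
    intro ξ h
    have h1 := Polynomial.aeval_algHom_apply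
      (FiniteField.frobeniusAlgHom K (AlgebraicClosure K)) ξ (minpoly K M)
    rw [h, map_zero] at h1
    have h2 : FiniteField.frobeniusAlgHom K (AlgebraicClosure K) ξ = ξ ^ q := by
      change ξ ^ Fintype.card K = ξ ^ q; rw [hq]
    rwa [h2] at h1
  have hpL : (p : AlgebraicClosure K) ≠ 0 := by
    have h1 : (p : AlgebraicClosure K) = algebraMap K (AlgebraicClosure K) (p : K) :=
      (map_natCast (algebraMap K (AlgebraicClosure K)) p).symm
    rw [h1]
    exact (map_ne_zero (algebraMap K (AlgebraicClosure K))).2 hpK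
  have hex : ∃ ζ : AlgebraicClosure K, aeval ζ (minpoly K M) = 0 ∧ ζ ≠ 1 := by
    by_contra hcon
    push Not at hcon
    have hΨ : (∑ i ∈ Finset.range p, (X : K[X]) ^ i) * (X - 1) = X ^ p - 1 := geom_sum_mul X p
    have hcop : IsCoprime (minpoly K M) (∑ i ∈ Finset.range p, (X : K[X]) ^ i) := by
      apply (Polynomial.isCoprime_iff_aeval_ne_zero_of_isAlgClosed K (AlgebraicClosure K) _ _).2
      intro a
      by_cases ha : aeval a (minpoly K M) = 0
      · right
        rw [hcon a ha]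
        simpa using hpL
      · left; exact ha
    have h1 : minpoly K M ∣ X - 1 := by
      rw [← hΨ] at hμdvd
      exact hcop.dvd_of_dvd_mul_left hμdvd
    have h2 : aeval M (X - 1 : K[X]) = 0 := by
      obtain ⟨g, hg⟩ := h1
      rw [hg, map_mul, minpoly.aeval, zero_mul]
    rw [map_sub, Polynomial.aeval_X, map_one] at h2
    exact hM1 (sub_eq_zero.1 h2)
  obtain ⟨ζ, hζ, hζ1⟩ := hex
  have hζp : ζ ^ p = 1 := by
    obtain ⟨g, hg⟩ := hμdvd
    have h1 : aeval ζ (X ^ p - 1 : K[X]) = 0 := by rw [hg, map_mul, hζ, zero_mul]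
    rw [map_sub, map_pow, Polynomial.aeval_X, map_one] at h1
    exact sub_eq_zero.1 h1
  refine ⟨ζ, hζ1, hζp, fun i => ?_⟩
  have h1 : aeval (ζ ^ (q ^ i)) (minpoly K M) = 0 := by
    induction i with
    | zero => simpa using hζ
    | succ i ih => rw [pow_succ, pow_mul]; exact hfrob _ ih
  rw [Matrix.charpoly_map, Polynomial.IsRoot, Polynomial.eval_map, ← Polynomial.aeval_def]
  obtain ⟨g, hg⟩ := Matrix.minpoly_dvd_charpoly M
  rw [hg, map_mul, h1, zero_mul]

/-- the characteristic polynomial has seven distinct roots in the algebraic closure -/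
theorem seven_roots (K : Type v) [Field K] [Fintype K] (p q : ℕ) [Fact p.Prime]
    (hq : Fintype.card K = q) (hpK : (p : K) ≠ 0) (ht : orderOf ((q : ℕ) : ZMod p) = 6)
    (M : Matrix (Fin 7) (Fin 7) K) (hM : M ^ p = 1) (hM1 : M ≠ 1) :
    ∃ lam : Fin 7 → AlgebraicClosure K, Function.Injective lam ∧
      ∀ i, (M.map (algebraMap K (AlgebraicClosure K))).charpoly.IsRoot (lam i) := by
  classical
  have hp : p.Prime := Fact.out
  obtain ⟨ζ, hζ1, hζp, hζroot⟩ := exists_zeta K p q hq hpK M hM hM1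
  have hfin : IsOfFinOrder ζ := isOfFinOrder_iff_pow_eq_one.2 ⟨p, hp.pos, hζp⟩
  have hordζ : orderOf ζ = p := orderOf_eq_prime hζp hζ1
  have hζiff : ∀ a b : ℕ, ζ ^ a = ζ ^ b ↔ ((a : ℕ) : ZMod p) = ((b : ℕ) : ZMod p) := by
    intro a b
    rw [hfin.pow_eq_pow_iff_modEq, hordζ, ZMod.natCast_eq_natCast_iff]
  have ht6 : ((q : ℕ) : ZMod p) ^ 6 = 1 := by rw [← ht]; exact pow_orderOf_eq_one _
  have ht0 : ((q : ℕ) : ZMod p) ≠ 0 := by
    intro h0
    rw [h0] at ht6
    norm_num at ht6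
  obtain ⟨χ, hχ⟩ : ∃ χ : (AlgebraicClosure K)[X],
      χ = (M.map (algebraMap K (AlgebraicClosure K))).charpoly := ⟨_, rfl⟩
  rw [← hχ] at hζroot
  have hχmon : χ.Monic := by rw [hχ]; exact Matrix.charpoly_monic _
  have hχdeg : χ.natDegree = 7 := by
    rw [hχ, Matrix.charpoly_natDegree_eq_dim, Fintype.card_fin]
  have hχ' : χ = M.charpoly.map (algebraMap K (AlgebraicClosure K)) := by
    rw [hχ, Matrix.charpoly_map]
  have hcardR : Multiset.card χ.roots = χ.natDegree :=
    Polynomial.splits_iff_card_roots.1 (IsAlgClosed.splits χ)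
  -- the Frobenius orbit
  let e : Fin 6 → AlgebraicClosure K := fun i => ζ ^ (q ^ (i : ℕ))
  have hinj : Function.Injective e := by
    intro i i' h
    have h1 : ((q : ℕ) : ZMod p) ^ (i : ℕ) = ((q : ℕ) : ZMod p) ^ (i' : ℕ) := by
      have h2 := (hζiff _ _).1 h
      push_cast at h2; exact h2
    have h3 : (i : ℕ) ∈ Set.Iio (orderOf ((q : ℕ) : ZMod p)) := by rw [ht]; exact i.2
    have h4 : (i' : ℕ) ∈ Set.Iio (orderOf ((q : ℕ) : ZMod p)) := by rw [ht]; exact i'.2
    exact Fin.ext (pow_injOn_Iio_orderOf h3 h4 h1)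
  have hOcard : (Finset.univ.image e).card = 6 := by
    rw [Finset.card_image_of_injective _ hinj, Finset.card_univ, Fintype.card_fin]
  have hOle : (Finset.univ.image e).val ≤ χ.roots := by
    rw [Multiset.le_iff_subset (Finset.univ.image e).nodup]
    intro y hy
    obtain ⟨i, -, rfl⟩ := Finset.mem_image.1 (Finset.mem_def.2 hy)
    exact (Polynomial.mem_roots hχmon.ne_zero).2 (hζroot i)
  obtain ⟨u, hu⟩ := Multiset.le_iff_exists_add.1 hOle
  have hucard : Multiset.card u = 1 := by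
    have h1 := congrArg Multiset.card hu
    rw [Multiset.card_add, hcardR, hχdeg] at h1
    have h2 : Multiset.card (Finset.univ.image e).val = 6 := hOcard
    omega
  obtain ⟨η, rfl⟩ := Multiset.card_eq_one.1 hucard
  -- Frobenius stability
  have hφinj : Function.Injective
      (FiniteField.frobeniusAlgHom K (AlgebraicClosure K) : AlgebraicClosure K → AlgebraicClosure K) :=
    (FiniteField.frobeniusAlgHom K (AlgebraicClosure K)).toRingHom.injective
  have hφ : ∀ x : AlgebraicClosure K,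
      FiniteField.frobeniusAlgHom K (AlgebraicClosure K) x = x ^ q := by
    intro x
    change x ^ Fintype.card K = x ^ q
    rw [hq]
  have hχφ : χ.map ((FiniteField.frobeniusAlgHom K (AlgebraicClosure K)) :
      AlgebraicClosure K →+* AlgebraicClosure K) = χ := by
    rw [hχ', Polynomial.map_map, AlgHom.comp_algebraMap]
  have hRφ : χ.roots.map (FiniteField.frobeniusAlgHom K (AlgebraicClosure K)) = χ.roots := by
    have h2 := Polynomial.roots_map_of_injective_of_card_eq_natDegree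
      (f := ((FiniteField.frobeniusAlgHom K (AlgebraicClosure K)) :
        AlgebraicClosure K →+* AlgebraicClosure K)) hφinj hcardR
    rw [hχφ] at h2
    exact h2
  have himg : (Finset.univ.image e).image
      (FiniteField.frobeniusAlgHom K (AlgebraicClosure K)) = Finset.univ.image e := by
    apply Finset.eq_of_subset_of_card_le
    · intro y hy
      obtain ⟨z, hz, rfl⟩ := Finset.mem_image.1 hy
      obtain ⟨i, -, rfl⟩ := Finset.mem_image.1 hz
      rw [Finset.mem_image]
      refine ⟨⟨((i : ℕ) + 1) % 6, Nat.mod_lt _ (by norm_num)⟩, Finset.mem_univ _, ?_⟩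
      rw [hφ]
      change ζ ^ (q ^ (((i : ℕ) + 1) % 6)) = (ζ ^ (q ^ (i : ℕ))) ^ q
      rw [← pow_mul, ← pow_succ, hζiff]
      push_cast
      have h6 := pow_mod_orderOf ((q : ℕ) : ZMod p) ((i : ℕ) + 1)
      rw [ht] at h6
      exact h6
    · rw [Finset.card_image_of_injective _ hφinj]
  have hOφ : (Finset.univ.image e).val.map (FiniteField.frobeniusAlgHom K (AlgebraicClosure K)) =
      (Finset.univ.image e).val := by
    rw [← Finset.image_val_of_injOn hφinj.injOn, himg]
  have hη : η ^ q = η := by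
    have h1 := hRφ
    rw [hu, Multiset.map_add, hOφ, Multiset.map_singleton] at h1
    have h2 := add_left_cancel h1
    rw [Multiset.singleton_inj, hφ] at h2
    exact h2
  have hηO : η ∉ (Finset.univ.image e).val := by
    intro hmem
    obtain ⟨i, -, rfl⟩ := Finset.mem_image.1 (Finset.mem_def.2 hmem)
    have h1 : ζ ^ (q ^ ((i : ℕ) + 1)) = ζ ^ (q ^ (i : ℕ)) := by
      rw [pow_succ, pow_mul]; exact hη
    rw [hζiff] at h1
    push_cast at h1
    have h2 : ((q : ℕ) : ZMod p) = 1 := by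
      have h3 : ((q : ℕ) : ZMod p) ^ (i : ℕ) * ((q : ℕ) : ZMod p) =
          ((q : ℕ) : ZMod p) ^ (i : ℕ) * 1 := by rw [mul_one, ← pow_succ]; exact h1
      exact mul_left_cancel₀ (pow_ne_zero _ ht0) h3
    rw [h2, orderOf_one] at ht
    norm_num at ht
  have hnodup : χ.roots.Nodup := by
    rw [hu, Multiset.nodup_add]
    exact ⟨(Finset.univ.image e).nodup, Multiset.nodup_singleton η,
      Multiset.disjoint_singleton.2 hηO⟩
  have hScard : χ.roots.toFinset.card = 7 := by
    rw [Multiset.toFinset_card_of_nodup hnodup, hcardR, hχdeg]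
  let eqv := χ.roots.toFinset.equivFinOfCardEq hScard
  refine ⟨fun i => ((eqv.symm i : χ.roots.toFinset) : AlgebraicClosure K),
    Subtype.val_injective.comp eqv.symm.injective, fun i => ?_⟩
  rw [← hχ]
  exact Polynomial.isRoot_of_mem_roots (Multiset.mem_toFinset.1 (eqv.symm i).2)

theorem main : RC1.{u, v} := by
  intro G _ _ K _ _ m hcard ⟨ρ, hρ⟩ x p hp hp3 hord hdvd a b ha hb
  classical
  have : Fact p.Prime := ⟨hp⟩
  have h3K : (3 : K) = 0 := by
    have h1 : ((Fintype.card K : ℕ) : K) = 0 := Nat.cast_card_eq_zero K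
    rw [hcard] at h1
    have h2 : (3 : K) ^ (2 * m + 1) = 0 := by
      have h3 : ((qq m : ℕ) : K) = (3 : K) ^ (2 * m + 1) := by
        simp [qq]
      rw [← h3]; exact h1
    exact (pow_eq_zero_iff (by omega)).1 h2
  have hpK : (p : K) ≠ 0 := by
    intro hp0
    have h1 : ((p % 3 : ℕ) : K) = 0 := by
      have h := Nat.div_add_mod p 3
      have h' : ((3 * (p / 3) + p % 3 : ℕ) : K) = 0 := by rw [h]; exact hp0
      push_cast at h'
      rw [h3K, zero_mul, zero_add] at h'
      exact h'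
    have h2 : p % 3 = 0 ∨ p % 3 = 1 ∨ p % 3 = 2 := by omega
    rcases h2 with h | h | h
    · exact hp3
        ((Nat.prime_dvd_prime_iff_eq Nat.prime_three hp).1 (Nat.dvd_of_mod_eq_zero h)).symm
    · rw [h] at h1
      simp at h1
    · rw [h] at h1
      have h4 : (1 : K) = 0 := by
        have h5 : (1 : K) = 3 - 2 := by norm_num
        have h6 : (2 : K) = 0 := by exact_mod_cast h1
        rw [h5, h3K, h6, sub_zero]
      exact one_ne_zero h4
  have ht := Cfsg.Agent.Lib.Helper38.ReeSpRC2.order_six m p hp3 hdvd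
  have hM : ((ρ x : GL (Fin 7) K) : Matrix (Fin 7) (Fin 7) K) ^ p = 1 := by
    have h1 : (ρ x) ^ p = 1 := by rw [← map_pow, ← hord, pow_orderOf_eq_one, map_one]
    have h2 := congrArg (fun g : GL (Fin 7) K => (g : Matrix (Fin 7) (Fin 7) K)) h1
    simpa using h2
  have hx1 : x ≠ 1 := by
    rintro rfl
    rw [orderOf_one] at hord
    exact hp.one_lt.ne hord
  have hM1 : ((ρ x : GL (Fin 7) K) : Matrix (Fin 7) (Fin 7) K) ≠ 1 := by
    intro h
    apply hx1
    apply hρ
    rw [map_one]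
    exact Units.ext h
  obtain ⟨lam, hlam, hroot⟩ := seven_roots K p (qq m) hcard hpK ht _ hM hM1
  have hmap : ∀ c : G, c * x = x * c →
      ((ρ c : GL (Fin 7) K) : Matrix (Fin 7) (Fin 7) K).map (algebraMap K (AlgebraicClosure K)) *
        ((ρ x : GL (Fin 7) K) : Matrix (Fin 7) (Fin 7) K).map (algebraMap K (AlgebraicClosure K)) =
      ((ρ x : GL (Fin 7) K) : Matrix (Fin 7) (Fin 7) K).map (algebraMap K (AlgebraicClosure K)) *
        ((ρ c : GL (Fin 7) K) : Matrix (Fin 7) (Fin 7) K).map (algebraMap K (AlgebraicClosure K)) := by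
    intro c hc
    have h1 : ρ c * ρ x = ρ x * ρ c := by rw [← map_mul, ← map_mul, hc]
    have h2 := congrArg (fun g : GL (Fin 7) K => (g : Matrix (Fin 7) (Fin 7) K)) h1
    simp only [Units.val_mul] at h2
    rw [← Matrix.map_mul, ← Matrix.map_mul, h2]
  have h1 := comm_of_distinct _ lam hlam hroot _ _ (hmap a ha) (hmap b hb)
  rw [← Matrix.map_mul, ← Matrix.map_mul] at h1
  have h2 := Matrix.map_injective (algebraMap K (AlgebraicClosure K)).injective h1
  apply hρ
  rw [map_mul, map_mul]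
  exact Units.ext h2

end Cfsg.Agent.Lib.Helper38.ReeSpRC1
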