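import Mathlib
import Cfsg.Agent.Lib.Helper54.S57Stmt
import Cfsg.Agent.Lib.Helper65.NilCoprime
import Cfsg.Agent.Lib.Helper71.Fitting
import Cfsg.Agent.Lib.Helper76.PSolv

set_option autoImplicit false

/-!
# S1357 / OEX, light part (helper38)

`core`: if `q ∤ |M : O_q(M) ⊓ M_σ|` then every `q`-element of `M_σ` lies in `O_q(M) ≤ F(M)`, so it
commutes with the elements of `F(M)` of order prime to `q`.

`main_of`: `OEx` from `GlueA`, `GlueB`, `SylNormal` and the third clause of S1431 (as a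
hypothesis, so that this file needs none of the heavy closures).
-/

namespace Cfsg.Agent.Lib.Helper38.S57OEXCore

open Cfsg Cfsg.Agent.Lib.Helper93.S64Stmt Cfsg.Agent.Lib.Helper22.S56Stmt
  Cfsg.Agent.Lib.Helper54.S57Stmt

universe u

theorem core {G : Type u} [Group G] [Finite G] (M : Subgroup G) (q : ℕ) [hq : Fact q.Prime]
    (hidx : ¬ q ∣ (Oq ↥M (Cfsg.piCore (Cfsg.sigma M) ↥M) q).index)
    (S : Sylow q ↥(Cfsg.sigmaCore M)) (y : G) (hy : y ∈ Cfsg.fittingOf M)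
    (hcop : (orderOf y).Coprime q) (o : G)
    (ho : o ∈ (S : Subgroup ↥(Cfsg.sigmaCore M)).map (Cfsg.sigmaCore M).subtype) :
    y * o = o * y := by
  obtain ⟨s, hs, rfl⟩ := ho
  obtain ⟨k, hk⟩ := S.isPGroup' ⟨s, hs⟩
  have hsk : ((s : G)) ^ q ^ k = 1 := by
    have := congrArg
      (fun z : ↥(S : Subgroup ↥(Cfsg.sigmaCore M)) => ((z : ↥(Cfsg.sigmaCore M)) : G)) hk
    simpa using this
  have hsM : (s : G) ∈ M := by
    have h1 : Cfsg.sigmaCore M ≤ M := by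
      unfold Cfsg.sigmaCore; exact Subgroup.map_subtype_le _
    exact h1 s.2
  have ho'k : (⟨(s : G), hsM⟩ : ↥M) ^ q ^ k = 1 := by
    apply Subtype.ext
    simp only [Subgroup.coe_pow, Subgroup.coe_one]
    exact hsk
  have ho'O : (⟨(s : G), hsM⟩ : ↥M) ∈ Oq ↥M (Cfsg.piCore (Cfsg.sigma M) ↥M) q := by
    have h1 : ((⟨(s : G), hsM⟩ : ↥M) : ↥M ⧸ Oq ↥M (Cfsg.piCore (Cfsg.sigma M) ↥M) q) ^ q ^ k
        = 1 := by
      rw [← QuotientGroup.mk_pow, ho'k]; rfl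
    have hord1 := orderOf_dvd_of_pow_eq_one h1
    have hord2 : orderOf ((⟨(s : G), hsM⟩ : ↥M) : ↥M ⧸ Oq ↥M (Cfsg.piCore (Cfsg.sigma M) ↥M) q)
        ∣ (Oq ↥M (Cfsg.piCore (Cfsg.sigma M) ↥M) q).index := by
      rw [Subgroup.index_eq_card]
      exact orderOf_dvd_natCard _
    have hc : (q ^ k).Coprime (Oq ↥M (Cfsg.piCore (Cfsg.sigma M) ↥M) q).index :=
      Nat.Coprime.pow_left k ((Nat.Prime.coprime_iff_not_dvd hq.out).mpr hidx)
    have h1' : orderOf ((⟨(s : G), hsM⟩ : ↥M) : ↥M ⧸ Oq ↥M (Cfsg.piCore (Cfsg.sigma M) ↥M) q)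
        = 1 := Nat.eq_one_of_dvd_coprimes hc hord1 hord2
    exact (QuotientGroup.eq_one_iff _).mp (orderOf_eq_one_iff.mp h1')
  have ho'p : (⟨(s : G), hsM⟩ : ↥M) ∈ Cfsg.pCore q ↥M := ho'O.1
  have hpF : Cfsg.pCore q ↥M ≤ Cfsg.fittingSubgroup ↥M := by
    unfold Cfsg.fittingSubgroup
    apply le_sSup
    exact ⟨inferInstance, (Cfsg.Agent.Lib.Helper76.PSolv.pCore_isPGroup q).isNilpotent⟩
  obtain ⟨y', hy', rfl⟩ := hy
  have hnil : Group.IsNilpotent ↥(Cfsg.fittingSubgroup ↥M) :=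
    Cfsg.Agent.Lib.Helper71.Fitting.fitting_isNilpotent ↥M
  have hco : (orderOf (⟨y', hy'⟩ : ↥(Cfsg.fittingSubgroup ↥M))).Coprime
      (orderOf (⟨⟨(s : G), hsM⟩, hpF ho'p⟩ : ↥(Cfsg.fittingSubgroup ↥M))) := by
    have h1 : orderOf (⟨(s : G), hsM⟩ : ↥M) ∣ q ^ k := orderOf_dvd_of_pow_eq_one ho'k
    have e1 : orderOf (⟨y', hy'⟩ : ↥(Cfsg.fittingSubgroup ↥M)) = orderOf (M.subtype y') :=
      (Subgroup.orderOf_mk y' hy').trans (Subgroup.orderOf_coe y').symm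
    have e2 : orderOf (⟨⟨(s : G), hsM⟩, hpF ho'p⟩ : ↥(Cfsg.fittingSubgroup ↥M)) =
        orderOf (⟨(s : G), hsM⟩ : ↥M) := Subgroup.orderOf_mk _ _
    rw [e1, e2]
    exact Nat.Coprime.coprime_dvd_right h1 (Nat.Coprime.pow_right k hcop)
  have hcomm := Cfsg.Agent.Lib.Helper65.NilCoprime.commute_of_coprime
    ↥(Cfsg.fittingSubgroup ↥M) ⟨y', hy'⟩ ⟨⟨(s : G), hsM⟩, hpF ho'p⟩
    (isOfFinOrder_of_finite _) (isOfFinOrder_of_finite _) hco
  have := congrArg (fun z : ↥(Cfsg.fittingSubgroup ↥M) => ((z : ↥M) : G)) hcomm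
  simpa using this

/-- `OEx` from the landed pieces, with the needed clause of S1431 as a hypothesis. -/
theorem main_of (hGA : GlueA.{u}) (hGB : GlueB.{u}) (hSN : SylNormal.{u})
    (h31 : ∀ {G : Type u} [Group G] [Finite G], Cfsg.IsMinSimpleOddOrder G →
      ∀ (M : Subgroup G), IsCoatom M → ∀ (K : Subgroup G),
      Cfsg.IsPiHallOf (Cfsg.kappa M) K M → K ≠ ⊥ →
      ∀ (p : ℕ), p.Prime →
        p ∣ Nat.card ↥(Cfsg.sigmaCore M ⊓ Subgroup.centralizer (K : Set G)) →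
        ∀ S : Sylow p ↥(Cfsg.sigmaCore M),
          Cfsg.InUniqueMaximal
            ((S : Subgroup ↥(Cfsg.sigmaCore M)).map (Cfsg.sigmaCore M).subtype) ∧
          (S : Subgroup ↥(Cfsg.sigmaCore M)).map (Cfsg.sigmaCore M).subtype ≤ M) :
    OEx.{u} := by
  intro G _ _ hG M K U hM hKU hK1 hU
  have hA := hGA hG M K U hM hKU hK1 hU
  have hB := hGB hG M K U hM hKU hK1 hU
  have hS := hSN (Cfsg.piCore (Cfsg.sigma M) ↥M) (K.subgroupOf M) _ hA hB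
  have hq : (Nat.card ↥(Cfsg.sigmaCore M ⊓ Subgroup.centralizer (K : Set G))).Prime := hB.qprime
  haveI : Fact (Nat.card ↥(Cfsg.sigmaCore M ⊓ Subgroup.centralizer (K : Set G))).Prime := ⟨hq⟩
  obtain ⟨S⟩ : Nonempty (Sylow (Nat.card ↥(Cfsg.sigmaCore M ⊓ Subgroup.centralizer (K : Set G)))
      ↥(Cfsg.sigmaCore M)) := inferInstance
  have h := h31 hG M hM K hKU.hall hK1 _ hq (dvd_refl _) S
  exact ⟨_, h.2, h.1, fun y hy hc o ho => core M _ hS.1 S y hy hc o ho⟩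

end Cfsg.Agent.Lib.Helper38.S57OEXCore
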