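import Mathlib
import Cfsg.Agent.Lib.Helper45.S8Stmt
import Cfsg.Agent.Lib.Helper76.S8Glue

set_option autoImplicit false

/-! Piece [BLOCKMM] of S3589: in characteristic 2, `N ⊥ N ≅ H²`. -/

namespace Cfsg.Agent.Lib.Helper38.S8BLOCKMM

open Cfsg.Agent.Lib.Helper45.S8Stmt Cfsg.Agent.Lib.Helper76.S8Glue

universe u

variable {F : Type u} [Field F]

/-- forward map `(z, w) ↦ (x₁, x₂; y₁, y₂)` -/
def fwd (a b : F) (p : ((Fin 0 ⊕ Fin 0) ⊕ Fin 2 → F) × ((Fin 0 ⊕ Fin 0) ⊕ Fin 2 → F)) :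
    Fin 2 ⊕ Fin 2 → F :=
  Sum.elim
    ![p.1 (Sum.inr 0) + p.2 (Sum.inr 0), p.1 (Sum.inr 1) + p.2 (Sum.inr 1)]
    ![p.1 (Sum.inr 0) + p.2 (Sum.inr 0) + a * p.1 (Sum.inr 1),
      b * p.1 (Sum.inr 1) + b * p.2 (Sum.inr 1) + a * p.2 (Sum.inr 0)]

/-- backward map -/
def bwd (a b : F) (v : Fin 2 ⊕ Fin 2 → F) :
    ((Fin 0 ⊕ Fin 0) ⊕ Fin 2 → F) × ((Fin 0 ⊕ Fin 0) ⊕ Fin 2 → F) :=
  (Sum.elim (Sum.elim Fin.elim0 Fin.elim0)
      ![v (Sum.inl 0) - (v (Sum.inr 1) - b * v (Sum.inl 1)) / a,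
        (v (Sum.inr 0) - v (Sum.inl 0)) / a],
   Sum.elim (Sum.elim Fin.elim0 Fin.elim0)
      ![(v (Sum.inr 1) - b * v (Sum.inl 1)) / a,
        v (Sum.inl 1) - (v (Sum.inr 0) - v (Sum.inl 0)) / a])

/-- the linear equivalence -/
def T (a b : F) (ha : a ≠ 0) :
    (((Fin 0 ⊕ Fin 0) ⊕ Fin 2 → F) × ((Fin 0 ⊕ Fin 0) ⊕ Fin 2 → F)) ≃ₗ[F]
      (Fin 2 ⊕ Fin 2 → F) where
  toFun := fwd a b
  map_add' := by
    intro p q
    funext j
    rcases j with j | j <;> fin_cases j <;> simp [fwd] <;> ring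
  map_smul' := by
    intro c p
    funext j
    rcases j with j | j <;> fin_cases j <;> simp [fwd] <;> ring
  invFun := bwd a b
  left_inv := by
    intro p
    apply Prod.ext
    · funext j
      rcases j with (i | i) | j
      · exact i.elim0
      · exact i.elim0
      · fin_cases j <;> simp [fwd, bwd] <;> field_simp <;> ring
    · funext j
      rcases j with (i | i) | j
      · exact i.elim0
      · exact i.elim0
      · fin_cases j <;> simp [fwd, bwd] <;> field_simp <;> ring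
  right_inv := by
    intro v
    funext j
    rcases j with j | j <;> fin_cases j <;> simp [fwd, bwd] <;> field_simp <;> ring

theorem T_form [CharP F 2] (a b : F) (ha : a ≠ 0)
    (z w : (Fin 0 ⊕ Fin 0) ⊕ Fin 2 → F) :
    Cfsg.quadFormPlus 2 F (T a b ha (z, w)) =
      Cfsg.quadFormMinus 0 F a b z + Cfsg.quadFormMinus 0 F a b w := by
  have h2 : (2 : F) = 0 := CharTwo.two_eq_zero
  show Cfsg.quadFormPlus 2 F (fwd a b (z, w)) = _
  unfold Cfsg.quadFormMinus Cfsg.quadFormPlus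
  simp only [fwd, Fin.sum_univ_two, Finset.univ_eq_empty, Finset.sum_empty, Sum.elim_inl,
    Sum.elim_inr, Matrix.cons_val_zero, Matrix.cons_val_one, zero_add]
  linear_combination (z (Sum.inr 0) * w (Sum.inr 0) + a * w (Sum.inr 0) * z (Sum.inr 1) +
    b * z (Sum.inr 1) * w (Sum.inr 1)) * h2

theorem main : BlockMM.{u} := by
  intro F _ _ a b ha N₁ N₂ h₁ h₂
  exact glue (Cfsg.quadFormMinus 0 F a b) (Cfsg.quadFormMinus 0 F a b)
    (Cfsg.quadFormPlus 2 F) (T a b ha) (T_form a b ha) N₁ N₂ h₁ h₂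

end Cfsg.Agent.Lib.Helper38.S8BLOCKMM
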