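import Mathlib
import Cfsg.Agent.Lib.Helper45.S8Stmt
import Cfsg.Agent.Lib.Helper76.S8Glue

set_option autoImplicit false

/-! Piece [BLOCKPM] of S3589: block sum `H^k ⊥ (H^m ⊥ N) = H^(k+m) ⊥ N`. -/

namespace Cfsg.Agent.Lib.Helper38.S8BLOCKPM

open Cfsg.Agent.Lib.Helper45.S8Stmt Cfsg.Agent.Lib.Helper76.S8Glue

universe u

variable {F : Type u} [Field F] {k m : ℕ}

/-- forward map -/
def fwd (p : (Fin k ⊕ Fin k → F) × ((Fin m ⊕ Fin m) ⊕ Fin 2 → F)) :
    (Fin (k + m) ⊕ Fin (k + m)) ⊕ Fin 2 → F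
  | Sum.inl (Sum.inl i) =>
      Fin.addCases (fun i' => p.1 (Sum.inl i')) (fun i' => p.2 (Sum.inl (Sum.inl i'))) i
  | Sum.inl (Sum.inr i) =>
      Fin.addCases (fun i' => p.1 (Sum.inr i')) (fun i' => p.2 (Sum.inl (Sum.inr i'))) i
  | Sum.inr j => p.2 (Sum.inr j)

/-- backward map, first component -/
def bwd1 (v : (Fin (k + m) ⊕ Fin (k + m)) ⊕ Fin 2 → F) : Fin k ⊕ Fin k → F
  | Sum.inl i => v (Sum.inl (Sum.inl (Fin.castAdd m i)))
  | Sum.inr i => v (Sum.inl (Sum.inr (Fin.castAdd m i)))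

/-- backward map, second component -/
def bwd2 (v : (Fin (k + m) ⊕ Fin (k + m)) ⊕ Fin 2 → F) : (Fin m ⊕ Fin m) ⊕ Fin 2 → F
  | Sum.inl (Sum.inl i) => v (Sum.inl (Sum.inl (Fin.natAdd k i)))
  | Sum.inl (Sum.inr i) => v (Sum.inl (Sum.inr (Fin.natAdd k i)))
  | Sum.inr j => v (Sum.inr j)

/-- the linear equivalence -/
def T : ((Fin k ⊕ Fin k → F) × ((Fin m ⊕ Fin m) ⊕ Fin 2 → F)) ≃ₗ[F]
    ((Fin (k + m) ⊕ Fin (k + m)) ⊕ Fin 2 → F) where
  toFun := fwd
  map_add' := by
    intro p q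
    funext j
    rcases j with (i | i) | j
    · induction i using Fin.addCases <;> simp [fwd]
    · induction i using Fin.addCases <;> simp [fwd]
    · simp [fwd]
  map_smul' := by
    intro c p
    funext j
    rcases j with (i | i) | j
    · induction i using Fin.addCases <;> simp [fwd]
    · induction i using Fin.addCases <;> simp [fwd]
    · simp [fwd]
  invFun := fun v => (bwd1 v, bwd2 v)
  left_inv := by
    intro p
    apply Prod.ext
    · funext x
      rcases x with i | i <;> simp [bwd1, fwd]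
    · funext y
      rcases y with (i | i) | j <;> simp [bwd2, fwd]
  right_inv := by
    intro v
    funext j
    rcases j with (i | i) | j
    · induction i using Fin.addCases <;> simp [fwd, bwd1, bwd2]
    · induction i using Fin.addCases <;> simp [fwd, bwd1, bwd2]
    · simp [fwd, bwd2]

theorem T_form (a b : F) (u : Fin k ⊕ Fin k → F) (w : (Fin m ⊕ Fin m) ⊕ Fin 2 → F) :
    Cfsg.quadFormMinus (k + m) F a b (T (u, w)) =
      Cfsg.quadFormPlus k F u + Cfsg.quadFormMinus m F a b w := by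
  show Cfsg.quadFormMinus (k + m) F a b (fwd (u, w)) = _
  unfold Cfsg.quadFormMinus Cfsg.quadFormPlus
  rw [Fin.sum_univ_add]
  simp only [fwd, Fin.addCases_left, Fin.addCases_right]
  ring

theorem main : BlockPM.{u} := by
  intro F _ k m a b N₁ N₂ h₁ h₂
  exact glue (Cfsg.quadFormPlus k F) (Cfsg.quadFormMinus m F a b)
    (Cfsg.quadFormMinus (k + m) F a b) T (T_form a b) N₁ N₂ h₁ h₂

end Cfsg.Agent.Lib.Helper38.S8BLOCKPM
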