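import Mathlib
import Cfsg.Agent.Lib.Helper45.S8Stmt

set_option autoImplicit false

namespace Cfsg.Agent.Lib.Helper38.S8EMBED

open Matrix
open Cfsg.Agent.Lib.Helper45.S8Stmt

universe u

variable {F : Type u} [Field F]

/-- the reindexing `Fin 4 ⊕ Fin 4 → (Fin 3 ⊕ Fin 3) ⊕ Fin 2` -/
def eFun : Fin 4 ⊕ Fin 4 → (Fin 3 ⊕ Fin 3) ⊕ Fin 2
  | Sum.inl i => if h : (i : ℕ) < 3 then Sum.inl (Sum.inl ⟨i, h⟩) else Sum.inr 0
  | Sum.inr i => if h : (i : ℕ) < 3 then Sum.inl (Sum.inr ⟨i, h⟩) else Sum.inr 1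

def eInv : (Fin 3 ⊕ Fin 3) ⊕ Fin 2 → Fin 4 ⊕ Fin 4
  | Sum.inl (Sum.inl i) => Sum.inl (Fin.castSucc i)
  | Sum.inl (Sum.inr i) => Sum.inr (Fin.castSucc i)
  | Sum.inr j => if j = 0 then Sum.inl (Fin.last 3) else Sum.inr (Fin.last 3)

def e : Fin 4 ⊕ Fin 4 ≃ (Fin 3 ⊕ Fin 3) ⊕ Fin 2 where
  toFun := eFun
  invFun := eInv
  left_inv := by decide
  right_inv := by decide

theorem e_l0 : e (Sum.inl 0) = Sum.inl (Sum.inl 0) := rfl
theorem e_l1 : e (Sum.inl 1) = Sum.inl (Sum.inl 1) := rfl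
theorem e_l2 : e (Sum.inl 2) = Sum.inl (Sum.inl 2) := rfl
theorem e_l3 : e (Sum.inl 3) = Sum.inr 0 := rfl
theorem e_r0 : e (Sum.inr 0) = Sum.inl (Sum.inr 0) := rfl
theorem e_r1 : e (Sum.inr 1) = Sum.inl (Sum.inr 1) := rfl
theorem e_r2 : e (Sum.inr 2) = Sum.inl (Sum.inr 2) := rfl
theorem e_r3 : e (Sum.inr 3) = Sum.inr 1 := rfl

/-- the scaling -/
def dinv (a : F) : Fin 4 ⊕ Fin 4 → F
  | Sum.inl _ => 1
  | Sum.inr i => if i = 3 then a else 1

/-- the symplectic form as a function -/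
def om (x y : Fin 4 ⊕ Fin 4 → F) : F := x ⬝ᵥ (Matrix.J (Fin 4) F) *ᵥ y

theorem om_eq (x y : Fin 4 ⊕ Fin 4 → F) :
    om x y = ∑ k : Fin 4, (x (Sum.inr k) * y (Sum.inl k) - x (Sum.inl k) * y (Sum.inr k)) := by
  unfold om
  simp only [Matrix.J, dotProduct, Matrix.fromBlocks_mulVec, Fintype.sum_sum_type, Sum.elim_inl,
    Sum.elim_inr, Matrix.zero_mulVec, Matrix.neg_mulVec, Matrix.one_mulVec, zero_add, add_zero,
    Pi.neg_apply, Function.comp_apply]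
  rw [← Finset.sum_add_distrib]
  apply Finset.sum_congr rfl
  intro k _
  ring

theorem polar_eq [CharP F 2] (a b : F) (u v : (Fin 3 ⊕ Fin 3) ⊕ Fin 2 → F) :
    Cfsg.quadFormMinus 3 F a b (u + v) - Cfsg.quadFormMinus 3 F a b u -
      Cfsg.quadFormMinus 3 F a b v =
    om (fun k => dinv a k * (u (e k))) (fun k => dinv a k * (v (e k))) := by
  have h2 : (2 : F) = 0 := CharTwo.two_eq_zero
  rw [om_eq]
  simp only [Cfsg.quadFormMinus, Fin.sum_univ_three, Fin.sum_univ_four, Pi.add_apply, dinv,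
    e_l0, e_l1, e_l2, e_l3, e_r0, e_r1, e_r2, e_r3]
  simp only [show ((0 : Fin 4) = 3) = False from by decide, show ((1 : Fin 4) = 3) = False from by decide,
    show ((2 : Fin 4) = 3) = False from by decide, if_false, if_true]
  linear_combination (u (Sum.inl (Sum.inl 0)) * v (Sum.inl (Sum.inr 0)) +
    u (Sum.inl (Sum.inl 1)) * v (Sum.inl (Sum.inr 1)) +
    u (Sum.inl (Sum.inl 2)) * v (Sum.inl (Sum.inr 2)) + u (Sum.inr 0) * v (Sum.inr 0) +
    a * u (Sum.inr 0) * v (Sum.inr 1) + b * u (Sum.inr 1) * v (Sum.inr 1)) * h2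

/-- a matrix preserving `om` is symplectic -/
theorem symp_of_om (A : Matrix (Fin 4 ⊕ Fin 4) (Fin 4 ⊕ Fin 4) F)
    (h : ∀ x y : Fin 4 ⊕ Fin 4 → F, om (A *ᵥ x) (A *ᵥ y) = om x y) :
    A ∈ Matrix.symplecticGroup (Fin 4) F := by
  rw [SymplecticGroup.mem_iff']
  ext i j
  have h1 := h (Pi.single i 1) (Pi.single j 1)
  unfold om at h1
  have h3 : (A *ᵥ Pi.single i 1) ⬝ᵥ (Matrix.J (Fin 4) F) *ᵥ (A *ᵥ Pi.single j 1) =
      Pi.single i 1 ⬝ᵥ (Aᵀ * Matrix.J (Fin 4) F * A) *ᵥ Pi.single j 1 := by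
    rw [Matrix.mulVec_mulVec, Matrix.dotProduct_mulVec, Matrix.vecMul_mulVec,
      ← Matrix.dotProduct_mulVec, Matrix.mul_assoc]
  rw [h3] at h1
  simpa using h1

theorem dinv_ne (a : F) (ha : a ≠ 0) (k : Fin 4 ⊕ Fin 4) : dinv a k ≠ 0 := by
  rcases k with k | k
  · simp [dinv]
  · unfold dinv
    simp only
    split_ifs
    · exact ha
    · exact one_ne_zero

/-- the matrix of the embedding -/
noncomputable def emb (a : F) (h : Matrix ((Fin 3 ⊕ Fin 3) ⊕ Fin 2) ((Fin 3 ⊕ Fin 3) ⊕ Fin 2) F) :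
    Matrix (Fin 4 ⊕ Fin 4) (Fin 4 ⊕ Fin 4) F :=
  Matrix.diagonal (dinv a) * h.submatrix e e * Matrix.diagonal (fun k => (dinv a k)⁻¹)

theorem diag_cancel (a : F) (ha : a ≠ 0) :
    Matrix.diagonal (fun k => (dinv a k)⁻¹) * Matrix.diagonal (dinv a) = 1 := by
  rw [Matrix.diagonal_mul_diagonal, ← Matrix.diagonal_one]
  congr 1
  funext k
  exact inv_mul_cancel₀ (dinv_ne a ha k)

theorem diag_cancel' (a : F) (ha : a ≠ 0) :
    Matrix.diagonal (dinv a) * Matrix.diagonal (fun k => (dinv a k)⁻¹) = 1 := by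
  rw [Matrix.diagonal_mul_diagonal, ← Matrix.diagonal_one]
  congr 1
  funext k
  exact mul_inv_cancel₀ (dinv_ne a ha k)

theorem emb_mul (a : F) (ha : a ≠ 0)
    (h h' : Matrix ((Fin 3 ⊕ Fin 3) ⊕ Fin 2) ((Fin 3 ⊕ Fin 3) ⊕ Fin 2) F) :
    emb a (h * h') = emb a h * emb a h' := by
  unfold emb
  have h1 : (h * h').submatrix e e = h.submatrix e e * h'.submatrix e e :=
    (Matrix.submatrix_mul_equiv h h' e e e).symm
  rw [h1]
  calc Matrix.diagonal (dinv a) * (h.submatrix e e * h'.submatrix e e) *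
        Matrix.diagonal (fun k => (dinv a k)⁻¹)
      = Matrix.diagonal (dinv a) * h.submatrix e e * 1 * h'.submatrix e e *
        Matrix.diagonal (fun k => (dinv a k)⁻¹) := by
          simp only [Matrix.mul_one, Matrix.mul_assoc]
    _ = Matrix.diagonal (dinv a) * h.submatrix e e * Matrix.diagonal (fun k => (dinv a k)⁻¹) *
        (Matrix.diagonal (dinv a) * h'.submatrix e e *
        Matrix.diagonal (fun k => (dinv a k)⁻¹)) := by
          rw [← diag_cancel a ha]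
          simp only [Matrix.mul_assoc]

theorem emb_inj (a : F) (ha : a ≠ 0)
    (h h' : Matrix ((Fin 3 ⊕ Fin 3) ⊕ Fin 2) ((Fin 3 ⊕ Fin 3) ⊕ Fin 2) F)
    (hh : emb a h = emb a h') : h = h' := by
  unfold emb at hh
  have h1 : h.submatrix e e = h'.submatrix e e := by
    have h2 := congrArg (fun M => Matrix.diagonal (fun k => (dinv a k)⁻¹) * M *
      Matrix.diagonal (dinv a)) hh
    have h3 : ∀ M : Matrix (Fin 4 ⊕ Fin 4) (Fin 4 ⊕ Fin 4) F,
        Matrix.diagonal (fun k => (dinv a k)⁻¹) *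
        (Matrix.diagonal (dinv a) * M * Matrix.diagonal (fun k => (dinv a k)⁻¹)) *
        Matrix.diagonal (dinv a) = M := by
      intro M
      calc Matrix.diagonal (fun k => (dinv a k)⁻¹) *
          (Matrix.diagonal (dinv a) * M * Matrix.diagonal (fun k => (dinv a k)⁻¹)) *
          Matrix.diagonal (dinv a)
          = (Matrix.diagonal (fun k => (dinv a k)⁻¹) * Matrix.diagonal (dinv a)) * M *
            (Matrix.diagonal (fun k => (dinv a k)⁻¹) * Matrix.diagonal (dinv a)) := by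
              simp only [Matrix.mul_assoc]
        _ = M := by rw [diag_cancel a ha, Matrix.one_mul, Matrix.mul_one]
    rw [h3, h3] at h2
    exact h2
  ext i j
  have h4 := congrFun (congrFun h1 (e.symm i)) (e.symm j)
  simpa using h4

theorem emb_symp [CharP F 2] (a b : F) (ha : a ≠ 0)
    (h : Matrix ((Fin 3 ⊕ Fin 3) ⊕ Fin 2) ((Fin 3 ⊕ Fin 3) ⊕ Fin 2) F)
    (hh : ∀ u, Cfsg.quadFormMinus 3 F a b (h *ᵥ u) = Cfsg.quadFormMinus 3 F a b u) :
    emb a h ∈ Matrix.symplecticGroup (Fin 4) F := by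
  apply symp_of_om
  intro x y
  -- `p = D x`, `u = p ∘ e.symm`
  have key : ∀ x : Fin 4 ⊕ Fin 4 → F, emb a h *ᵥ x =
      fun k => dinv a k * ((h *ᵥ ((fun k => (dinv a k)⁻¹ * x k) ∘ e.symm)) (e k)) := by
    intro x
    have hd : (Matrix.diagonal fun k => (dinv a k)⁻¹) *ᵥ x = fun k => (dinv a k)⁻¹ * x k := by
      funext l
      rw [Matrix.mulVec_diagonal]
    unfold emb
    rw [← Matrix.mulVec_mulVec, ← Matrix.mulVec_mulVec, Matrix.submatrix_mulVec_equiv, hd]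
    funext k
    rw [Matrix.mulVec_diagonal]
    rfl
  have hpol : ∀ u v : (Fin 3 ⊕ Fin 3) ⊕ Fin 2 → F,
      om (fun k => dinv a k * ((h *ᵥ u) (e k))) (fun k => dinv a k * ((h *ᵥ v) (e k))) =
      om (fun k => dinv a k * (u (e k))) (fun k => dinv a k * (v (e k))) := by
    intro u v
    rw [← polar_eq a b, ← polar_eq a b, ← Matrix.mulVec_add, hh, hh, hh]
  rw [key x, key y, hpol]
  congr 1
  · funext k
    simp only [Function.comp_apply, Equiv.symm_apply_apply]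
    rw [← mul_assoc, mul_inv_cancel₀ (dinv_ne a ha k), one_mul]
  · funext k
    simp only [Function.comp_apply, Equiv.symm_apply_apply]
    rw [← mul_assoc, mul_inv_cancel₀ (dinv_ne a ha k), one_mul]

theorem main : Embed.{u} := by
  intro F _ _ a b ha
  have hmem : ∀ g : ↥(Cfsg.isometryGroup F (Cfsg.quadFormMinus 3 F a b)),
      emb a ((g : GL ((Fin 3 ⊕ Fin 3) ⊕ Fin 2) F) :
        Matrix ((Fin 3 ⊕ Fin 3) ⊕ Fin 2) ((Fin 3 ⊕ Fin 3) ⊕ Fin 2) F) ∈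
        Matrix.symplecticGroup (Fin 4) F := by
    intro g
    apply emb_symp a b ha
    intro u
    exact g.2 u u
  refine ⟨MonoidHom.mk' (fun g => ⟨emb a ((g : GL ((Fin 3 ⊕ Fin 3) ⊕ Fin 2) F) :
        Matrix ((Fin 3 ⊕ Fin 3) ⊕ Fin 2) ((Fin 3 ⊕ Fin 3) ⊕ Fin 2) F), hmem g⟩) ?_, ?_⟩
  · intro g g'
    apply Subtype.ext
    exact emb_mul a ha _ _
  · intro g g' hgg
    have h1 : emb a ((g : GL ((Fin 3 ⊕ Fin 3) ⊕ Fin 2) F) :
        Matrix ((Fin 3 ⊕ Fin 3) ⊕ Fin 2) ((Fin 3 ⊕ Fin 3) ⊕ Fin 2) F) =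
        emb a ((g' : GL ((Fin 3 ⊕ Fin 3) ⊕ Fin 2) F) :
        Matrix ((Fin 3 ⊕ Fin 3) ⊕ Fin 2) ((Fin 3 ⊕ Fin 3) ⊕ Fin 2) F) :=
      congrArg Subtype.val hgg
    exact Subtype.ext (Units.ext (emb_inj a ha _ _ h1))

end Cfsg.Agent.Lib.Helper38.S8EMBED
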