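import Mathlib
import Cfsg.Agent.Lib.Helper45.S8Stmt

set_option autoImplicit false

/-! Piece [SINGER] of S3589: a Singer cycle of `GL_k(F)`, of order `q ^ k - 1`. -/

namespace Cfsg.Agent.Lib.Helper38.S8SINGER

open scoped MatrixGroups
open Cfsg.Agent.Lib.Helper45.S8Stmt

universe u

theorem main : Singer.{u} := by
  intro F _ _ k hk
  classical
  obtain ⟨p, hp⟩ := CharP.exists F
  have := hp
  have : Fact p.Prime := ⟨CharP.char_is_prime F p⟩
  have : NeZero k := ⟨by omega⟩
  let L := FiniteField.Extension F p k
  have hcardL : Nat.card L = Fintype.card F ^ k := by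
    rw [FiniteField.natCard_extension, Nat.card_eq_fintype_card]
  have hfr : Module.finrank F L = k := FiniteField.finrank_extension F p k
  have : Fintype L := Fintype.ofFinite L
  have hcardU : Nat.card Lˣ = Fintype.card F ^ k - 1 := by rw [Nat.card_units, hcardL]
  obtain ⟨g, hg⟩ := IsCyclic.exists_ofOrder_eq_natCard (α := Lˣ)
  rw [hcardU] at hg
  let b : Module.Basis (Fin k) F L := Module.finBasisOfFinrankEq F L hfr
  let φ : L →* Matrix (Fin k) (Fin k) F :=
    (Algebra.leftMulMatrix b : L →ₐ[F] Matrix (Fin k) (Fin k) F)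
  have hφinj : Function.Injective φ := Algebra.leftMulMatrix_injective b
  exact ⟨Units.map φ g, by
    rw [orderOf_injective (Units.map φ) (Units.map_injective hφinj) g, hg]⟩

end Cfsg.Agent.Lib.Helper38.S8SINGER
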