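import Mathlib
import Cfsg.Agent.Lib.Helper26.T64Stmt

set_option autoImplicit false

namespace Cfsg.Agent.Lib.Helper38.T64FPF

universe u

open Cfsg.Agent.Lib.Helper26.T64Stmt

/-- the Lang map `y ↦ y⁻¹ ρ(y)` of a fixed-point-free automorphism is injective -/
theorem lang_inj {T : Type u} [Group T] (ρ : MulAut T) (hf : Fpf T ρ) (y w : T)
    (h : y⁻¹ * ρ y = w⁻¹ * ρ w) : y = w := by
  have h1 : ρ (w * y⁻¹) = w * y⁻¹ := by
    rw [map_mul, map_inv]
    have h2 : ρ w = w * (y⁻¹ * ρ y) := by rw [h]; group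
    rw [h2]; group
  have h3 := hf _ h1
  have : w = y := by
    have := mul_inv_eq_one.mp h3
    exact this
  exact this.symm

theorem main : Cfsg.Agent.Lib.Helper26.T64Stmt.FPF.{u} := by
  intro T _ _ ρ h3 hf
  have hcube : ∀ t : T, ρ (ρ (ρ t)) = t := by
    intro t
    have : ρ ^ 3 = 1 := by rw [← h3]; exact pow_orderOf_eq_one ρ
    have h := congrArg (fun f : MulAut T => f t) this
    simpa [pow_succ, MulAut.mul_apply] using h
  have hsurj : Function.Surjective (fun y : T => y⁻¹ * ρ y) :=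
    Finite.surjective_of_injective (fun a b hab => lang_inj ρ hf a b hab)
  have key : ∀ g : T, g * ρ g * ρ (ρ g) = 1 := by
    intro g
    obtain ⟨y, rfl⟩ := hsurj g
    simp only [map_mul, map_inv, hcube]
    group
  have key2 : ∀ g : T, ρ g * ρ (ρ g) = ρ (ρ g) * ρ g := by
    intro g
    have h1 := key g
    have h2 := key g⁻¹
    simp only [map_inv] at h2
    have e1 : ρ g * ρ (ρ g) = g⁻¹ := by
      have : g * (ρ g * ρ (ρ g)) = 1 := by rw [← mul_assoc]; exact h1
      exact (eq_inv_of_mul_eq_one_right this)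
    have e2 : ρ (ρ g) * ρ g = g⁻¹ := by
      have h2' : (g⁻¹ * (ρ g)⁻¹ * (ρ (ρ g))⁻¹)⁻¹ = 1 := by rw [h2, inv_one]
      simp only [mul_inv_rev, inv_inv] at h2'
      -- h2' : ρ (ρ g) * (ρ g * g) = 1
      have : ρ (ρ g) * ρ g * g = 1 := by rw [mul_assoc]; exact h2'
      exact (eq_inv_of_mul_eq_one_left this)
    rw [e1, e2]
  intro y
  refine ⟨key y, ?_⟩
  have := key2 (ρ (ρ y))
  rw [hcube] at this
  exact this

end Cfsg.Agent.Lib.Helper38.T64FPF
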