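import Mathlib
import Cfsg.Agent.Lib.Helper26.T64Stmt

set_option autoImplicit false

namespace Cfsg.Agent.Lib.Helper38.T64LANG

universe u

open Cfsg.Agent.Lib.Helper26.T64Stmt

/-- the Lang map `y ↦ y⁻¹ ρ(y)` of a fixed-point-free automorphism is injective -/
theorem lang_inj {T : Type u} [Group T] (ρ : MulAut T) (hf : Fpf T ρ) (y w : T)
    (h : y⁻¹ * ρ y = w⁻¹ * ρ w) : y = w := by
  have h1 : ρ (w * y⁻¹) = w * y⁻¹ := by
    rw [map_mul, map_inv]
    have h2 : ρ w = w * (y⁻¹ * ρ y) := by rw [h]; group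
    rw [h2]; group
  have h3 := hf _ h1
  have : w = y := by
    have := mul_inv_eq_one.mp h3
    exact this
  exact this.symm

theorem main : Cfsg.Agent.Lib.Helper26.T64Stmt.LANG.{u} := by
  intro T _ _ ρ hf N hN t ht
  let L : N → N := fun n => ⟨(n : T)⁻¹ * ρ (n : T), N.mul_mem (N.inv_mem n.2) (hN _ n.2)⟩
  have hinj : Function.Injective L := by
    intro a b hab
    have := congrArg Subtype.val hab
    exact Subtype.ext (lang_inj ρ hf _ _ this)
  have hsurj : Function.Surjective L := Finite.surjective_of_injective hinj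
  obtain ⟨w, hw⟩ := hsurj ⟨t⁻¹ * ρ t, ht⟩
  have hw' : (w : T)⁻¹ * ρ (w : T) = t⁻¹ * ρ t := congrArg Subtype.val hw
  have := lang_inj ρ hf _ _ hw'
  rw [← this]; exact w.2

end Cfsg.Agent.Lib.Helper38.T64LANG
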