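import Mathlib
import Cfsg.Agent.Lib.Helper39.TLStmt

set_option autoImplicit false
set_option linter.style.haveILetI false
set_option linter.deprecated false

/-!
# S4404 / PW3

Two reflections `x, y` in a 3-group with `W₁ ≠ W₂`: `x` centralizes `W₂`.
-/

namespace Cfsg.Agent.Lib.Helper38.TLPW3

open Cfsg Cfsg.Agent.Lib.Helper39.TLStmt

universe u

variable {S : Type u} [Group S]

/-- conjugation action of a subgroup `K` on a subgroup `V` it normalizes -/
@[reducible] def cact (K V : Subgroup S) (h : ∀ g ∈ K, ∀ u ∈ V, g * u * g⁻¹ ∈ V) :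
    MulAction ↥K ↥V where
  smul g u := ⟨(g : S) * u * (g : S)⁻¹, h g g.2 u u.2⟩
  one_smul u := by
    apply Subtype.ext
    show ((1 : K) : S) * u * ((1 : K) : S)⁻¹ = u
    simp
  mul_smul g g' u := by
    apply Subtype.ext
    show ((g * g' : K) : S) * u * ((g * g' : K) : S)⁻¹
      = (g : S) * ((g' : S) * u * (g' : S)⁻¹) * (g : S)⁻¹
    simp [mul_assoc]

theorem fix_mod3 [Finite S] (K V : Subgroup S) (hK : IsPGroup 3 ↥K)
    (h : ∀ g ∈ K, ∀ u ∈ V, g * u * g⁻¹ ∈ V) :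
    Nat.card ↥V ≡ Nat.card ↥(V ⊓ Subgroup.centralizer (K : Set S)) [MOD 3] := by
  letI := cact K V h
  haveI : Fact (Nat.Prime 3) := ⟨by norm_num⟩
  have h1 := hK.card_modEq_card_fixedPoints ↥V
  have h2 : Nat.card (MulAction.fixedPoints ↥K ↥V)
      = Nat.card ↥(V ⊓ Subgroup.centralizer (K : Set S)) := by
    refine Nat.card_congr ⟨fun a => ⟨a.1.1, a.1.2, ?_⟩, fun b => ⟨⟨b.1, b.2.1⟩, ?_⟩,
      fun a => rfl, fun b => rfl⟩
    · refine Subgroup.mem_centralizer_iff.mpr ?_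
      intro g hg
      have h3 : g * a.1.1 * g⁻¹ = a.1.1 := congrArg Subtype.val (a.2 ⟨g, hg⟩)
      calc g * a.1.1 = (g * a.1.1 * g⁻¹) * g := by group
        _ = a.1.1 * g := by rw [h3]
    · intro g
      apply Subtype.ext
      show (g : S) * b.1 * (g : S)⁻¹ = b.1
      have := (Subgroup.mem_centralizer_iff.mp b.2.2) g g.2
      rw [this]; group
  rw [← h2]; exact h1

theorem orbit_three {G : Type*} {α : Type*} [Group G] [MulAction G α] [Finite G] [Finite α]
    (hG : IsPGroup 3 G) (a₀ : α) (hfix : ∀ a, (∀ g : G, g • a = a) → a = a₀)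
    (h0 : ∀ g : G, g • a₀ = a₀) (hcard : Nat.card α % 9 ≠ 1) :
    ∃ a : α, Nat.card (MulAction.orbit G a) = 3 := by
  classical
  by_contra hne
  push Not at hne
  haveI : Fact (Nat.Prime 3) := ⟨by norm_num⟩
  letI : Fintype (MulAction.orbitRel.Quotient G α) := Fintype.ofFinite _
  have hc : Nat.card α
      = ∑ ω : MulAction.orbitRel.Quotient G α, Nat.card (MulAction.orbit G ω.out) := by
    rw [Nat.card_congr (MulAction.selfEquivSigmaOrbits G α), Nat.card_sigma]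
  have key : ∀ ω : MulAction.orbitRel.Quotient G α,
      Nat.card (MulAction.orbit G ω.out) % 9 = if ω = Quotient.mk'' a₀ then 1 else 0 := by
    intro ω
    obtain ⟨n, hn⟩ := hG.card_orbit ω.out
    by_cases hω : ω = Quotient.mk'' a₀
    · rw [if_pos hω]
      have h1 : ω.out = a₀ := by
        have h2 : (Quotient.mk'' ω.out : MulAction.orbitRel.Quotient G α) = Quotient.mk'' a₀ := by
          rw [Quotient.out_eq']; exact hω
        have h3 := (MulAction.orbitRel_apply).mp (Quotient.exact' h2)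
        obtain ⟨g, hg⟩ := h3
        have hg' : g • a₀ = ω.out := hg
        rw [← hg']; exact h0 g
      rw [h1]
      have : MulAction.orbit G a₀ = {a₀} := by
        ext b; constructor
        · rintro ⟨g, rfl⟩; exact h0 g
        · rintro rfl; exact MulAction.mem_orbit_self _
      rw [this]; simp
    · rw [if_neg hω]
      have h1 : ω.out ≠ a₀ := by
        intro h; apply hω; rw [← h, Quotient.out_eq']
      have hn0 : n ≠ 0 := by
        rintro rfl
        apply h1; apply hfix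
        intro g
        rw [pow_zero] at hn
        have hsub : Subsingleton (MulAction.orbit G ω.out) :=
          (Nat.card_eq_one_iff_unique.mp hn).1
        have := @Subsingleton.elim _ hsub ⟨g • ω.out, MulAction.mem_orbit _ _⟩
          ⟨ω.out, MulAction.mem_orbit_self _⟩
        exact congrArg Subtype.val this
      have hn1 : n ≠ 1 := by
        rintro rfl; exact hne ω.out (by simpa using hn)
      obtain ⟨k, rfl⟩ : ∃ k, n = k + 2 := ⟨n - 2, by omega⟩
      have h9 : 3 ^ (k + 2) = 9 * 3 ^ k := by ring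
      rw [hn, h9]; exact Nat.mul_mod_right _ _
  have : Nat.card α % 9 = 1 := by
    rw [hc, Finset.sum_nat_mod, Finset.sum_congr rfl (fun ω _ => key ω)]
    simp
  exact hcard this

theorem refl_inv {M : Subgroup S} {y : S} {W : Subgroup S} (h : IsRefl M y W) :
    ∀ w ∈ W, y * w * y⁻¹ ∈ W := by
  intro w hw
  have := W.mul_mem (h.comm w (h.le hw)) hw
  simpa using this

theorem refl_surj [Finite S] {M : Subgroup S} (hMc : ∀ a ∈ M, ∀ b ∈ M, a * b = b * a)
    (hMn : ∀ (g m : S), m ∈ M → g * m * g⁻¹ ∈ M) {y : S} {W : Subgroup S} (h : IsRefl M y W) :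
    ∀ w ∈ W, ∃ v ∈ W, y * v * y⁻¹ * v⁻¹ = w := by
  have hinj : Function.Injective
      (fun v : W => (⟨y * v * y⁻¹ * (v : S)⁻¹, h.comm v (h.le v.2)⟩ : W)) := by
    intro a b hab
    have hab' : y * a * y⁻¹ * (a : S)⁻¹ = y * b * y⁻¹ * (b : S)⁻¹ := congrArg Subtype.val hab
    have ha : (a : S) ∈ M := h.le a.2
    have hb : (b : S) ∈ M := h.le b.2
    have hB : y * b * y⁻¹ ∈ M := hMn y b hb
    have hA : y * a * y⁻¹ = y * b * y⁻¹ * ((b : S)⁻¹ * a) := by
      rw [← mul_assoc, ← hab']; group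
    have hfix : y * ((a : S) * (b : S)⁻¹) * y⁻¹ = (a : S) * (b : S)⁻¹ := by
      calc y * ((a : S) * (b : S)⁻¹) * y⁻¹ = (y * a * y⁻¹) * (y * b * y⁻¹)⁻¹ := by group
        _ = (y * b * y⁻¹ * ((b : S)⁻¹ * a)) * (y * b * y⁻¹)⁻¹ := by rw [hA]
        _ = (((b : S)⁻¹ * a) * (y * b * y⁻¹)) * (y * b * y⁻¹)⁻¹ := by
          rw [hMc (y * b * y⁻¹) hB ((b : S)⁻¹ * a) (M.mul_mem (M.inv_mem hb) ha)]
        _ = (b : S)⁻¹ * a := by group
        _ = (a : S) * (b : S)⁻¹ := hMc _ (M.inv_mem hb) _ ha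
    have := h.fix _ (W.mul_mem a.2 (W.inv_mem b.2)) hfix
    exact Subtype.ext (mul_inv_eq_one.mp this)
  have hsurj := Finite.surjective_of_injective hinj
  intro w hw
  obtain ⟨v, hv⟩ := hsurj ⟨w, hw⟩
  exact ⟨v, v.2, congrArg Subtype.val hv⟩

theorem dich [Finite S] {M : Subgroup S} {y : S} {W W' : Subgroup S} (h : IsRefl M y W)
    (hW' : W' ≤ M) (hc : Nat.card W' = 4) (hinv : ∀ w ∈ W', y * w * y⁻¹ ∈ W') (hne : W' ≠ W) :
    ∀ w ∈ W', y * w * y⁻¹ = w := by
  have hI : ∀ t ∈ W ⊓ W', t = 1 := by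
    by_contra hcon
    push Not at hcon
    obtain ⟨t, ht, ht1⟩ := hcon
    have hd : Nat.card ↥(W ⊓ W') ∣ 4 := hc ▸ Subgroup.card_dvd_of_le inf_le_right
    have hle : Nat.card ↥(W ⊓ W') ≤ 4 := Nat.le_of_dvd (by norm_num) hd
    have hn4 : Nat.card ↥(W ⊓ W') ≠ 4 := by
      intro h4
      apply hne
      have e1 : W ⊓ W' = W' := Subgroup.eq_of_le_of_card_ge inf_le_right (by rw [h4, hc])
      have e2 : W ⊓ W' = W := Subgroup.eq_of_le_of_card_ge inf_le_left (by rw [h4, h.card])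
      exact e1.symm.trans e2
    have hn1 : 1 < Nat.card ↥(W ⊓ W') := by
      rw [Finite.one_lt_card_iff_nontrivial]
      exact ⟨⟨⟨t, ht⟩, 1, fun h => ht1 (congrArg Subtype.val h)⟩⟩
    have h2 : Nat.card ↥(W ⊓ W') = 2 := by
      generalize Nat.card ↥(W ⊓ W') = n at *
      interval_cases n <;> omega
    have hyt : y * t * y⁻¹ ∈ W ⊓ W' := ⟨refl_inv h t ht.1, hinv t ht.2⟩
    have hyt1 : y * t * y⁻¹ ≠ 1 := by
      intro h1; apply ht1
      have : t = y⁻¹ * (y * t * y⁻¹) * y := by group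
      rw [this, h1]; group
    have hu := (Nat.card_eq_two_iff' (1 : ↥(W ⊓ W'))).mp h2
    have := hu.unique (y₁ := ⟨y * t * y⁻¹, hyt⟩) (y₂ := ⟨t, ht⟩)
      (fun h => hyt1 (congrArg Subtype.val h)) (fun h => ht1 (congrArg Subtype.val h))
    have h3 : y * t * y⁻¹ = t := congrArg Subtype.val this
    exact ht1 (h.fix t ht.1 h3)
  intro w hw
  have hcm : y * w * y⁻¹ * w⁻¹ ∈ W ⊓ W' :=
    ⟨h.comm w (hW' hw), W'.mul_mem (hinv w hw) (W'.inv_mem hw)⟩
  exact mul_inv_eq_one.mp (hI _ hcm)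

theorem main (hCop : Cop.{u}) : PW3.{u} := by
  intro S _ _ M _ hM R hR x y W₁ W₂ hxR hyR hx hy hne
  haveI : Fact (Nat.Prime 3) := ⟨by norm_num⟩
  have hMc : ∀ a ∈ M, ∀ b ∈ M, a * b = b * a := by
    intro a ha b hb
    exact congrArg Subtype.val (hM.1.is_comm.comm (⟨a, ha⟩ : M) ⟨b, hb⟩)
  have hM2 : ∀ a ∈ M, a * a = 1 := by
    intro a ha
    have := hM.2 a ha
    rwa [pow_two] at this
  have hMn : ∀ (g m : S), m ∈ M → g * m * g⁻¹ ∈ M :=
    fun g m hm => (inferInstance : M.Normal).conj_mem m hm g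
  obtain ⟨L, hLdef⟩ : ∃ L : Subgroup S, L = Subgroup.closure {x, y} := ⟨_, rfl⟩
  have hxL : x ∈ L := hLdef ▸ Subgroup.subset_closure (by simp)
  have hyL : y ∈ L := hLdef ▸ Subgroup.subset_closure (by simp)
  have hLR : L ≤ R := by
    rw [hLdef, Subgroup.closure_le]
    intro z hz
    rcases hz with rfl | rfl
    · exact hxR
    · exact hyR
  have hL3 : IsPGroup 3 ↥L := hR.to_le hLR
  obtain ⟨U, hUdef⟩ : ∃ U : Subgroup S, U = W₁ ⊔ W₂ := ⟨_, rfl⟩
  have hUM : U ≤ M := hUdef ▸ sup_le hx.le hy.le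
  have hW₁U : W₁ ≤ U := hUdef ▸ le_sup_left
  have hW₂U : W₂ ≤ U := hUdef ▸ le_sup_right
  have hQ : ∀ g ∈ L, ∀ m ∈ M, g * m * g⁻¹ * m⁻¹ ∈ U := by
    intro g hg
    rw [hLdef] at hg
    induction hg using Subgroup.closure_induction with
    | mem z hz =>
      rcases hz with rfl | rfl
      · intro m hm; exact hW₁U (hx.comm m hm)
      · intro m hm; exact hW₂U (hy.comm m hm)
    | one => intro m hm; simp
    | mul a b ha hb iha ihb =>
      intro m hm
      have h1 := iha (b * m * b⁻¹) (hMn b m hm)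
      have h2 := ihb m hm
      have : a * b * m * (a * b)⁻¹ * m⁻¹
          = (a * (b * m * b⁻¹) * a⁻¹ * (b * m * b⁻¹)⁻¹) * (b * m * b⁻¹ * m⁻¹) := by group
      rw [this]; exact U.mul_mem h1 h2
    | inv a ha iha =>
      intro m hm
      have h1 := iha (a⁻¹ * m * a) (by simpa using hMn a⁻¹ m hm)
      have : a⁻¹ * m * a⁻¹⁻¹ * m⁻¹ = (a * (a⁻¹ * m * a) * a⁻¹ * (a⁻¹ * m * a)⁻¹)⁻¹ := by group
      rw [this]; exact U.inv_mem h1
  have hUinv : ∀ g ∈ L, ∀ u ∈ U, g * u * g⁻¹ ∈ U := by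
    intro g hg u hu
    have := U.mul_mem (hQ g hg u (hUM hu)) hu
    simpa using this
  have hLodd : Odd (Nat.card ↥L) := by
    obtain ⟨n, hn⟩ := IsPGroup.iff_card.mp hL3
    rw [hn]; exact Odd.pow (by decide)
  have hUcl : U ≤ Subgroup.closure {w : S | ∃ g ∈ L, ∃ m ∈ M, w = g * m * g⁻¹ * m⁻¹} := by
    rw [hUdef]
    apply sup_le
    · intro w hw
      obtain ⟨v, hv, hvw⟩ := refl_surj hMc hMn hx w hw
      exact Subgroup.subset_closure ⟨x, hxL, v, hx.le hv, hvw.symm⟩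
    · intro w hw
      obtain ⟨v, hv, hvw⟩ := refl_surj hMc hMn hy w hw
      exact Subgroup.subset_closure ⟨y, hyL, v, hy.le hv, hvw.symm⟩
  have hnofix : ∀ u ∈ U, (∀ g ∈ L, g * u * g⁻¹ = u) → u = 1 := by
    intro u hu hfix
    exact hCop S M hM L hLodd u (hUM hu) hfix (hUcl hu)
  have hgen : ∀ u : S, x * u * x⁻¹ = u → y * u * y⁻¹ = u → ∀ g ∈ L, g * u * g⁻¹ = u := by
    intro u h1 h2
    have hle : L ≤ Subgroup.centralizer ({u} : Set S) := by
      rw [hLdef, Subgroup.closure_le]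
      intro z hz
      refine Subgroup.mem_centralizer_iff.mpr ?_
      intro t ht
      rw [Set.mem_singleton_iff] at ht
      subst ht
      rcases hz with rfl | rfl
      · calc t * z = (z * t * z⁻¹) * z := by rw [h1]
          _ = z * t := by group
      · calc t * z = (z * t * z⁻¹) * z := by rw [h2]
          _ = z * t := by group
    intro g hg
    have := (Subgroup.mem_centralizer_iff.mp (hle hg)) u rfl
    rw [← this]; group
  have hUcard : Nat.card ↥U = 16 := by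
    have hdvd : Nat.card ↥U ∣ 16 := by
      have hcomm : ∀ (a : W₁) (b : W₂), Commute (W₁.subtype a) (W₂.subtype b) :=
        fun a b => hMc _ (hx.le a.2) _ (hy.le b.2)
      have hr := MonoidHom.noncommCoprod_range W₁.subtype W₂.subtype hcomm
      rw [Subgroup.range_subtype, Subgroup.range_subtype] at hr
      have := Subgroup.card_range_dvd (MonoidHom.noncommCoprod W₁.subtype W₂.subtype hcomm)
      rw [hr, Nat.card_prod, hx.card, hy.card, ← hUdef] at this
      exact this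
    have hmod := fix_mod3 L U hL3 hUinv
    have hfixcard : Nat.card ↥(U ⊓ Subgroup.centralizer (L : Set S)) = 1 := by
      rw [Subgroup.card_eq_one, Subgroup.eq_bot_iff_forall]
      intro u hu
      apply hnofix u hu.1
      intro g hg
      have := (Subgroup.mem_centralizer_iff.mp hu.2) g hg
      rw [this]; group
    have hn4 : Nat.card ↥U ≠ 4 := by
      intro h4
      have e1 : W₁ = U := Subgroup.eq_of_le_of_card_ge hW₁U (by rw [h4, hx.card])
      have e2 : W₂ = U := Subgroup.eq_of_le_of_card_ge hW₂U (by rw [h4, hy.card])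
      exact hne (e1.trans e2.symm)
    have hn1 : Nat.card ↥U ≠ 1 := by
      intro h1
      have := Subgroup.card_le_of_le hW₁U
      rw [h1, hx.card] at this; omega
    rw [hfixcard] at hmod
    have hmod' : Nat.card ↥U % 3 = 1 := hmod
    have hle : Nat.card ↥U ≤ 16 := Nat.le_of_dvd (by norm_num) hdvd
    clear hmod
    generalize Nat.card ↥U = n at hdvd hn4 hn1 hmod' hle ⊢
    interval_cases n <;> omega
  -- an orbit of size 3
  letI actLU : MulAction ↥L ↥U := cact L U hUinv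
  obtain ⟨u₀, hu₀⟩ : ∃ a : ↥U, Nat.card (MulAction.orbit ↥L a) = 3 := by
    apply orbit_three hL3 (1 : ↥U)
    · intro a ha
      apply Subtype.ext
      apply hnofix a.1 a.2
      intro g hg
      exact congrArg Subtype.val (ha ⟨g, hg⟩)
    · intro g
      apply Subtype.ext
      show (g : S) * ((1 : ↥U) : S) * (g : S)⁻¹ = ((1 : ↥U) : S)
      simp
    · rw [hUcard]; norm_num
  obtain ⟨H, hH⟩ : ∃ H : Subgroup ↥L, H = MulAction.stabilizer ↥L u₀ := ⟨_, rfl⟩
  have hHidx : H.index = 3 := by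
    rw [hH, MulAction.index_stabilizer, ← Nat.card_coe_set_eq]; exact hu₀
  have hLmin : (Nat.card ↥L).minFac = 3 := by
    obtain ⟨n, hn⟩ := IsPGroup.iff_card.mp hL3
    have hn0 : n ≠ 0 := by
      rintro rfl
      have := H.index_dvd_card
      rw [hHidx, hn] at this; norm_num at this
    rw [hn]; exact Nat.Prime.pow_minFac (by norm_num) hn0
  haveI hHn : H.Normal := Subgroup.normal_of_index_eq_minFac_card (by rw [hHidx, hLmin])
  obtain ⟨H', hH'⟩ : ∃ H' : Subgroup S, H' = H.map L.subtype := ⟨_, rfl⟩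
  have hH'L : H' ≤ L := by
    rw [hH']; rintro _ ⟨h, _, rfl⟩; exact h.2
  have hH'fix : ∀ h ∈ H', h * u₀ * h⁻¹ = u₀ := by
    rw [hH']; rintro _ ⟨h, hh, rfl⟩
    rw [hH] at hh
    exact congrArg Subtype.val (MulAction.mem_stabilizer_iff.mp hh)
  have hH'n : ∀ g ∈ L, ∀ h ∈ H', g * h * g⁻¹ ∈ H' := by
    intro g hg h hh
    rw [hH'] at hh ⊢
    obtain ⟨h', hh', rfl⟩ := hh
    exact ⟨⟨g, hg⟩ * h' * ⟨g, hg⟩⁻¹, hHn.conj_mem h' hh' ⟨g, hg⟩, rfl⟩
  have hH'3 : IsPGroup 3 ↥H' := hR.to_le (hH'L.trans hLR)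
  obtain ⟨W₀, hW₀⟩ : ∃ W₀ : Subgroup S, W₀ = U ⊓ Subgroup.centralizer (H' : Set S) := ⟨_, rfl⟩
  have hW₀U : W₀ ≤ U := hW₀ ▸ inf_le_left
  have hW₀c : ∀ w ∈ W₀, ∀ h ∈ H', h * w = w * h := by
    intro w hw h hh
    rw [hW₀] at hw
    exact (Subgroup.mem_centralizer_iff.mp hw.2) h hh
  have hu₀W : (u₀ : S) ∈ W₀ := by
    rw [hW₀]
    refine ⟨u₀.2, Subgroup.mem_centralizer_iff.mpr ?_⟩
    intro h hh
    have := hH'fix h hh
    calc h * (u₀ : S) = (h * u₀ * h⁻¹) * h := by group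
      _ = (u₀ : S) * h := by rw [this]
  have hu₀1 : (u₀ : S) ≠ 1 := by
    intro h1
    have hHtop : H = ⊤ := by
      rw [hH, eq_top_iff]
      intro g _
      refine MulAction.mem_stabilizer_iff.mpr ?_
      apply Subtype.ext
      show (g : S) * (u₀ : S) * (g : S)⁻¹ = (u₀ : S)
      rw [h1]; simp
    rw [hHtop, Subgroup.index_top] at hHidx
    omega
  have hW₀inv : ∀ g ∈ L, ∀ w ∈ W₀, g * w * g⁻¹ ∈ W₀ := by
    intro g hg w hw
    rw [hW₀]
    refine ⟨hUinv g hg w (hW₀U hw), Subgroup.mem_centralizer_iff.mpr ?_⟩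
    intro h hh
    have h1 : g⁻¹ * h * g ∈ H' := by simpa using hH'n g⁻¹ (L.inv_mem hg) h hh
    have h2 := hW₀c w hw _ h1
    calc h * (g * w * g⁻¹) = g * ((g⁻¹ * h * g) * w) * g⁻¹ := by group
      _ = g * (w * (g⁻¹ * h * g)) * g⁻¹ := by rw [h2]
      _ = g * w * g⁻¹ * h := by group
  have hW₀card : Nat.card ↥W₀ = 4 ∨ Nat.card ↥W₀ = 16 := by
    have hmod := fix_mod3 H' U hH'3 (fun g hg => hUinv g (hH'L hg))
    rw [← hW₀, hUcard] at hmod
    have hmod' : 16 % 3 = Nat.card ↥W₀ % 3 := hmod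
    have hdvd : Nat.card ↥W₀ ∣ 16 := hUcard ▸ Subgroup.card_dvd_of_le hW₀U
    have hle : Nat.card ↥W₀ ≤ 16 := Nat.le_of_dvd (by norm_num) hdvd
    have hn1 : Nat.card ↥W₀ ≠ 1 := by
      intro h1
      rw [Subgroup.card_eq_one] at h1
      rw [h1] at hu₀W
      exact hu₀1 (Subgroup.mem_bot.mp hu₀W)
    clear hmod
    generalize Nat.card ↥W₀ = n at hdvd hn1 hmod' hle ⊢
    interval_cases n <;> omega
  -- the ending: commuting on `U` suffices
  have hend : (∀ u ∈ U, x * y * u * (x * y)⁻¹ = y * x * u * (y * x)⁻¹) →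
      ∀ w ∈ W₂, x * w * x⁻¹ = w := by
    intro hc
    apply dich hx hy.le hy.card ?_ (Ne.symm hne)
    intro w hw
    obtain ⟨v, hv, rfl⟩ := refl_surj hMc hMn hy w hw
    have h1 := hy.comm (x * v * x⁻¹) (hMn x v (hy.le hv))
    have h2 := hc v (hW₂U hv)
    have : x * (y * v * y⁻¹ * v⁻¹) * x⁻¹ = y * (x * v * x⁻¹) * y⁻¹ * (x * v * x⁻¹)⁻¹ := by
      calc x * (y * v * y⁻¹ * v⁻¹) * x⁻¹ = (x * y * v * (x * y)⁻¹) * (x * v * x⁻¹)⁻¹ := by group
        _ = (y * x * v * (y * x)⁻¹) * (x * v * x⁻¹)⁻¹ := by rw [h2]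
        _ = _ := by group
    rw [this]; exact h1
  rcases hW₀card with h4 | h16
  · -- `W₀` an `L`-invariant four-group
    by_cases hW₀1 : W₀ = W₁
    · -- `y` centralizes `W₁`
      have hW₁inv : ∀ g ∈ L, ∀ w ∈ W₁, g * w * g⁻¹ ∈ W₁ := hW₀1 ▸ hW₀inv
      have hycent : ∀ w ∈ W₁, y * w * y⁻¹ = w :=
        dich hy hx.le hx.card (fun w hw => hW₁inv y hyL w hw) hne
      apply hend
      have hθ : ∀ u ∈ U, ((y * x) * u * (y * x)⁻¹)⁻¹ * ((x * y) * u * (x * y)⁻¹) ∈ W₁ := by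
        intro u hu
        obtain ⟨v, hv⟩ : ∃ v, v = y * u * y⁻¹ := ⟨_, rfl⟩
        have hvU : v ∈ U := hv ▸ hUinv y hyL u hu
        have c1 := hx.comm v (hUM hvU)
        have c2 := hx.comm u (hUM hu)
        have c2' := hycent _ c2
        have e1 : (y * x) * u * (y * x)⁻¹ = (x * u * x⁻¹ * u⁻¹) * v := by
          calc (y * x) * u * (y * x)⁻¹ = (y * (x * u * x⁻¹ * u⁻¹) * y⁻¹) * (y * u * y⁻¹) := by group
            _ = _ := by rw [c2', ← hv]
        have e2 : (x * y) * u * (x * y)⁻¹ = (x * v * x⁻¹ * v⁻¹) * v := by rw [hv]; group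
        rw [e1, e2]
        have hcm := hMc v (hUM hvU) ((x * u * x⁻¹ * u⁻¹)⁻¹ * (x * v * x⁻¹ * v⁻¹))
          (M.mul_mem (M.inv_mem (hx.le c2)) (hx.le c1))
        have : ((x * u * x⁻¹ * u⁻¹) * v)⁻¹ * ((x * v * x⁻¹ * v⁻¹) * v)
            = v⁻¹ * (((x * u * x⁻¹ * u⁻¹)⁻¹ * (x * v * x⁻¹ * v⁻¹)) * v) := by group
        rw [this, ← hcm, inv_mul_cancel_left]
        exact W₁.mul_mem (W₁.inv_mem c2) c1
      obtain ⟨k, hkdef⟩ : ∃ k, k = (y * x)⁻¹ * (x * y) := ⟨_, rfl⟩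
      have hkL : k ∈ L :=
        hkdef ▸ L.mul_mem (L.inv_mem (L.mul_mem hyL hxL)) (L.mul_mem hxL hyL)
      have hkd : ∀ u ∈ U, ∃ d ∈ W₁, k * u * k⁻¹ = u * d := by
        intro u hu
        refine ⟨(y * x)⁻¹ * (((y * x) * u * (y * x)⁻¹)⁻¹ * ((x * y) * u * (x * y)⁻¹)) * (y * x),
          ?_, ?_⟩
        · have := hW₁inv (y * x)⁻¹ (L.inv_mem (L.mul_mem hyL hxL)) _ (hθ u hu)
          simpa using this
        · rw [hkdef]; group
      have hkW : ∀ w ∈ W₁, k * w * k⁻¹ = w := by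
        intro w hw
        have a1 : (x * y) * w * (x * y)⁻¹ = x * w * x⁻¹ := by
          calc (x * y) * w * (x * y)⁻¹ = x * (y * w * y⁻¹) * x⁻¹ := by group
            _ = _ := by rw [hycent w hw]
        have a2 : (y * x) * w * (y * x)⁻¹ = x * w * x⁻¹ := by
          calc (y * x) * w * (y * x)⁻¹ = y * (x * w * x⁻¹) * y⁻¹ := by group
            _ = _ := hycent _ (refl_inv hx w hw)
        calc k * w * k⁻¹ = (y * x)⁻¹ * ((x * y) * w * (x * y)⁻¹) * (y * x) := by
              rw [hkdef]; group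
          _ = (y * x)⁻¹ * ((y * x) * w * (y * x)⁻¹) * (y * x) := by rw [a1, a2]
          _ = w := by group
      have hkU : ∀ u ∈ U, k * u * k⁻¹ = u := by
        intro u hu
        obtain ⟨d, hd, hkud⟩ := hkd u hu
        have h2 : (k * k) * u * (k * k)⁻¹ = u := by
          calc (k * k) * u * (k * k)⁻¹ = k * (k * u * k⁻¹) * k⁻¹ := by group
            _ = k * (u * d) * k⁻¹ := by rw [hkud]
            _ = (k * u * k⁻¹) * (k * d * k⁻¹) := by group
            _ = (u * d) * d := by rw [hkud, hkW d hd]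
            _ = u := by rw [mul_assoc, hM2 d (hx.le hd), mul_one]
        have hodd : Odd (orderOf k) := by
          have h1 : orderOf (⟨k, hkL⟩ : ↥L) ∣ Nat.card ↥L := orderOf_dvd_natCard _
          rw [Subgroup.orderOf_mk] at h1
          exact Odd.of_dvd_nat hLodd h1
        obtain ⟨j, hj⟩ := hodd
        have hpow : ∀ i : ℕ, (k * k) ^ i * u * ((k * k) ^ i)⁻¹ = u := by
          intro i
          induction i with
          | zero => simp
          | succ i ih =>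
            have hs : (k * k) ^ (i + 1) = (k * k) * (k * k) ^ i := pow_succ' _ _
            rw [hs]
            generalize (k * k) ^ i = g at ih ⊢
            calc (k * k) * g * u * ((k * k) * g)⁻¹
                = (k * k) * (g * u * g⁻¹) * (k * k)⁻¹ := by group
              _ = u := by rw [ih, h2]
        have hk1 : k * (k * k) ^ j = 1 := by
          have : k ^ (2 * j + 1) = 1 := by rw [← hj]; exact pow_orderOf_eq_one k
          rw [← this, pow_succ', pow_mul, pow_two]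
        have hpj := hpow j
        generalize (k * k) ^ j = g at hk1 hpj
        calc k * u * k⁻¹ = k * (g * u * g⁻¹) * k⁻¹ := by rw [hpj]
          _ = (k * g) * u * (k * g)⁻¹ := by group
          _ = u := by rw [hk1]; simp
      intro u hu
      calc x * y * u * (x * y)⁻¹ = (y * x) * (k * u * k⁻¹) * (y * x)⁻¹ := by rw [hkdef]; group
        _ = y * x * u * (y * x)⁻¹ := by rw [hkU u hu]
    · -- `x` centralizes `W₀`
      have hxcent : ∀ w ∈ W₀, x * w * x⁻¹ = w :=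
        dich hx (hW₀U.trans hUM) h4 (fun w hw => hW₀inv x hxL w hw) hW₀1
      by_cases hW₀2 : W₀ = W₂
      · intro w hw
        exact hxcent w (hW₀2 ▸ hw)
      · exfalso
        have hycent : ∀ w ∈ W₀, y * w * y⁻¹ = w :=
          dich hy (hW₀U.trans hUM) h4 (fun w hw => hW₀inv y hyL w hw) hW₀2
        exact hu₀1 (hnofix _ (hW₀U hu₀W)
          (hgen _ (hxcent _ hu₀W) (hycent _ hu₀W)))
  · -- `H` centralizes `U`
    have hW₀eq : W₀ = U := Subgroup.eq_of_le_of_card_ge hW₀U (by rw [h16, hUcard])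
    apply hend
    obtain ⟨k, hkdef⟩ : ∃ k, k = (x * y)⁻¹ * (y * x) := ⟨_, rfl⟩
    have hk : k ∈ H' := by
      have hq : Nat.card (↥L ⧸ H) = 3 := hHidx
      haveI : IsCyclic (↥L ⧸ H) := isCyclic_of_prime_card hq
      have h1 := (IsCyclic.commGroup (α := ↥L ⧸ H)).mul_comm
        (QuotientGroup.mk ⟨x, hxL⟩) (QuotientGroup.mk ⟨y, hyL⟩)
      have h2 : ((⟨x, hxL⟩ * ⟨y, hyL⟩ : ↥L) : ↥L ⧸ H) = ((⟨y, hyL⟩ * ⟨x, hxL⟩ : ↥L) : ↥L ⧸ H) :=
        h1
      have h3 := QuotientGroup.eq.mp h2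
      rw [hH', hkdef]
      exact ⟨_, h3, rfl⟩
    intro u hu
    have hku := hW₀c u (hW₀eq ▸ hu) k hk
    calc x * y * u * (x * y)⁻¹ = (x * y) * ((u * k) * k⁻¹) * (x * y)⁻¹ := by group
      _ = (x * y) * ((k * u) * k⁻¹) * (x * y)⁻¹ := by rw [hku]
      _ = y * x * u * (y * x)⁻¹ := by rw [hkdef]; group

end Cfsg.Agent.Lib.Helper38.TLPW3
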